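import Groth.Agent.Fga.DimCut
import Groth.Agent.CurvesB.DimPts
import Groth.Agent.Variety.K426.GeomPts
import Groth.Agent.VarietyB.DimTop
import Groth.Agent.Divis.CartierStalk
import Groth.Agent.AGF.K495.IntFG

/-!
# Local rings of curves over a field at closed points

* `isNagata_stalk`: local rings of schemes locally of finite type over a field are Nagata;
* `ringKrullDim_stalk_eq_one`: if all irreducible components have dimension one, the local rings at the closed points
  are one-dimensional;
* `exists_sub_mem`: over an algebraically closed field, the residue field at a closed point is the base field.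
-/

set_option autoImplicit false
universe u

open CategoryTheory CategoryTheory.Limits AlgebraicGeometry TopologicalSpace IsLocalRing

namespace K830.CurveStalk

variable (k : Type u) [Field k] (X : Scheme.{u}) [X.Over (Spec (CommRingCat.of k))]
  [LocallyOfFiniteType (X ↘ (Spec (CommRingCat.of k)))]

include k in
theorem isNagata_stalk (x : X) : CAlg.IsNagata (X.presheaf.stalk x) := by
  obtain ⟨_, ⟨W, hW, rfl⟩, hxW, -⟩ :=
    X.isBasis_affineOpens.exists_subset_of_mem_open (Set.mem_univ x) isOpen_univ
  have hft := LocallyOfFiniteType.finiteType_appLE (X ↘ (Spec (CommRingCat.of k))) (isAffineOpen_top _) hW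
    (show W ≤ (X ↘ (Spec (CommRingCat.of k))) ⁻¹ᵁ ⊤ from fun _ _ => trivial)
  let _ := ((X ↘ (Spec (CommRingCat.of k))).appLE ⊤ W (fun _ _ => trivial)).hom.toAlgebra
  have hft' : Algebra.FiniteType Γ(Spec (CommRingCat.of k), ⊤) Γ(X, W) := hft
  have h0 : CAlg.IsNagata Γ(Spec (CommRingCat.of k), ⊤) :=
    Groth.Agent.Ega4B.NagBasic.isNagata_of_ringEquiv (Scheme.ΓSpecIso (CommRingCat.of k)).symm.commRingCatIsoToRingEquiv
      (K495.IntFG.isNagata_field k)
  have h1 : CAlg.IsNagata Γ(X, W) := Groth.Agent.Ega4B.NagFinal.isNagata_of_finiteType h0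
  let _ := TopCat.Presheaf.algebra_section_stalk X.presheaf ⟨x, hxW⟩
  have := hW.isLocalization_stalk ⟨x, hxW⟩
  exact Groth.Agent.Ega4B.NagBasic.isNagata_localization h1 (hW.primeIdealOf ⟨x, hxW⟩).asIdeal.primeCompl _

include k in
/-- If every irreducible component of `X` has dimension `n`, then the local rings at closed points have dimension
at least `n`. -/
theorem le_ringKrullDim_stalk (n : ℕ) (hdim : ∀ Z ∈ irreducibleComponents (X : Type u), topologicalKrullDim Z = n)
    (x : X) (hx : IsClosed ({x} : Set X)) : (n : WithBot ℕ∞) ≤ ringKrullDim (X.presheaf.stalk x) := by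
  obtain ⟨Z, hZ, hxZ⟩ : ∃ Z ∈ irreducibleComponents (X : Type u), x ∈ Z :=
    ⟨irreducibleComponent x, irreducibleComponent_mem_irreducibleComponents x, mem_irreducibleComponent⟩
  have hZc : IsClosed Z := isClosed_of_mem_irreducibleComponents Z hZ
  let I : X.IdealSheafData := Scheme.IdealSheafData.vanishingIdeal ⟨Z, hZc⟩
  have hsup : (I.support : Set X) = Z := Scheme.IdealSheafData.coe_support_vanishingIdeal _
  have hr : Set.range I.subschemeι = Z := by rw [I.range_subschemeι, hsup]
  obtain ⟨z, hz⟩ : x ∈ Set.range I.subschemeι := by rw [hr]; exact hxZ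
  let e : I.subscheme ≃ₜ Set.range I.subschemeι := I.subschemeι.isEmbedding.toHomeomorph
  have hirr : IrreducibleSpace I.subscheme := by
    have h1 : IsIrreducible (Set.range I.subschemeι) := by
      rw [hr]
      exact hZ.1
    have := Subtype.irreducibleSpace h1
    exact e.symm.surjective.irreducibleSpace e.symm.continuous
  let : I.subscheme.Over (Spec (CommRingCat.of k)) := ⟨I.subschemeι ≫ (X ↘ (Spec (CommRingCat.of k)))⟩
  have : LocallyOfFiniteType (I.subscheme ↘ (Spec (CommRingCat.of k))) :=
    inferInstanceAs (LocallyOfFiniteType (I.subschemeι ≫ (X ↘ (Spec (CommRingCat.of k)))))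
  have hzc : IsClosed ({z} : Set I.subscheme) := by
    have h1 : ({z} : Set I.subscheme) = I.subschemeι ⁻¹' {x} := by
      ext w
      simp only [Set.mem_singleton_iff, Set.mem_preimage]
      constructor
      · rintro rfl; exact hz
      · intro hw
        exact I.subschemeι.isEmbedding.injective (hw.trans hz.symm)
    rw [h1]
    exact hx.preimage I.subschemeι.continuous
  have h1 := Groth.Agent.Fga.DimCut.ringKrullDim_stalk_eq k I.subscheme z hzc
  have h2 : topologicalKrullDim I.subscheme = n := by
    have h3 : topologicalKrullDim I.subscheme = topologicalKrullDim (Set.range I.subschemeι) :=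
      e.isHomeomorph.topologicalKrullDim_eq
    rw [h3, hr, hdim Z hZ]
  rw [← h2, ← h1]
  subst hz
  exact ringKrullDim_le_of_surjective _ (Groth.Agent.Divis.CartierStalk.stalkMap_subschemeι_surjective I z)

include k in
theorem ringKrullDim_stalk_eq (n : ℕ) (hdim : ∀ Z ∈ irreducibleComponents (X : Type u), topologicalKrullDim Z = n)
    (x : X) (hx : IsClosed ({x} : Set X)) : ringKrullDim (X.presheaf.stalk x) = n := by
  refine le_antisymm ?_ (le_ringKrullDim_stalk k X n hdim x hx)
  refine (Groth.Agent.CurvesB.DimPts.ringKrullDim_stalk_le x).trans ?_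
  rw [Groth.Agent.VarietyB.DimTop.topologicalKrullDim_eq_iSup_irreducibleComponents]
  exact iSup_le fun Z => (hdim Z.1 Z.2).le

/-- Over an algebraically closed field, the residue field at a closed point is the base field. -/
theorem exists_sub_mem [IsAlgClosed k] (x : X) (hx : IsClosed ({x} : Set X)) (z : X.presheaf.stalk x) :
    ∃ c : k, z - Curv2.stalkMap k X x c ∈ maximalIdeal (X.presheaf.stalk x) := by
  have h1 := (K426.GeomPts.isClosed_iff_finite k X x).mp hx
  let _ := (Curv2.resMap k X x).toAlgebra
  have h2 : Module.Finite k (X.residueField x) := h1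
  obtain ⟨c, hc⟩ := (IsAlgClosed.algebraMap_bijective_of_isIntegral (k := k) (K := X.residueField x)).2
    (X.residue x z)
  refine ⟨c, ?_⟩
  rw [← residue_eq_zero_iff, map_sub, sub_eq_zero]
  exact hc.symm

end K830.CurveStalk
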