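import Groth.Agent.Curves.K830.SubPow
import Groth.Agent.Variety.K428.Wedge

/-!
# Completions of one-dimensional local rings with minimal delta invariant

* `exists_completion_map`: a local ring `A` with a coefficient field `k` inside a ring `C` with finitely many maximal
  ideals, all with discrete valuation rings as local rings, such that `A` contains all elements of `C` congruent to a
  constant modulo all maximal ideals: the completion of `A` is the ring of tuples of power series with common constant
  term.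
* `exists_of_deltaInv`: the same for `A` reduced, Nagata, one-dimensional, with `δ + 1 = n` for the number of branches.
-/

set_option autoImplicit false
universe u

open IsLocalRing PowerSeries

namespace K830.MultiCross

section

variable {k A C' : Type*} [Field k] [CommRing A] [IsLocalRing A] [Algebra k A] [CommRing C'] [Algebra A C']

theorem iInf_pow {n : ℕ} (e : Fin n ≃ MaximalSpectrum C') (r : ℕ) :
    (⨅ i, (e i).asIdeal ^ r) = (⨅ i, (e i).asIdeal) ^ r := by
  have hcop : ∀ i j : Fin n, i ≠ j → (e i).asIdeal ⊔ (e j).asIdeal = ⊤ := fun i j hij =>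
    Ideal.IsMaximal.coprime_of_ne (e i).isMaximal (e j).isMaximal
      (fun h => hij (e.injective (MaximalSpectrum.ext h)))
  have h1 : ∀ s : ℕ, (⨅ i ∈ (Finset.univ : Finset (Fin n)), (e i).asIdeal ^ s) =
      ∏ i ∈ (Finset.univ : Finset (Fin n)), (e i).asIdeal ^ s := by
    intro s
    refine (Ideal.prod_eq_iInf_of_pairwise_isCoprime ?_).symm
    intro i _ j _ hij
    exact (Ideal.isCoprime_iff_sup_eq.mpr (hcop i j hij)).pow
  have h2 := h1 r
  have h3 := h1 1
  simp only [Finset.mem_univ, iInf_pos, pow_one] at h2 h3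
  rw [h2, h3, Finset.prod_pow]

variable (hinj : Function.Injective (algebraMap A C'))
  (hover : ∀ m : MaximalSpectrum C', m.asIdeal.comap (algebraMap A C') = maximalIdeal A)
  (hcond : ∀ c : C', (∃ b : A, ∀ m : MaximalSpectrum C', c - algebraMap A C' b ∈ m.asIdeal) →
    c ∈ (algebraMap A C').range)

include hinj hover hcond in
theorem exists_mem_pow {n : ℕ} (e : Fin n ≃ MaximalSpectrum C') (r : ℕ) (c : C')
    (hc : c ∈ (⨅ i, (e i).asIdeal) ^ (r + 1)) : ∃ a ∈ maximalIdeal A ^ (r + 1), algebraMap A C' a = c := by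
  have h0 : ∀ c ∈ (⨅ i, (e i).asIdeal), ∃ a ∈ maximalIdeal A, algebraMap A C' a = c := by
    intro c hc
    rw [Ideal.mem_iInf] at hc
    obtain ⟨a, rfl⟩ := hcond c ⟨0, fun m => by
      have := hc (e.symm m)
      rw [e.apply_symm_apply] at this
      rwa [map_zero, sub_zero]⟩
    refine ⟨a, ?_, rfl⟩
    have hnt : Nontrivial C' := hinj.nontrivial
    obtain ⟨M, hM⟩ := Ideal.exists_maximal C'
    have h1 := hc (e.symm ⟨M, hM⟩)
    rw [e.apply_symm_apply] at h1
    rw [← hover ⟨M, hM⟩]
    exact h1
  induction r generalizing c with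
  | zero =>
    rw [zero_add, pow_one] at hc
    rw [zero_add, pow_one]
    exact h0 c hc
  | succ r ih =>
    rw [pow_succ] at hc
    refine Submodule.mul_induction_on hc (fun x hx y hy => ?_) (fun x y hx hy => ?_)
    · obtain ⟨a, ha, rfl⟩ := ih x hx
      obtain ⟨b, hb, rfl⟩ := h0 y hy
      refine ⟨a * b, ?_, map_mul _ _ _⟩
      rw [pow_succ]
      exact Ideal.mul_mem_mul ha hb
    · obtain ⟨a, ha, rfl⟩ := hx
      obtain ⟨b, hb, rfl⟩ := hy
      exact ⟨a + b, add_mem ha hb, map_add _ _ _⟩

include hinj hover hcond in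
theorem mem_pow_iff {n : ℕ} (e : Fin n ≃ MaximalSpectrum C') (r : ℕ) (a : A) :
    a ∈ maximalIdeal A ^ r ↔ ∀ i, algebraMap A C' a ∈ (e i).asIdeal ^ r := by
  rw [← Ideal.mem_iInf, iInf_pow]
  constructor
  · intro ha
    have h1 : (maximalIdeal A).map (algebraMap A C') ≤ ⨅ i, (e i).asIdeal := by
      refine le_iInf fun i => ?_
      rw [Ideal.map_le_iff_le_comap, hover]
    have h2 := Ideal.mem_map_of_mem (algebraMap A C') ha
    rw [Ideal.map_pow] at h2
    exact Ideal.pow_right_mono h1 r h2
  · intro h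
    rcases r with _ | r
    · rw [pow_zero, Ideal.one_eq_top]; trivial
    obtain ⟨b, hb, hab⟩ := exists_mem_pow hinj hover hcond e r _ h
    rw [← hinj hab]
    exact hb

include hinj hover hcond in
/-- The completion of a local ring of a multicross. -/
theorem exists_completion_map (hres : ∀ z : A, ∃ c : k, z - algebraMap k A c ∈ maximalIdeal A)
    (hsurj : ∀ m : MaximalSpectrum C', Function.Surjective (fun b : A => Ideal.Quotient.mk m.asIdeal (algebraMap A C' b)))
    (hdvr : ∀ m : MaximalSpectrum C', ∃ _ : IsDomain (Localization.AtPrime m.asIdeal),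
      IsDiscreteValuationRing (Localization.AtPrime m.asIdeal))
    {n : ℕ} (e : Fin n ≃ MaximalSpectrum C') :
    ∃ φ : AdicCompletion (maximalIdeal A) A →+* (Fin n → PowerSeries k), Function.Injective φ ∧
      (∀ c : k, φ (algebraMap A _ (algebraMap k A c)) = fun _ => C c) ∧
      Set.range φ = {f : Fin n → PowerSeries k | ∀ i j : Fin n, constantCoeff (f i) = constantCoeff (f j)} ∧
      (∀ r a, a ∈ maximalIdeal A ^ r ↔ ∀ i, (X : PowerSeries k) ^ r ∣ φ (algebraMap A _ a) i) ∧
      (∀ (r : ℕ) (f : Fin n → PowerSeries k), (∀ i j : Fin n, constantCoeff (f i) = constantCoeff (f j)) →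
        ∃ a, ∀ i, (X : PowerSeries k) ^ r ∣ f i - φ (algebraMap A _ a) i) := by
  have hnt : Nontrivial C' := hinj.nontrivial
  obtain ⟨M₀, hM₀⟩ := Ideal.exists_maximal C'
  let i₀ : Fin n := e.symm ⟨M₀, hM₀⟩
  have hmap : ∀ (m : MaximalSpectrum C') (a : A), a ∈ maximalIdeal A → algebraMap A C' a ∈ m.asIdeal := fun m a ha => by
    rw [← hover m] at ha
    exact ha
  have hψ : ∀ i : Fin n, ∃ ψ : C' →+* PowerSeries k, (∀ c, ψ (algebraMap A C' (algebraMap k A c)) = C c) ∧
      (∀ r x, (X : PowerSeries k) ^ r ∣ ψ x ↔ x ∈ (e i).asIdeal ^ r) ∧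
      (∀ (r : ℕ) (f : PowerSeries k), ∃ x, (X : PowerSeries k) ^ r ∣ f - ψ x) := by
    intro i
    have := (e i).isMaximal
    refine SubPow.exists_map_of_maximal ((algebraMap A C').comp (algebraMap k A)) (e i).asIdeal (hdvr (e i)) ?_
    intro z
    obtain ⟨b, hb⟩ := hsurj (e i) (Ideal.Quotient.mk _ z)
    obtain ⟨c, hc⟩ := hres b
    refine ⟨c, ?_⟩
    have h1 : z - algebraMap A C' b ∈ (e i).asIdeal := by
      rw [← Ideal.Quotient.eq]
      exact hb.symm
    have h2 := add_mem h1 (hmap (e i) _ hc)
    rw [map_sub] at h2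
    simpa using h2
  choose ψ hψ1 hψ2 hψ3 using hψ
  let θ : A →+* (Fin n → PowerSeries k) := RingHom.pi fun i => (ψ i).comp (algebraMap A C')
  have hθ : ∀ a i, θ a i = ψ i (algebraMap A C' a) := fun a i => rfl
  have hS : ∀ f : Fin n → PowerSeries k, (∀ r : ℕ, ∃ a, ∀ i, (X : PowerSeries k) ^ r ∣ f i - θ a i) ↔
      f ∈ {f : Fin n → PowerSeries k | ∀ i j : Fin n, constantCoeff (f i) = constantCoeff (f j)} := by
    intro f
    constructor
    · intro h i j
      obtain ⟨a, ha⟩ := h 1
      obtain ⟨c, hc⟩ := hres a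
      have key : ∀ i, constantCoeff (f i) = c := by
        intro i
        have h1 := ha i
        have h2 : (X : PowerSeries k) ^ 1 ∣ ψ i (algebraMap A C' (a - algebraMap k A c)) := by
          rw [hψ2, pow_one]
          exact hmap _ _ hc
        have h3 := dvd_add h1 h2
        rw [hθ, map_sub, map_sub, hψ1, sub_add_sub_cancel, pow_one, X_dvd_iff, map_sub, constantCoeff_C,
          sub_eq_zero] at h3
        exact h3
      rw [key i, key j]
    · intro hf r
      choose x hx using fun i => hψ3 i (r + 1) (f i)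
      have hcop : Pairwise fun i j => IsCoprime ((e i).asIdeal ^ (r + 1)) ((e j).asIdeal ^ (r + 1)) := by
        intro i j hij
        exact (Ideal.isCoprime_iff_sup_eq.mpr (Ideal.IsMaximal.coprime_of_ne (e i).isMaximal (e j).isMaximal
          (fun h => hij (e.injective (MaximalSpectrum.ext h))))).pow
      obtain ⟨c, hc⟩ := Ideal.pi_quotient_surjective hcop fun i => Ideal.Quotient.mk _ (x i)
      have hfc : ∀ i, (X : PowerSeries k) ^ (r + 1) ∣ f i - ψ i c := by
        intro i
        have h1 : x i - c ∈ (e i).asIdeal ^ (r + 1) := by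
          rw [← Ideal.Quotient.eq]
          exact (hc i).symm
        rw [← hψ2, map_sub] at h1
        have := dvd_add (hx i) h1
        rwa [sub_add_sub_cancel] at this
      obtain ⟨a, ha⟩ := hcond c ⟨algebraMap k A (constantCoeff (f i₀)), fun m => by
        have h1 : (X : PowerSeries k) ^ 1 ∣ ψ (e.symm m) (c - algebraMap A C' (algebraMap k A (constantCoeff (f i₀)))) := by
          rw [pow_one, X_dvd_iff, map_sub, hψ1, map_sub, constantCoeff_C, hf i₀ (e.symm m), sub_eq_zero]
          have h2 := (pow_dvd_pow (X : PowerSeries k) (show 1 ≤ r + 1 by omega)).trans (hfc (e.symm m))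
          rw [pow_one, X_dvd_iff, map_sub, sub_eq_zero] at h2
          exact h2.symm
        rw [hψ2, e.apply_symm_apply, pow_one] at h1
        exact h1⟩
      refine ⟨a, fun i => ?_⟩
      rw [hθ, ha]
      exact (pow_dvd_pow (X : PowerSeries k) (Nat.le_succ r)).trans (hfc i)
  have hP : ∀ r a, a ∈ maximalIdeal A ^ r ↔ ∀ i, (X : PowerSeries k) ^ r ∣ θ a i := by
    intro r a
    rw [mem_pow_iff hinj hover hcond e r a]
    simp_rw [hθ, hψ2]
  obtain ⟨φ, hφ1, hφ2, hφ3⟩ := SubPow.exists_completion_map (maximalIdeal A) θ _ hS hP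
  refine ⟨φ, hφ1, fun c => ?_, hφ3, fun r a => ?_, fun r f hf => ?_⟩
  · rw [hφ2]
    funext i
    rw [hθ, hψ1]
  · rw [hφ2]
    exact hP r a
  · obtain ⟨a, ha⟩ := (hS f).mpr hf r
    exact ⟨a, fun i => by rw [hφ2]; exact ha i⟩

end

open K421.NormCl (Cl)

theorem numBranches_eq_cl (A : Type u) [CommRing A] [IsLocalRing A] [IsReduced A] [IsNoetherianRing A] :
    Brnch.numBranches A = ENat.card (MaximalSpectrum (Cl A)) := by
  have hmin : (minimalPrimes A).Finite := minimalPrimes.finite_of_isNoetherianRing A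
  have hbot : nilradical A = ⊥ := nilradical_eq_zero A
  let B := CAlg2.red A
  let e : A ≃+* B := RingEquiv.ofBijective (Ideal.Quotient.mk (nilradical A))
    ⟨by
      intro x y h
      rw [Ideal.Quotient.eq, hbot, Ideal.mem_bot, sub_eq_zero] at h
      exact h, Ideal.Quotient.mk_surjective⟩
  obtain ⟨ε, -⟩ := K428.Wedge.exists_equiv e
  unfold Brnch.numBranches
  rw [if_pos hmin]
  let ε' : MaximalSpectrum (Cl B) ≃ MaximalSpectrum (Cl A) :=
    { toFun := fun m => ⟨m.asIdeal.comap (ε : Cl A →+* Cl B), by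
        have := m.isMaximal
        exact Ideal.comap_isMaximal_of_surjective (ε : Cl A →+* Cl B) ε.surjective⟩
      invFun := fun m => ⟨m.asIdeal.comap (ε.symm : Cl B →+* Cl A), by
        have := m.isMaximal
        exact Ideal.comap_isMaximal_of_surjective (ε.symm : Cl B →+* Cl A) ε.symm.surjective⟩
      left_inv := fun m => by
        ext x
        change ε (ε.symm x) ∈ m.asIdeal ↔ _
        rw [ε.apply_symm_apply]
      right_inv := fun m => by
        ext x
        change ε.symm (ε x) ∈ m.asIdeal ↔ _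
        rw [ε.symm_apply_apply] }
  exact ENat.card_congr ε'

/-- The completion of a one-dimensional local ring whose delta invariant is the number of branches minus one. -/
theorem exists_of_deltaInv (k : Type u) [Field k] (A : Type u) [CommRing A] [IsLocalRing A] [Algebra k A] [IsReduced A]
    (hdim : ringKrullDim A = 1) (hN : CAlg.IsNagata A)
    (hres : ∀ z : A, ∃ c : k, z - algebraMap k A c ∈ maximalIdeal A)
    (n : ℕ) (hn : Brnch.numBranches A = n) (hδ : Curv2.deltaInv A + 1 = n) :
    ∃ φ : AdicCompletion (maximalIdeal A) A →+* (Fin n → PowerSeries k), Function.Injective φ ∧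
      (∀ c : k, φ (algebraMap A _ (algebraMap k A c)) = fun _ => C c) ∧
      Set.range φ = {f : Fin n → PowerSeries k | ∀ i j : Fin n, constantCoeff (f i) = constantCoeff (f j)} ∧
      (∀ r a, a ∈ maximalIdeal A ^ r ↔ ∀ i, (X : PowerSeries k) ^ r ∣ φ (algebraMap A _ a) i) ∧
      (∀ (r : ℕ) (f : Fin n → PowerSeries k), (∀ i j : Fin n, constantCoeff (f i) = constantCoeff (f j)) →
        ∃ a, ∀ i, (X : PowerSeries k) ^ r ∣ f i - φ (algebraMap A _ a) i) := by
  have hNoeth : IsNoetherianRing A := hN.1
  have hfin : Module.Finite A (Cl A) := K421.NormCl.finite_cl A hN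
  have hfinM : Finite (MaximalSpectrum (Cl A)) := K421.DeltaBranch.finite_maximalSpectrum A (Cl A)
  have : Fintype (MaximalSpectrum (Cl A)) := Fintype.ofFinite _
  rw [numBranches_eq_cl, ENat.card_eq_coe_fintype_card] at hn
  have hn' : Fintype.card (MaximalSpectrum (Cl A)) = n := by exact_mod_cast hn
  have hover : ∀ m : MaximalSpectrum (Cl A), m.asIdeal.comap (algebraMap A (Cl A)) = maximalIdeal A := fun m => by
    have := m.isMaximal
    exact K421.NormCl.comap_eq_maximalIdeal A m.asIdeal
  obtain ⟨hsurj, hcond⟩ := K428.Wedge.main A (Cl A) hover (by rw [hn']; exact hδ.le)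
  exact exists_completion_map (K421.NormCl.injective_cl A) hover hcond hres hsurj
    (fun m => by
      have := m.isMaximal
      exact K421.NormCl.isDiscreteValuationRing_cl A hdim m.asIdeal)
    (Fintype.equivFinOfCardEq hn').symm

end K830.MultiCross
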