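import Groth.Agent.Curves.K830.GeomCount
import Groth.Agent.StrictSS.K866.NodeLocal
import Mathlib.RingTheory.Polynomial.Eisenstein.Basic
import Mathlib.Algebra.Order.SuccPred.WithBot

/-!
# The normalization of a node-like local ring

A Noetherian node-like local ring `A` (maximal ideal `(a, b)` with a nondegenerate quadratic relation, no power of the
maximal ideal principal) is reduced of dimension one; its normalization is `A + A θ`, `θ = a / b`; its delta invariant
is one and it has two geometric branches.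
-/

set_option autoImplicit false
universe u

open IsLocalRing nonZeroDivisors

namespace K830.NodeNorm

open Groth.Agent.CurvesB.Node K421.NormCl GeomCount

/-- Coefficients of a relation between minimal generators. -/
theorem mem_of_not_principal {A : Type*} [CommRing A] [IsLocalRing A] {g h s t : A}
    (hn : ¬ (Ideal.span {g, h} : Ideal A).IsPrincipal)
    (hst : s * g + t * h ∈ maximalIdeal A * Ideal.span {g, h}) : s ∈ maximalIdeal A ∧ t ∈ maximalIdeal A := by
  classical
  have hfg : (Ideal.span {g, h} : Ideal A).FG := (Submodule.fg_span (Set.toFinite _))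
  have key : ∀ g' : A, (Ideal.span {g, h} : Ideal A) ≤ Ideal.span {g'} ⊔ maximalIdeal A * Ideal.span {g, h} →
      g' ∈ (Ideal.span {g, h} : Ideal A) → False := by
    intro g' h1 h2
    have h3 := Submodule.le_of_le_smul_of_le_jacobson_bot hfg (maximalIdeal_le_jacobson ⊥) h1
    refine hn ⟨g', le_antisymm h3 ?_⟩
    rw [Ideal.submodule_span_eq, Ideal.span_singleton_le_iff_mem]
    exact h2
  constructor
  · by_contra hs
    have hu : IsUnit s := by rwa [mem_maximalIdeal, mem_nonunits_iff, not_not] at hs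
    obtain ⟨s', hs'⟩ := hu.exists_left_inv
    refine key h ?_ (Ideal.subset_span (by simp))
    rw [Ideal.span_le]
    rintro x (hx | hx)
    · rw [hx, SetLike.mem_coe, Submodule.mem_sup]
      refine ⟨-s' * t * h, Ideal.mul_mem_left _ _ (Ideal.mem_span_singleton_self h), s' * (s * g + t * h),
        Ideal.mul_mem_left _ _ hst, ?_⟩
      linear_combination g * hs'
    · rw [Set.mem_singleton_iff.mp hx]
      exact Submodule.mem_sup_left (Ideal.mem_span_singleton_self _)
  · by_contra ht
    have hu : IsUnit t := by rwa [mem_maximalIdeal, mem_nonunits_iff, not_not] at ht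
    obtain ⟨t', ht'⟩ := hu.exists_left_inv
    refine key g ?_ (Ideal.subset_span (by simp))
    rw [Ideal.span_le]
    rintro x (hx | hx)
    · rw [hx]
      exact Submodule.mem_sup_left (Ideal.mem_span_singleton_self _)
    · rw [Set.mem_singleton_iff.mp hx, SetLike.mem_coe, Submodule.mem_sup]
      refine ⟨-t' * s * g, Ideal.mul_mem_left _ _ (Ideal.mem_span_singleton_self g), t' * (s * g + t * h),
        Ideal.mul_mem_left _ _ hst, ?_⟩
      linear_combination h * ht'

section Basic

variable {A : Type*} [CommRing A] [IsLocalRing A] {a b β γ : A}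
  (hm : maximalIdeal A = Ideal.span {a, b}) (hd : IsUnit (4 * γ - β ^ 2)) (hr : a ^ 2 + β * a * b + γ * b ^ 2 = 0)
  (hn : ∀ n : ℕ, 1 ≤ n → ¬ (maximalIdeal A ^ n).IsPrincipal)

include hm hr in
theorem pow_eq (n : ℕ) : maximalIdeal A ^ (n + 1) = Ideal.span {a * b ^ n, b ^ (n + 1)} := by
  rw [hm]
  exact pow_succ_eq_span_of_isUnit_left (α := 1) isUnit_one (by rw [one_mul]; exact hr) n

include hm hr hn in
theorem coeff_mem (n : ℕ) (s t : A) (h : s * (a * b ^ n) + t * b ^ (n + 1) ∈ maximalIdeal A ^ (n + 2)) :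
    s ∈ maximalIdeal A ∧ t ∈ maximalIdeal A := by
  refine mem_of_not_principal (g := a * b ^ n) (h := b ^ (n + 1)) ?_ ?_
  · rw [← pow_eq hm hr]
    exact hn _ (Nat.le_add_left 1 n)
  · rw [← pow_eq hm hr, ← pow_succ']
    exact h

include hm hr in
/-- The leading form of a nonunit. -/
theorem exists_leading [IsNoetherianRing A] {x : A} (hx0 : x ≠ 0) (hxm : x ∈ maximalIdeal A) :
    ∃ (n : ℕ) (s t : A), x = s * (a * b ^ n) + t * b ^ (n + 1) ∧ ¬ (s ∈ maximalIdeal A ∧ t ∈ maximalIdeal A) := by
  have h1 : ∃ n : ℕ, x ∉ maximalIdeal A ^ n := by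
    by_contra hcon
    push Not at hcon
    have h2 : x ∈ ⨅ n : ℕ, maximalIdeal A ^ n := by
      rw [Ideal.mem_iInf]
      exact hcon
    rw [Ideal.iInf_pow_eq_bot_of_isLocalRing _ (maximalIdeal.isMaximal A).ne_top, Ideal.mem_bot] at h2
    exact hx0 h2
  classical
  obtain ⟨m, hm1, hm2⟩ : ∃ m, x ∉ maximalIdeal A ^ m ∧ ∀ j < m, x ∈ maximalIdeal A ^ j := by
    refine ⟨Nat.find h1, Nat.find_spec h1, fun j hj => ?_⟩
    by_contra h2
    exact Nat.find_min h1 hj h2
  have hm3 : 2 ≤ m := by
    by_contra h2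
    have h3 : m = 0 ∨ m = 1 := by omega
    rcases h3 with rfl | rfl
    · exact hm1 (by rw [pow_zero, Ideal.one_eq_top]; trivial)
    · exact hm1 (by rwa [pow_one])
  obtain ⟨n, rfl⟩ := Nat.exists_eq_add_of_le hm3
  have h4 := hm2 (n + 1) (by omega)
  rw [pow_eq hm hr, Ideal.mem_span_pair] at h4
  obtain ⟨s, t, hst⟩ := h4
  refine ⟨n, s, t, hst.symm, fun h5 => hm1 ?_⟩
  rw [← hst, show 2 + n = (n + 1) + 1 by ring, pow_succ']
  refine add_mem (Ideal.mul_mem_mul h5.1 ?_) (Ideal.mul_mem_mul h5.2 ?_)
  · rw [pow_eq hm hr]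
    exact Ideal.subset_span (by simp)
  · rw [pow_eq hm hr]
    exact Ideal.subset_span (by simp)

include hd in
/-- The quadratic form is anisotropic on squares. -/
theorem mem_of_sq {p q : A} (h1 : 2 * p * q - β * p ^ 2 ∈ maximalIdeal A) (h2 : q ^ 2 - γ * p ^ 2 ∈ maximalIdeal A) :
    p ∈ maximalIdeal A ∧ q ∈ maximalIdeal A := by
  have hprime := (maximalIdeal.isMaximal A).isPrime
  have hp : p ∈ maximalIdeal A := by
    by_contra hp
    have h3 : 2 * q - β * p ∈ maximalIdeal A := by
      have h4 : p * (2 * q - β * p) ∈ maximalIdeal A := by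
        have h5 : p * (2 * q - β * p) = 2 * p * q - β * p ^ 2 := by ring
        rwa [h5]
      exact (hprime.mem_or_mem h4).resolve_left hp
    have h4 : (4 * γ - β ^ 2) * p ^ 2 ∈ maximalIdeal A := by
      have h5 : (4 * γ - β ^ 2) * p ^ 2 = (2 * q - β * p) * (2 * q + β * p) - 4 * (q ^ 2 - γ * p ^ 2) := by ring
      rw [h5]
      exact sub_mem (Ideal.mul_mem_right _ _ h3) (Ideal.mul_mem_left _ _ h2)
    rcases hprime.mem_or_mem h4 with h5 | h5
    · exact (mem_nonunits_iff.mp ((mem_maximalIdeal _).mp h5)) hd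
    · exact hp (hprime.mem_of_pow_mem 2 h5)
  refine ⟨hp, ?_⟩
  have h3 : q ^ 2 ∈ maximalIdeal A := by
    have h4 := add_mem h2 (Ideal.mul_mem_left (maximalIdeal A) (γ * p) hp)
    have h5 : q ^ 2 - γ * p ^ 2 + γ * p * p = q ^ 2 := by ring
    rwa [h5] at h4
  exact hprime.mem_of_pow_mem 2 h3

include hm hn in
theorem ne_zero : b ≠ 0 := by
  rintro rfl
  refine hn 1 le_rfl ⟨a, ?_⟩
  rw [pow_one, hm, Ideal.submodule_span_eq]
  refine le_antisymm ?_ (Ideal.span_mono (by simp))
  rw [Ideal.span_le]
  rintro x (hx | hx)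
  · rw [hx]
    exact Ideal.mem_span_singleton_self a
  · rw [Set.mem_singleton_iff.mp hx]
    exact Ideal.zero_mem _

include hm hr hn in
/-- `b` is a nonzerodivisor. -/
theorem mem_nonZeroDivisors [IsNoetherianRing A] : b ∈ A⁰ := by
  rw [mem_nonZeroDivisors_iff_right]
  intro x hx
  by_contra hx0
  by_cases hxm : x ∈ maximalIdeal A
  · obtain ⟨n, s, t, rfl, hst⟩ := exists_leading hm hr hx0 hxm
    apply hst
    refine coeff_mem hm hr hn (n + 1) s t ?_
    have h1 : s * (a * b ^ (n + 1)) + t * b ^ (n + 1 + 1) = (s * (a * b ^ n) + t * b ^ (n + 1)) * b := by ring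
    rw [h1, hx]
    exact Ideal.zero_mem _
  · have hu : IsUnit x := by rwa [mem_maximalIdeal, mem_nonunits_iff, not_not] at hxm
    exact ne_zero hm hn ((hu.mul_right_eq_zero).mp hx)

include hm hd hr hn in
theorem isReduced [IsNoetherianRing A] : IsReduced A := by
  rw [isReduced_iff_pow_one_lt 2 (by norm_num)]
  intro x hx
  by_contra hx0
  by_cases hxm : x ∈ maximalIdeal A
  · obtain ⟨n, s, t, rfl, hst⟩ := exists_leading hm hr hx0 hxm
    apply hst
    have h1 : (2 * s * t - β * s ^ 2) * (a * b ^ (2 * n + 1)) + (t ^ 2 - γ * s ^ 2) * b ^ (2 * n + 1 + 1) = 0 := by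
      have h2 : (s * (a * b ^ n) + t * b ^ (n + 1)) ^ 2 = (s ^ 2 * b ^ (2 * n)) * (a ^ 2 + β * a * b + γ * b ^ 2) +
          ((2 * s * t - β * s ^ 2) * (a * b ^ (2 * n + 1)) + (t ^ 2 - γ * s ^ 2) * b ^ (2 * n + 1 + 1)) := by ring
      rw [hr, mul_zero, zero_add] at h2
      rw [← h2, hx]
    obtain ⟨h2, h3⟩ := coeff_mem hm hr hn (2 * n + 1) _ _ (by rw [h1]; exact Ideal.zero_mem _)
    exact mem_of_sq hd h2 h3
  · have hu : IsUnit x := by rwa [mem_maximalIdeal, mem_nonunits_iff, not_not] at hxm
    exact (hu.pow 2).ne_zero hx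

include hn in
theorem one_le_ringKrullDim [IsNoetherianRing A] : ¬ Ring.KrullDimLE 0 A := by
  intro h
  have h1 : IsArtinianRing A := isArtinianRing_iff_isNoetherianRing_krullDimLE_zero.mpr ⟨inferInstance, h⟩
  obtain ⟨n, hn1⟩ := IsArtinianRing.isNilpotent_jacobson_bot (R := A)
  rw [jacobson_eq_maximalIdeal ⊥ bot_ne_top] at hn1
  refine hn (n + 1) (Nat.le_add_left 1 n) ?_
  rw [pow_succ, hn1, zero_mul]
  exact ⟨0, by rw [Ideal.submodule_span_eq, Ideal.span_singleton_eq_bot.mpr rfl]; rfl⟩

end Basic

theorem ringKrullDim_eq_one {A : Type*} [CommRing A] [IsLocalRing A] [IsNoetherianRing A] (h : NodeLike A) :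
    ringKrullDim A = 1 := by
  refine le_antisymm (K866.NodeLocal.ringKrullDim_le_one h) ?_
  have h1 := one_le_ringKrullDim h.not_principal
  rw [Ring.krullDimLE_iff, not_le] at h1
  exact (WithBot.one_le_iff_pos _).mpr h1

section Normalization

variable {A : Type u} [CommRing A] [IsLocalRing A] [IsNoetherianRing A] {a b β γ : A}
  (hm : maximalIdeal A = Ideal.span {a, b}) (hd : IsUnit (4 * γ - β ^ 2)) (hr : a ^ 2 + β * a * b + γ * b ^ 2 = 0)
  (hn : ∀ n : ℕ, 1 ≤ n → ¬ (maximalIdeal A ^ n).IsPrincipal)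

/-- The generator `a / b` of the normalization, in the total ring of fractions. -/
noncomputable def theta (hb : b ∈ A⁰) (a : A) : FractionRing A := IsLocalization.mk' _ a ⟨b, hb⟩

omit [IsLocalRing A] [IsNoetherianRing A] in
theorem theta_mul (hb : b ∈ A⁰) : theta hb a * algebraMap A (FractionRing A) b = algebraMap A (FractionRing A) a :=
  IsLocalization.mk'_spec _ a ⟨b, hb⟩

omit [IsLocalRing A] [IsNoetherianRing A] in
include hr in
theorem theta_sq (hb : b ∈ A⁰) : theta hb a ^ 2 + algebraMap A (FractionRing A) β * theta hb a +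
    algebraMap A (FractionRing A) γ = 0 := by
  have hu : IsUnit (algebraMap A (FractionRing A) b) := IsLocalization.map_units (FractionRing A) ⟨b, hb⟩
  have h1 := congrArg (algebraMap A (FractionRing A)) hr
  rw [map_add, map_add, map_mul, map_mul, map_mul, map_pow, map_pow, map_zero, ← theta_mul (a := a) hb] at h1
  have h2 : (algebraMap A (FractionRing A) b) ^ 2 * (theta hb a ^ 2 + algebraMap A (FractionRing A) β * theta hb a +
    algebraMap A (FractionRing A) γ) = 0 := by linear_combination h1
  exact ((hu.pow 2).mul_right_eq_zero).mp h2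

omit [IsNoetherianRing A] in
include hm hr hn in
/-- Independence of `1` and `θ` modulo the maximal ideal. -/
theorem independent (hb : b ∈ A⁰) {p q x : A} (hx : x ∈ maximalIdeal A)
    (h : algebraMap A (FractionRing A) p + algebraMap A (FractionRing A) q * theta hb a =
      algebraMap A (FractionRing A) x) : p ∈ maximalIdeal A ∧ q ∈ maximalIdeal A := by
  have hinj := IsFractionRing.injective A (FractionRing A)
  have h1 : q * (a * b ^ 0) + p * b ^ (0 + 1) = x * b := by
    apply hinj
    rw [map_add, map_mul, map_mul, map_mul, map_mul, map_pow, map_pow, ← theta_mul (a := a) hb, ← h]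
    ring
  have h2 : b ∈ maximalIdeal A := by
    rw [hm]
    exact Ideal.subset_span (by simp)
  have h3 := coeff_mem hm hr hn 0 q p (by
    rw [h1, zero_add, pow_two]
    exact Ideal.mul_mem_mul hx h2)
  exact ⟨h3.2, h3.1⟩

include hm hd hr hn in
/-- Every element of the normalization is a combination of `1` and `θ`. -/
theorem exists_of_isIntegral (hb : b ∈ A⁰) {x : FractionRing A} (hx : IsIntegral A x) :
    ∃ p q : A, x = algebraMap A (FractionRing A) p + algebraMap A (FractionRing A) q * theta hb a := by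
  have hN : NodeLike A := ⟨⟨a, b, 1, β, γ, hm, by rwa [mul_one], by rw [one_mul]; exact hr⟩, hn⟩
  have hdim := ringKrullDim_eq_one hN
  have hinj := IsFractionRing.injective A (FractionRing A)
  have hub : IsUnit (algebraMap A (FractionRing A) b) := IsLocalization.map_units (FractionRing A) ⟨b, hb⟩
  have ham : a ∈ maximalIdeal A := by
    rw [hm]
    exact Ideal.subset_span (by simp)
  have hbm : b ∈ maximalIdeal A := by
    rw [hm]
    exact Ideal.subset_span (by simp)
  have hsq := theta_sq hr hb
  -- the subring `A + A θ`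
  let R : Subring (FractionRing A) :=
    { carrier := {x | ∃ p q : A, x = algebraMap A (FractionRing A) p + algebraMap A (FractionRing A) q * theta hb a}
      mul_mem' := by
        rintro _ _ ⟨p, q, rfl⟩ ⟨p', q', rfl⟩
        refine ⟨p * p' - q * q' * γ, p * q' + q * p' - q * q' * β, ?_⟩
        rw [map_sub, map_sub, map_add, map_mul, map_mul, map_mul, map_mul, map_mul, map_mul, map_mul]
        linear_combination (algebraMap A (FractionRing A) q * algebraMap A (FractionRing A) q') * hsq
      one_mem' := ⟨1, 0, by rw [map_one, map_zero, zero_mul, add_zero]⟩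
      add_mem' := by
        rintro _ _ ⟨p, q, rfl⟩ ⟨p', q', rfl⟩
        refine ⟨p + p', q + q', ?_⟩
        rw [map_add, map_add]
        ring
      zero_mem' := ⟨0, 0, by rw [map_zero, zero_mul, add_zero]⟩
      neg_mem' := by
        rintro _ ⟨p, q, rfl⟩
        refine ⟨-p, -q, ?_⟩
        rw [map_neg, map_neg]
        ring }
  have hAR : ∀ c : A, algebraMap A (FractionRing A) c ∈ R := fun c => ⟨c, 0, by rw [map_zero, zero_mul, add_zero]⟩
  let bR : R := ⟨algebraMap A (FractionRing A) b, hAR b⟩
  -- divisibility by `b`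
  have hdvd : ∀ y : R, bR ∣ y ↔ ∃ z ∈ maximalIdeal A, (y : FractionRing A) = algebraMap A (FractionRing A) z := by
    intro y
    constructor
    · rintro ⟨⟨_, p, q, rfl⟩, rfl⟩
      refine ⟨p * b + q * a, add_mem (Ideal.mul_mem_left _ _ hbm) (Ideal.mul_mem_left _ _ ham), ?_⟩
      change algebraMap A (FractionRing A) b * _ = _
      rw [map_add, map_mul, map_mul, ← theta_mul (a := a) hb]
      ring
    · rintro ⟨z, hz, hyz⟩
      rw [hm, Ideal.mem_span_pair] at hz
      obtain ⟨q, p, rfl⟩ := hz
      refine ⟨⟨_, p, q, rfl⟩, ?_⟩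
      apply Subtype.ext
      rw [hyz]
      change _ = algebraMap A (FractionRing A) b * _
      rw [map_add, map_mul, map_mul, ← theta_mul (a := a) hb]
      ring
  have hrad : IsRadical bR := by
    rw [isRadical_iff_pow_one_lt 2 (by norm_num)]
    rintro ⟨_, p, q, rfl⟩ h1
    rw [hdvd] at h1 ⊢
    obtain ⟨z, hz, hz'⟩ := h1
    have h2 : algebraMap A (FractionRing A) (p ^ 2 - γ * q ^ 2) +
        algebraMap A (FractionRing A) (2 * q * p - β * q ^ 2) * theta hb a = algebraMap A (FractionRing A) z := by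
      rw [← hz']
      change _ = (algebraMap A (FractionRing A) p + algebraMap A (FractionRing A) q * theta hb a) ^ 2
      rw [map_sub, map_sub, map_mul, map_mul, map_mul, map_mul, map_pow, map_pow, map_ofNat]
      linear_combination (-(algebraMap A (FractionRing A) q) ^ 2) * hsq
    obtain ⟨h3, h4⟩ := independent hm hr hn hb hz h2
    obtain ⟨h5, h6⟩ := mem_of_sq hd h4 h3
    rw [hm, Ideal.mem_span_pair] at h5
    obtain ⟨s, t, hst⟩ := h5
    -- `q θ = s a θ + t b θ = s (- β a - γ b) + t a`
    refine ⟨p + (s * (-β * a - γ * b) + t * a), add_mem h6 (add_mem (Ideal.mul_mem_left _ _ (sub_mem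
      (Ideal.mul_mem_left _ _ ham) (Ideal.mul_mem_left _ _ hbm))) (Ideal.mul_mem_left _ _ ham)), ?_⟩
    change algebraMap A (FractionRing A) p + algebraMap A (FractionRing A) q * theta hb a = _
    rw [← hst]
    simp only [map_add, map_mul, map_sub, map_neg]
    rw [← theta_mul (a := a) hb]
    linear_combination (algebraMap A (FractionRing A) s * algebraMap A (FractionRing A) b) * hsq
  -- descent along multiplication by `b`
  have hstep : ∀ y : FractionRing A, IsIntegral A y → algebraMap A (FractionRing A) b * y ∈ R → y ∈ R := by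
    rintro y ⟨P, hP, hPy⟩ hy
    let ι : A →+* R := (algebraMap A (FractionRing A)).codRestrict R hAR
    have h1 : (P.map ι).eval₂ R.subtype y = 0 := by
      rw [Polynomial.eval₂_map]
      exact hPy
    have h2 := Polynomial.dvd_pow_natDegree_of_eval₂_eq_zero (f := R.subtype) Subtype.val_injective
      (hP.map ι) bR ⟨_, hy⟩ y h1 rfl
    obtain ⟨w, hw⟩ := hrad _ _ h2
    have h3 : algebraMap A (FractionRing A) b * y = algebraMap A (FractionRing A) b * w := congrArg Subtype.val hw
    rw [hub.mul_left_cancel h3]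
    exact w.2
  have hpow : ∀ (n : ℕ) (y : FractionRing A), IsIntegral A y → algebraMap A (FractionRing A) b ^ n * y ∈ R → y ∈ R := by
    intro n
    induction n with
    | zero =>
      intro y _ hy
      rwa [pow_zero, one_mul] at hy
    | succ n ih =>
      intro y hy h1
      refine hstep y hy (ih _ ((isIntegral_algebraMap).mul hy) ?_)
      rwa [← mul_assoc, ← pow_succ]
  obtain ⟨⟨c, s⟩, hcs⟩ := IsLocalization.surj A⁰ x
  have hsr : ∃ n : ℕ, b ^ n ∈ Ideal.span {(s : A)} := by
    have h1 : b ∈ (Ideal.span {(s : A)}).radical := by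
      rw [Ideal.radical_eq_sInf, Ideal.mem_sInf]
      rintro P ⟨hP1, hP2⟩
      rcases K421.DimOne.mem_minimalPrimes_or hdim P hP2 with h2 | h2
      · exfalso
        have h3 : (s : A) ∈ P := hP1 (Ideal.mem_span_singleton_self _)
        exact (Ideal.disjoint_nonZeroDivisors_of_mem_minimalPrimes h2).le_bot ⟨h3, s.2⟩
      · rw [h2]
        exact hbm
    exact h1
  obtain ⟨n, hn'⟩ := hsr
  rw [Ideal.mem_span_singleton] at hn'
  obtain ⟨w, hw⟩ := hn'
  have h1 : x ∈ R := by
    refine hpow n x hx ?_
    have h2 : algebraMap A (FractionRing A) b ^ n * x = algebraMap A (FractionRing A) (w * c) := by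
      rw [← map_pow, hw, map_mul, map_mul, ← hcs]
      ring
    rw [h2]
    exact hAR _
  exact h1

end Normalization

/-- The structure of the normalization of a node-like local ring. -/
theorem exists_theta {A : Type u} [CommRing A] [IsLocalRing A] [IsNoetherianRing A] (h : NodeLike A) :
    ∃ (θ : Cl A) (β γ : A), (∀ c : Cl A, ∃ p q : A, c = algebraMap A (Cl A) p + algebraMap A (Cl A) q * θ) ∧
      θ ^ 2 + algebraMap A (Cl A) β * θ + algebraMap A (Cl A) γ = 0 ∧ IsUnit (4 * γ - β ^ 2) ∧
      (∀ p q : A, algebraMap A (Cl A) p + algebraMap A (Cl A) q * θ = 0 → p ∈ maximalIdeal A ∧ q ∈ maximalIdeal A) ∧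
      (∀ x ∈ maximalIdeal A, ∃ y : A, algebraMap A (Cl A) x * θ = algebraMap A (Cl A) y) ∧
      ∀ z : A, θ ≠ algebraMap A (Cl A) z := by
  obtain ⟨a, b, β, γ, hm, hd, hr⟩ := NodeLike.exists_monic h
  have hn := h.not_principal
  have hb : b ∈ A⁰ := mem_nonZeroDivisors hm hr hn
  have hsq := theta_sq hr hb
  have hθ : IsIntegral A (theta hb a) := by
    refine ⟨Polynomial.X ^ 2 + Polynomial.C β * Polynomial.X + Polynomial.C γ, by monicity!, ?_⟩
    simpa using hsq
  have hbm : b ∈ maximalIdeal A := by
    rw [hm]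
    exact Ideal.subset_span (by simp)
  refine ⟨⟨theta hb a, hθ⟩, β, γ, ?_, Subtype.ext hsq, hd, ?_, ?_, ?_⟩
  · intro c
    obtain ⟨p, q, hpq⟩ := exists_of_isIntegral hm hd hr hn hb c.2
    exact ⟨p, q, Subtype.ext hpq⟩
  · intro p q hpq
    refine independent hm hr hn hb (Ideal.zero_mem _) (x := 0) ?_
    rw [map_zero]
    exact congrArg Subtype.val hpq
  · intro x hx
    rw [hm, Ideal.mem_span_pair] at hx
    obtain ⟨s, t, rfl⟩ := hx
    refine ⟨s * (-β * a - γ * b) + t * a, ?_⟩
    apply Subtype.ext
    change algebraMap A (FractionRing A) (s * a + t * b) * theta hb a = algebraMap A (FractionRing A) _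
    simp only [map_add, map_mul, map_sub, map_neg]
    rw [← theta_mul (a := a) hb]
    linear_combination (algebraMap A (FractionRing A) s * algebraMap A (FractionRing A) b) * hsq
  · intro z hz
    have h1 : theta hb a = algebraMap A (FractionRing A) z := congrArg Subtype.val hz
    have h2 : algebraMap A (FractionRing A) (z * b) = algebraMap A (FractionRing A) a := by
      rw [map_mul, ← h1, theta_mul]
    have h3 : z * b = a := IsFractionRing.injective A (FractionRing A) h2
    refine hn 1 le_rfl ⟨b, ?_⟩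
    rw [pow_one, Ideal.submodule_span_eq]
    refine le_antisymm ?_ ((Ideal.span_singleton_le_iff_mem _).mpr hbm)
    rw [hm, Ideal.span_le]
    rintro x (hx | hx)
    · rw [hx, ← h3]
      exact Ideal.mul_mem_left _ _ (Ideal.mem_span_singleton_self b)
    · rw [Set.mem_singleton_iff.mp hx]
      exact Ideal.mem_span_singleton_self b

/-- The delta invariant of a node-like local ring is one. -/
theorem deltaInv_eq_one {A : Type u} [CommRing A] [IsLocalRing A] [IsNoetherianRing A] (h : NodeLike A) :
    Curv2.deltaInv A = 1 := by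
  obtain ⟨θ, β, γ, hgen, hrel, hd, hind, hmul, hne⟩ := exists_theta h
  let D := Cl A ⧸ LinearMap.range (Algebra.linearMap A (Cl A))
  let f : A →ₗ[A] D := LinearMap.toSpanSingleton A D (Submodule.Quotient.mk θ)
  have hf : Function.Surjective f := by
    intro z
    obtain ⟨c, rfl⟩ := Submodule.Quotient.mk_surjective _ z
    obtain ⟨p, q, rfl⟩ := hgen c
    refine ⟨q, ?_⟩
    rw [LinearMap.toSpanSingleton_apply, ← Submodule.Quotient.mk_smul, Submodule.Quotient.eq]
    refine ⟨-p, ?_⟩
    rw [Algebra.linearMap_apply, map_neg, Algebra.smul_def]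
    ring
  have hker : LinearMap.ker f = maximalIdeal A := by
    refine le_antisymm (le_maximalIdeal ?_) ?_
    · intro htop
      have h1 : (1 : A) ∈ LinearMap.ker f := by rw [htop]; trivial
      rw [LinearMap.mem_ker, LinearMap.toSpanSingleton_apply, one_smul, Submodule.Quotient.mk_eq_zero] at h1
      obtain ⟨z, hz⟩ := h1
      exact hne z hz.symm
    · intro x hx
      rw [LinearMap.mem_ker, LinearMap.toSpanSingleton_apply, ← Submodule.Quotient.mk_smul,
        Submodule.Quotient.mk_eq_zero]
      obtain ⟨y, hy⟩ := hmul x hx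
      refine ⟨y, ?_⟩
      rw [Algebra.linearMap_apply, ← hy, Algebra.smul_def]
  have h1 : Module.length A D = Module.length A (A ⧸ maximalIdeal A) := by
    rw [← (f.quotKerEquivOfSurjective hf).length_eq, hker]
  change Module.length A D = 1
  rw [h1, Module.length_eq_one_iff]
  exact isSimpleModule_iff_isCoatom.mpr (maximalIdeal.isMaximal A).out

/-- A node-like local ring is reduced. -/
theorem isReduced_of_nodeLike {A : Type*} [CommRing A] [IsLocalRing A] [IsNoetherianRing A] (h : NodeLike A) :
    IsReduced A := by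
  obtain ⟨a, b, β, γ, hm, hd, hr⟩ := NodeLike.exists_monic h
  exact isReduced hm hd hr h.not_principal

/-- A node-like local ring has two geometric branches. -/
theorem numGeomBranches_eq_two {A : Type u} [CommRing A] [IsLocalRing A] [IsNoetherianRing A] (h : NodeLike A) :
    Brnch.numGeomBranches A = 2 := by
  have hred : IsReduced A := isReduced_of_nodeLike h
  obtain ⟨θ, β, γ, hgen, hrel, hd, hind, hmul, hne⟩ := exists_theta h
  rw [numGeomBranches_eq]
  refine card_eq_two (toCl A) ?_ θ β γ hgen hrel hind hd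
  ext x
  rw [RingHom.mem_ker, RingHom.comp_apply, map_eq_zero, residue_eq_zero_iff]

end K830.NodeNorm
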