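import Mathlib.RingTheory.MvPowerSeries.Rename
import Mathlib.RingTheory.PowerSeries.Basic
import Mathlib.RingTheory.PowerSeries.Order
import Mathlib.RingTheory.Ideal.Quotient.Operations

/-!
# The ring of the coordinate axes

* `hom`: the map `k[[T_1, …, T_n]] → ∏ k[[t]]` restricting a power series to the coordinate axes;
* `mem_span_iff`: its kernel is the ideal generated by the products `T_i T_j`, `i ≠ j`;
* `range_hom`: its image is the ring of tuples with common constant term (for `n ≥ 1`);
* `exists_equiv`: any ring embedded in `∏ k[[t]]` with this image is isomorphic to `k[[T_1, …, T_n]]/(T_i T_j)`.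
-/

set_option autoImplicit false

open PowerSeries

namespace K830.Axes

variable (k : Type*) [Field k] (n : ℕ)

/-- The inclusion of one variable. -/
def emb (i : Fin n) : Unit ↪ Fin n := ⟨fun _ => i, fun _ _ _ => rfl⟩

/-- Restriction of a power series to the coordinate axes. -/
noncomputable def hom : MvPowerSeries (Fin n) k →+* (Fin n → PowerSeries k) :=
  RingHom.pi fun i => ((MvPowerSeries.killCompl (emb n i) : MvPowerSeries (Fin n) k →ₐ[k] MvPowerSeries Unit k) :
    MvPowerSeries (Fin n) k →+* MvPowerSeries Unit k)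

variable {k n}

theorem coeff_hom (f : MvPowerSeries (Fin n) k) (i : Fin n) (d : ℕ) :
    PowerSeries.coeff d (hom k n f i) = MvPowerSeries.coeff (Finsupp.single i d) f := by
  change MvPowerSeries.coeff (Finsupp.single () d) (MvPowerSeries.killCompl (emb n i) f) = _
  rw [MvPowerSeries.coeff_killCompl, Finsupp.embDomain_single]
  rfl

theorem hom_C (c : k) (i : Fin n) : hom k n (MvPowerSeries.C c) i = PowerSeries.C c := by
  change MvPowerSeries.killCompl (emb n i) (MvPowerSeries.C c) = _
  rw [MvPowerSeries.killCompl_C]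
  rfl

theorem constantCoeff_hom (f : MvPowerSeries (Fin n) k) (i : Fin n) :
    PowerSeries.constantCoeff (hom k n f i) = MvPowerSeries.constantCoeff f := by
  rw [← PowerSeries.coeff_zero_eq_constantCoeff_apply, coeff_hom, Finsupp.single_zero,
    MvPowerSeries.coeff_zero_eq_constantCoeff_apply]

/-- Tuples of power series with common constant term. -/
def tuples (k : Type*) [Field k] (n : ℕ) : Set (Fin n → PowerSeries k) :=
  {f : Fin n → PowerSeries k | ∀ i j : Fin n, PowerSeries.constantCoeff (f i) = PowerSeries.constantCoeff (f j)}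

theorem range_hom : Set.range (hom k n) = tuples k n := by
  ext g
  constructor
  · rintro ⟨f, rfl⟩ i j
    rw [constantCoeff_hom, constantCoeff_hom]
  · intro hg
    classical
    let f : MvPowerSeries (Fin n) k := fun e =>
      if h : ∃ p : Fin n × ℕ, e = Finsupp.single p.1 p.2 then PowerSeries.coeff h.choose.2 (g h.choose.1) else 0
    refine ⟨f, ?_⟩
    funext i
    ext d
    rw [coeff_hom]
    change f (Finsupp.single i d) = _
    have h : ∃ p : Fin n × ℕ, Finsupp.single i d = Finsupp.single p.1 p.2 := ⟨(i, d), rfl⟩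
    have h1 : f (Finsupp.single i d) = PowerSeries.coeff h.choose.2 (g h.choose.1) := dif_pos h
    rw [h1]
    have h2 := h.choose_spec
    generalize h.choose = q at h2
    rw [Finsupp.single_eq_single_iff] at h2
    rcases h2 with ⟨h3, h4⟩ | ⟨h3, h4⟩
    · rw [← h3, ← h4]
    · rw [h4, h3, PowerSeries.coeff_zero_eq_constantCoeff_apply, PowerSeries.coeff_zero_eq_constantCoeff_apply]
      exact hg _ _

/-- The ideal of the coordinate axes. -/
noncomputable def I (k : Type*) [Field k] (n : ℕ) : Ideal (MvPowerSeries (Fin n) k) :=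
  Ideal.span {f : MvPowerSeries (Fin n) k | ∃ i j : Fin n, i ≠ j ∧ f = MvPowerSeries.X i * MvPowerSeries.X j}

theorem X_mul_X (i j : Fin n) : (MvPowerSeries.X i * MvPowerSeries.X j : MvPowerSeries (Fin n) k) =
    MvPowerSeries.monomial (Finsupp.single i 1 + Finsupp.single j 1) 1 := by
  rw [MvPowerSeries.X, MvPowerSeries.X, MvPowerSeries.monomial_mul_monomial, one_mul]

theorem mem_I_iff (hn : 0 < n) (f : MvPowerSeries (Fin n) k) : f ∈ I k n ↔ hom k n f = 0 := by
  classical
  constructor
  · intro hf
    have h1 : I k n ≤ RingHom.ker (hom k n) := by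
      refine Ideal.span_le.mpr ?_
      rintro _ ⟨i, j, hij, rfl⟩
      rw [SetLike.mem_coe, RingHom.mem_ker]
      funext l
      ext d
      rw [coeff_hom, X_mul_X, MvPowerSeries.coeff_monomial, if_neg]
      · rfl
      · intro h
        have hi := DFunLike.congr_fun h i
        have hj := DFunLike.congr_fun h j
        rw [Finsupp.add_apply, Finsupp.single_eq_same, Finsupp.single_eq_of_ne hij] at hi
        rw [Finsupp.add_apply, Finsupp.single_eq_same, Finsupp.single_eq_of_ne hij.symm] at hj
        rw [Finsupp.single_apply] at hi hj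
        split_ifs at hi hj with h1 h2
        · exact hij (h1.symm.trans h2)
    exact h1 hf
  · intro hf
    have hf0 : ∀ i d, MvPowerSeries.coeff (Finsupp.single i d) f = 0 := fun i d => by
      rw [← coeff_hom, hf]
      rfl
    -- choose a pair of variables for every mixed monomial
    have hex : ∀ e : Fin n →₀ ℕ, ∃ p : Fin n × Fin n, (∃ q : Fin n × ℕ, e = Finsupp.single q.1 q.2) ∨
        (p.1 ≠ p.2 ∧ Finsupp.single p.1 1 + Finsupp.single p.2 1 ≤ e) := by
      intro e
      by_cases he : ∃ q : Fin n × ℕ, e = Finsupp.single q.1 q.2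
      · exact ⟨(⟨0, hn⟩, ⟨0, hn⟩), Or.inl he⟩
      have he0 : e ≠ 0 := by
        rintro rfl
        exact he ⟨(⟨0, hn⟩, 0), by rw [Finsupp.single_zero]⟩
      obtain ⟨i, hi⟩ := Finsupp.ne_iff.mp he0
      have hj : ∃ j, j ≠ i ∧ e j ≠ 0 := by
        by_contra hcon
        push Not at hcon
        refine he ⟨(i, e i), ?_⟩
        ext j
        change e j = Finsupp.single i (e i) j
        rw [Finsupp.single_apply]
        split_ifs with h
        · rw [h]
        · exact hcon j (Ne.symm h)
      obtain ⟨j, hji, hj⟩ := hj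
      refine ⟨(i, j), Or.inr ⟨hji.symm, ?_⟩⟩
      intro l
      change (Finsupp.single i 1 + Finsupp.single j 1 : Fin n →₀ ℕ) l ≤ e l
      rw [Finsupp.add_apply, Finsupp.single_apply, Finsupp.single_apply]
      rw [Finsupp.zero_apply] at hi
      split_ifs with h1 h2 h2
      · exact absurd (h1.trans h2.symm) hji.symm
      · rw [← h1]; omega
      · rw [← h2]; omega
      · omega
    choose sel hsel using hex
    let s : Fin n × Fin n → (Fin n →₀ ℕ) := fun p => Finsupp.single p.1 1 + Finsupp.single p.2 1
    let g : Fin n × Fin n → MvPowerSeries (Fin n) k := fun p e' =>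
      if sel (e' + s p) = p then MvPowerSeries.coeff (e' + s p) f else 0
    have hsum : f = ∑ p ∈ (Finset.univ : Finset (Fin n × Fin n)).filter (fun p => p.1 ≠ p.2),
        MvPowerSeries.monomial (s p) 1 * g p := by
      ext e
      rw [map_sum]
      have hterm : ∀ p : Fin n × Fin n, MvPowerSeries.coeff e (MvPowerSeries.monomial (s p) 1 * g p) =
          if s p ≤ e ∧ sel e = p then MvPowerSeries.coeff e f else 0 := by
        intro p
        rw [MvPowerSeries.coeff_monomial_mul]
        by_cases h : s p ≤ e
        · rw [if_pos h, one_mul]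
          change (if sel (e - s p + s p) = p then MvPowerSeries.coeff (e - s p + s p) f else 0) = _
          rw [tsub_add_cancel_of_le h]
          by_cases h' : sel e = p
          · rw [if_pos h', if_pos ⟨h, h'⟩]
          · rw [if_neg h', if_neg (fun h'' => h' h''.2)]
        · rw [if_neg h, if_neg (fun h'' => h h''.1)]
      rw [Finset.sum_congr rfl fun p _ => hterm p]
      rcases hsel e with ⟨q, hq⟩ | ⟨h1, h2⟩
      · have h0 : MvPowerSeries.coeff e f = 0 := by rw [hq]; exact hf0 _ _
        rw [h0]
        simp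
      · rw [Finset.sum_eq_single (sel e), if_pos ⟨h2, rfl⟩]
        · intro p _ hp
          exact if_neg fun h => hp h.2.symm
        · intro h
          exact absurd (Finset.mem_filter.mpr ⟨Finset.mem_univ (sel e), h1⟩) h
    rw [hsum]
    refine sum_mem fun p hp => ?_
    rw [Finset.mem_filter] at hp
    refine Ideal.mul_mem_right _ _ (Ideal.subset_span ⟨p.1, p.2, hp.2, ?_⟩)
    rw [X_mul_X]

/-- A ring embedded in the product of power series rings with image the tuples with common constant term is the
ring of the coordinate axes. -/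
theorem exists_equiv (hn : 0 < n) {B : Type*} [CommRing B] (φ : B →+* (Fin n → PowerSeries k))
    (hφ : Function.Injective φ) (hr : Set.range φ = tuples k n) :
    ∃ e : B ≃+* (MvPowerSeries (Fin n) k ⧸ I k n), ∀ b f, φ b = hom k n f → e b = Ideal.Quotient.mk _ f := by
  have h1 : ∀ f g : MvPowerSeries (Fin n) k, hom k n f = hom k n g ↔
      Ideal.Quotient.mk (I k n) f = Ideal.Quotient.mk (I k n) g := by
    intro f g
    rw [Ideal.Quotient.eq, mem_I_iff hn, map_sub, sub_eq_zero]
  have h2 : ∀ b : B, ∃ f : MvPowerSeries (Fin n) k, hom k n f = φ b := fun b => by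
    have h3 : φ b ∈ Set.range (hom k n) := by
      rw [range_hom, ← hr]
      exact ⟨b, rfl⟩
    exact h3
  choose F hF using h2
  have key : ∀ b f, φ b = hom k n f → Ideal.Quotient.mk (I k n) (F b) = Ideal.Quotient.mk _ f := fun b f h => by
    rw [← h1, hF, h]
  let ψ : B →+* (MvPowerSeries (Fin n) k ⧸ I k n) :=
    { toFun := fun b => Ideal.Quotient.mk (I k n) (F b)
      map_one' := by
        rw [key 1 1 (by rw [map_one, map_one]), map_one]
      map_zero' := by
        rw [key 0 0 (by rw [map_zero, map_zero]), map_zero]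
      map_mul' := fun x y => by
        rw [key (x * y) (F x * F y) (by rw [map_mul, map_mul, hF, hF]), map_mul]
      map_add' := fun x y => by
        rw [key (x + y) (F x + F y) (by rw [map_add, map_add, hF, hF]), map_add] }
  refine ⟨RingEquiv.ofBijective ψ ⟨?_, ?_⟩, key⟩
  · intro x y hxy
    have h3 : Ideal.Quotient.mk (I k n) (F x) = Ideal.Quotient.mk (I k n) (F y) := hxy
    rw [← h1, hF, hF] at h3
    exact hφ h3
  · intro z
    obtain ⟨f, rfl⟩ := Ideal.Quotient.mk_surjective z
    have h3 : hom k n f ∈ Set.range φ := by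
      rw [hr, ← range_hom]
      exact ⟨f, rfl⟩
    obtain ⟨b, hb⟩ := h3
    exact ⟨b, key b f hb⟩

/-- The embedding of the ring of the coordinate axes. -/
theorem exists_map (hn : 0 < n) : ∃ Φ : (MvPowerSeries (Fin n) k ⧸ I k n) →+* (Fin n → PowerSeries k),
    Function.Injective Φ ∧ (∀ f, Φ (Ideal.Quotient.mk _ f) = hom k n f) ∧ Set.range Φ = tuples k n := by
  refine ⟨Ideal.Quotient.lift (I k n) (hom k n) fun f hf => (mem_I_iff hn f).mp hf, ?_, fun f => rfl, ?_⟩
  · rw [injective_iff_map_eq_zero]
    intro z hz
    obtain ⟨f, rfl⟩ := Ideal.Quotient.mk_surjective z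
    rw [Ideal.Quotient.eq_zero_iff_mem, mem_I_iff hn]
    exact hz
  · rw [← range_hom]
    ext g
    constructor
    · rintro ⟨z, rfl⟩
      obtain ⟨f, rfl⟩ := Ideal.Quotient.mk_surjective z
      exact ⟨f, rfl⟩
    · rintro ⟨f, rfl⟩
      exact ⟨Ideal.Quotient.mk _ f, rfl⟩

end K830.Axes
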