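import Groth.Agent.Curves.K830.Axes
import Groth.Agent.Curves.K830.MultiCross
import Mathlib.RingTheory.IntegralClosure.IntegrallyClosed

/-!
# The normalization of the ring of the coordinate axes

Let `B` be a ring embedded in `∏ k[[t]]` (`n ≥ 1` factors) with image the tuples with common constant term.

* `exists_cl_equiv`: its normalization is `∏ k[[t]]`;
* `deltaInv_add_one`: its delta invariant is `n - 1`;
* `numBranches_eq`: it has `n` branches.
-/

set_option autoImplicit false
universe u

open PowerSeries nonZeroDivisors IsLocalRing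

namespace K830.AxesNorm

open K421.NormCl (Cl)
open Axes

variable {k : Type u} [Field k] {n : ℕ}

theorem card_maximalSpectrum (k : Type u) [Field k] (n : ℕ) :
    ENat.card (MaximalSpectrum (Fin n → PowerSeries k)) = n := by
  classical
  have hmax : ∀ i : Fin n, (RingHom.ker ((constantCoeff (R := k)).comp (Pi.evalRingHom (fun _ : Fin n => PowerSeries k) i))).IsMaximal := by
    intro i
    refine RingHom.ker_isMaximal_of_surjective _ ?_
    intro c
    refine ⟨fun _ => C c, ?_⟩
    rw [RingHom.comp_apply, Pi.evalRingHom_apply, constantCoeff_C]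
  let F : Fin n → MaximalSpectrum (Fin n → PowerSeries k) := fun i => ⟨_, hmax i⟩
  have hF : ∀ i (f : Fin n → PowerSeries k), f ∈ (F i).asIdeal ↔ constantCoeff (f i) = 0 := fun i f => Iff.rfl
  have hbij : Function.Bijective F := by
    constructor
    · intro i j hij
      by_contra hne
      have h1 : (Pi.single i 1 : Fin n → PowerSeries k) ∈ (F j).asIdeal := by
        rw [hF, Pi.single_eq_of_ne (Ne.symm hne), map_zero]
      rw [← hij, hF, Pi.single_eq_same, map_one] at h1
      exact one_ne_zero h1
    · intro M
      have hM := M.isMaximal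
      have h1 : ∃ i : Fin n, (Pi.single i 1 : Fin n → PowerSeries k) ∉ M.asIdeal := by
        by_contra hcon
        push Not at hcon
        have h2 : (1 : Fin n → PowerSeries k) ∈ M.asIdeal := by
          have h3 : (1 : Fin n → PowerSeries k) = ∑ i, Pi.single i 1 :=
            (Finset.univ_sum_single (1 : Fin n → PowerSeries k)).symm
          rw [h3]
          exact sum_mem fun i _ => hcon i
        exact hM.ne_top ((Ideal.eq_top_iff_one _).mpr h2)
      obtain ⟨i, hi⟩ := h1
      refine ⟨i, MaximalSpectrum.ext ?_⟩
      refine (hM.eq_of_le (hmax i).ne_top ?_).symm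
      intro f hf
      rw [RingHom.mem_ker, RingHom.comp_apply, Pi.evalRingHom_apply]
      by_contra hne
      have hu : IsUnit (f i) := PowerSeries.isUnit_iff_constantCoeff.mpr (Ne.isUnit hne)
      obtain ⟨g, hg⟩ := hu.exists_right_inv
      apply hi
      have h2 : (Pi.single i 1 : Fin n → PowerSeries k) = f * Pi.single i g := by
        funext j
        rw [Pi.mul_apply]
        by_cases hj : j = i
        · subst hj
          rw [Pi.single_eq_same, Pi.single_eq_same, hg]
        · rw [Pi.single_eq_of_ne hj, Pi.single_eq_of_ne hj, mul_zero]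
      rw [h2]
      exact Ideal.mul_mem_right _ _ hf
  rw [← ENat.card_congr (Equiv.ofBijective F hbij), ENat.card_eq_coe_fintype_card, Fintype.card_fin]

variable {B : Type u} [CommRing B] (φ : B →+* (Fin n → PowerSeries k))
  (hφ : Function.Injective φ) (hr : Set.range φ = tuples k n)

/-- The map to the product of the fraction fields. -/
noncomputable def toFrac : B →+* (Fin n → FractionRing (PowerSeries k)) :=
  (RingHom.pi fun i => (algebraMap (PowerSeries k) (FractionRing (PowerSeries k))).comp
    (Pi.evalRingHom (fun _ : Fin n => PowerSeries k) i)).comp φ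

theorem toFrac_apply (b : B) (i : Fin n) : toFrac φ b i = algebraMap _ _ (φ b i) := rfl

include hr in
theorem exists_of_X_dvd (f : Fin n → PowerSeries k) (hf : ∀ i, constantCoeff (f i) = 0) : ∃ b, φ b = f := by
  have h1 : f ∈ Set.range φ := by
    rw [hr]
    intro i j
    rw [hf i, hf j]
  exact h1

include hφ hr in
theorem ne_zero_of_mem {b : B} (hb : b ∈ B⁰) (i : Fin n) : φ b i ≠ 0 := by
  classical
  intro h
  obtain ⟨x, hx⟩ := exists_of_X_dvd φ hr (Pi.single i X) (fun j => by
    by_cases hj : j = i
    · subst hj
      rw [Pi.single_eq_same, constantCoeff_X]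
    · rw [Pi.single_eq_of_ne hj, map_zero])
  have h1 : x * b = 0 := by
    apply hφ
    rw [map_mul, map_zero, hx]
    funext j
    rw [Pi.mul_apply, Pi.zero_apply]
    by_cases hj : j = i
    · subst hj
      rw [h, mul_zero]
    · rw [Pi.single_eq_of_ne hj, zero_mul]
  have h2 := (mem_nonZeroDivisors_iff_right.mp hb) x h1
  rw [h2, map_zero] at hx
  have h3 := congrFun hx i
  rw [Pi.single_eq_same, Pi.zero_apply] at h3
  exact X_ne_zero h3.symm

include hφ in
theorem mem_of_ne_zero {b : B} (hb : ∀ i, φ b i ≠ 0) : b ∈ B⁰ := by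
  rw [mem_nonZeroDivisors_iff_right]
  intro x hx
  apply hφ
  rw [map_zero]
  funext i
  have h1 : φ x i * φ b i = 0 := by
    rw [← Pi.mul_apply, ← map_mul, hx, map_zero, Pi.zero_apply]
  exact (mul_eq_zero.mp h1).resolve_right (hb i)

include hφ hr in
theorem isFractionRing : letI := (toFrac φ).toAlgebra; IsFractionRing B (Fin n → FractionRing (PowerSeries k)) := by
  letI := (toFrac φ).toAlgebra
  have hmap : ∀ b i, algebraMap B (Fin n → FractionRing (PowerSeries k)) b i = algebraMap _ _ (φ b i) := fun b i => rfl
  have hinjF := IsFractionRing.injective (PowerSeries k) (FractionRing (PowerSeries k))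
  refine (isLocalization_iff _ _).mpr ⟨?_, ?_, ?_⟩
  · intro y
    rw [Pi.isUnit_iff]
    intro i
    rw [hmap, isUnit_iff_ne_zero, Ne, map_eq_zero_iff _ hinjF]
    exact ne_zero_of_mem φ hφ hr y.2 i
  · intro z
    choose p hp using fun i => IsLocalization.surj (PowerSeries k)⁰ (z i)
    obtain ⟨a, ha⟩ := exists_of_X_dvd φ hr (fun i => X * (p i).1) (fun i => by rw [map_mul, constantCoeff_X, zero_mul])
    obtain ⟨s, hs⟩ := exists_of_X_dvd φ hr (fun i => X * ((p i).2 : PowerSeries k))
      (fun i => by rw [map_mul, constantCoeff_X, zero_mul])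
    refine ⟨(a, ⟨s, mem_of_ne_zero φ hφ fun i => ?_⟩), ?_⟩
    · rw [hs]
      exact mul_ne_zero X_ne_zero (nonZeroDivisors.coe_ne_zero _)
    · funext i
      rw [Pi.mul_apply, hmap, hmap, ha, hs, map_mul, map_mul, mul_left_comm, hp i]
  · intro x y hxy
    refine ⟨1, ?_⟩
    have : x = y := by
      apply hφ
      funext i
      apply hinjF
      rw [← hmap, ← hmap, hxy]
    rw [this]

include hr in
/-- The product of power series rings is integral over `B`. -/
theorem isIntegral (hn : 0 < n) : φ.IsIntegral := by
  classical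
  let _ := φ.toAlgebra
  intro f
  have h0 : ∀ g : Fin n → PowerSeries k, (∀ i j, constantCoeff (g i) = constantCoeff (g j)) →
      IsIntegral B g := by
    intro g hg
    have h1 : g ∈ Set.range φ := by
      rw [hr]
      exact hg
    obtain ⟨b, rfl⟩ := h1
    exact isIntegral_algebraMap (R := B) (A := Fin n → PowerSeries k)
  have hne : Nonempty (Fin n) := ⟨⟨0, hn⟩⟩
  have hnt : Nontrivial B := φ.domain_nontrivial
  have h1 : ∀ (i : Fin n), IsIntegral B (Pi.single i 1 : Fin n → PowerSeries k) := by
    intro i
    refine ⟨Polynomial.X ^ 2 - Polynomial.X, ?_, ?_⟩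
    · refine Polynomial.Monic.sub_of_left (Polynomial.monic_X_pow 2) ?_
      rw [Polynomial.degree_X_pow]
      exact lt_of_le_of_lt Polynomial.degree_X_le (by decide)
    · rw [Polynomial.eval₂_sub, Polynomial.eval₂_pow, Polynomial.eval₂_X, pow_two, ← Pi.single_mul, mul_one, sub_self]
  have h2 : f = ∑ i, (fun _ : Fin n => C (constantCoeff (f i))) * (Pi.single i 1 : Fin n → PowerSeries k) +
      (f - fun i => C (constantCoeff (f i))) := by
    have h3 : (∑ i, (fun _ : Fin n => (C (constantCoeff (f i)) : PowerSeries k)) *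
        (Pi.single i 1 : Fin n → PowerSeries k)) = fun i => C (constantCoeff (f i)) := by
      funext j
      rw [Finset.sum_apply, Finset.sum_eq_single j]
      · rw [Pi.mul_apply, Pi.single_eq_same, mul_one]
      · intro i _ hij
        rw [Pi.mul_apply, Pi.single_eq_of_ne (Ne.symm hij), mul_zero]
      · intro h
        exact absurd (Finset.mem_univ j) h
    rw [h3]
    ring
  change IsIntegral B f
  rw [h2]
  refine IsIntegral.add (IsIntegral.sum _ fun i _ => (h0 _ fun _ _ => rfl).mul (h1 i)) (h0 _ fun i j => ?_)
  rw [Pi.sub_apply, Pi.sub_apply, map_sub, map_sub, constantCoeff_C, constantCoeff_C, sub_self, sub_self]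

include hr in
theorem isIntegral_iff (hn : 0 < n) (z : Fin n → FractionRing (PowerSeries k)) :
    (toFrac φ).IsIntegralElem z ↔ ∃ f : Fin n → PowerSeries k, (fun i => algebraMap _ _ (f i)) = z := by
  constructor
  · intro hz
    have h1 : ∀ i, IsIntegral (PowerSeries k) (z i) := by
      intro i
      obtain ⟨p, hp, hpz⟩ := hz
      refine ⟨p.map ((Pi.evalRingHom (fun _ : Fin n => PowerSeries k) i).comp φ), hp.map _, ?_⟩
      rw [Polynomial.eval₂_map]
      have h2 := congrArg (Pi.evalRingHom (fun _ : Fin n => FractionRing (PowerSeries k)) i) hpz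
      rw [Polynomial.hom_eval₂, map_zero] at h2
      exact h2
    choose f hf using fun i => (IsIntegrallyClosed.isIntegral_iff (R := PowerSeries k)).mp (h1 i)
    exact ⟨f, funext hf⟩
  · rintro ⟨f, rfl⟩
    obtain ⟨p, hp, hpf⟩ := isIntegral φ hr hn f
    refine ⟨p, hp, ?_⟩
    let θ : (Fin n → PowerSeries k) →+* (Fin n → FractionRing (PowerSeries k)) :=
      RingHom.pi fun i => (algebraMap (PowerSeries k) (FractionRing (PowerSeries k))).comp
        (Pi.evalRingHom (fun _ : Fin n => PowerSeries k) i)
    have h2 := congrArg θ hpf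
    rw [Polynomial.hom_eval₂, map_zero] at h2
    exact h2

include hφ hr in
/-- The normalization of the ring of the coordinate axes. -/
theorem exists_cl_equiv (hn : 0 < n) :
    ∃ ε : Cl B ≃+* (Fin n → PowerSeries k), ∀ b, ε (algebraMap B (Cl B) b) = φ b := by
  let _ := (toFrac φ).toAlgebra
  have hfr : IsFractionRing B (Fin n → FractionRing (PowerSeries k)) := isFractionRing φ hφ hr
  let e₀ : FractionRing B ≃ₐ[B] (Fin n → FractionRing (PowerSeries k)) :=
    IsLocalization.algEquiv B⁰ (FractionRing B) (Fin n → FractionRing (PowerSeries k))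
  have hinjF := IsFractionRing.injective (PowerSeries k) (FractionRing (PowerSeries k))
  have h1 : ∀ x : Cl B, ∃ f : Fin n → PowerSeries k, (fun i => algebraMap _ _ (f i)) = e₀ x.1 := by
    intro x
    have h2 : IsIntegral B (e₀ x.1) := x.2.map e₀.toAlgHom
    exact (isIntegral_iff φ hr hn _).mp h2
  choose F hF using h1
  have hF' : ∀ x i, algebraMap (PowerSeries k) (FractionRing (PowerSeries k)) (F x i) = e₀ x.1 i := fun x i =>
    congrFun (hF x) i
  let ψ : Cl B →+* (Fin n → PowerSeries k) :=
    { toFun := F
      map_one' := by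
        funext i
        apply hinjF
        rw [hF', Subalgebra.coe_one, map_one, Pi.one_apply, Pi.one_apply, map_one]
      map_zero' := by
        funext i
        apply hinjF
        rw [hF', Subalgebra.coe_zero, map_zero, Pi.zero_apply, Pi.zero_apply, map_zero]
      map_mul' := fun x y => by
        funext i
        apply hinjF
        rw [hF', Subalgebra.coe_mul, map_mul, Pi.mul_apply, Pi.mul_apply, map_mul, hF', hF']
      map_add' := fun x y => by
        funext i
        apply hinjF
        rw [hF', Subalgebra.coe_add, map_add, Pi.add_apply, Pi.add_apply, map_add, hF', hF'] }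
  refine ⟨RingEquiv.ofBijective ψ ⟨?_, ?_⟩, ?_⟩
  · intro x y hxy
    apply Subtype.ext
    apply e₀.injective
    funext i
    rw [← hF', ← hF']
    exact congrArg (algebraMap _ _) (congrFun hxy i)
  · intro f
    have h3 : IsIntegral B (fun i => algebraMap (PowerSeries k) (FractionRing (PowerSeries k)) (f i)) :=
      (isIntegral_iff φ hr hn _).mpr ⟨f, rfl⟩
    have h4 := h3.map e₀.symm.toAlgHom
    refine ⟨⟨e₀.symm (fun i => algebraMap _ _ (f i)), h4⟩, ?_⟩
    funext i
    apply hinjF
    refine (hF' _ i).trans ?_
    change e₀ (e₀.symm _) i = _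
    rw [e₀.apply_symm_apply]
  · intro b
    funext i
    apply hinjF
    refine (hF' _ i).trans ?_
    have h5 : ((algebraMap B (Cl B) b : Cl B) : FractionRing B) = algebraMap B (FractionRing B) b := rfl
    rw [h5, e₀.commutes]
    rfl

/-- The length of the quotient of a ring by the subring of elements with diagonal image in `k ^ n`. -/
theorem length_quotient_aux {B C' : Type u} [CommRing B] [CommRing C'] [Algebra B C'] (hn : 0 < n)
    (q : C' →+* (Fin n → k)) (hq : Function.Surjective q) (ε : B →+* k) (hεs : Function.Surjective ε)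
    (h : ∀ b i, q (algebraMap B C' b) i = ε b)
    (hk : ∀ (x : C') (c : k), (∀ i, q x i = c) → x ∈ Set.range (algebraMap B C')) :
    Module.length B (C' ⧸ LinearMap.range (Algebra.linearMap B C')) + 1 = n := by
  let _ : Algebra B k := ε.toAlgebra
  let L : Submodule k (Fin n → k) := Submodule.span k {1}
  let ρ₀ : C' →ₗ[B] (Fin n → k) :=
    { toFun := fun f => q f
      map_add' := fun f g => map_add q f g
      map_smul' := fun b f => by
        funext i
        change q (b • f) i = ε b * q f i
        rw [Algebra.smul_def, map_mul, Pi.mul_apply, h] }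
  let π : (Fin n → k) →ₗ[B] ((Fin n → k) ⧸ L) := L.mkQ.restrictScalars B
  let ρ : C' →ₗ[B] ((Fin n → k) ⧸ L) := π ∘ₗ ρ₀
  have hρ : Function.Surjective ρ := by
    intro z
    obtain ⟨w, rfl⟩ := L.mkQ_surjective z
    obtain ⟨f, hf⟩ := hq w
    refine ⟨f, ?_⟩
    change L.mkQ (q f) = _
    rw [hf]
  have hker : LinearMap.ker ρ = LinearMap.range (Algebra.linearMap B C') := by
    ext f
    rw [LinearMap.mem_ker]
    have h1 : ρ f = 0 ↔ q f ∈ L := Submodule.Quotient.mk_eq_zero L
    rw [h1, Submodule.mem_span_singleton]
    constructor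
    · rintro ⟨c, hc⟩
      obtain ⟨b, hb⟩ := hk f c fun i => by
        have h4 := congrFun hc i
        rw [Pi.smul_apply, Pi.one_apply, smul_eq_mul, mul_one] at h4
        exact h4.symm
      exact ⟨b, hb⟩
    · rintro ⟨b, rfl⟩
      refine ⟨ε b, ?_⟩
      funext i
      rw [Pi.smul_apply, Pi.one_apply, smul_eq_mul, mul_one]
      exact (h b i).symm
  rw [← hker, (ρ.quotKerEquivOfSurjective hρ).length_eq, Module.length_eq_of_surjective (M := (Fin n → k) ⧸ L) (show Function.Surjective (algebraMap B k) from hεs),
    Module.length_eq_finrank]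
  have h2 := L.finrank_quotient_add_finrank
  have h3 : Module.finrank k L = 1 := finrank_span_singleton (by
    intro h
    have := congrFun h ⟨0, hn⟩
    exact one_ne_zero this)
  rw [h3, Module.finrank_fin_fun] at h2
  exact_mod_cast h2

include hr in
/-- The length of the quotient of the product by the ring of the coordinate axes. -/
theorem length_quotient (hn : 0 < n) :
    letI := φ.toAlgebra
    Module.length B ((Fin n → PowerSeries k) ⧸ LinearMap.range (Algebra.linearMap B (Fin n → PowerSeries k))) + 1 = n := by
  let _ := φ.toAlgebra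
  let i₀ : Fin n := ⟨0, hn⟩
  let ε : B →+* k := (constantCoeff (R := k)).comp ((Pi.evalRingHom (fun _ : Fin n => PowerSeries k) i₀).comp φ)
  have hε : ∀ b i, constantCoeff (φ b i) = ε b := fun b i => by
    have h1 : φ b ∈ tuples k n := by
      rw [← hr]
      exact ⟨b, rfl⟩
    exact h1 i i₀
  have hεs : Function.Surjective ε := by
    intro c
    have h1 : (fun _ => C c : Fin n → PowerSeries k) ∈ Set.range φ := by
      rw [hr]
      exact fun _ _ => rfl
    obtain ⟨b, hb⟩ := h1
    refine ⟨b, ?_⟩
    rw [← hε b i₀, hb, constantCoeff_C]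
  let q : (Fin n → PowerSeries k) →+* (Fin n → k) := RingHom.pi fun i => (constantCoeff (R := k)).comp
    (Pi.evalRingHom (fun _ : Fin n => PowerSeries k) i)
  have hq : ∀ f i, q f i = constantCoeff (f i) := fun f i => rfl
  refine length_quotient_aux hn q ?_ ε hεs hε ?_
  · intro w
    refine ⟨fun i => C (w i), ?_⟩
    funext i
    exact constantCoeff_C _
  · intro f c hc
    have h2 : f ∈ Set.range φ := by
      rw [hr]
      intro i j
      rw [← hq, ← hq, hc, hc]
    exact h2

include hφ hr in
/-- The delta invariant of the ring of the coordinate axes. -/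
theorem deltaInv_add_one (hn : 0 < n) : Curv2.deltaInv B + 1 = n := by
  let _ := φ.toAlgebra
  obtain ⟨ε, hε⟩ := exists_cl_equiv φ hφ hr hn
  let ε' : Cl B ≃ₗ[B] (Fin n → PowerSeries k) :=
    { ε with
      map_smul' := fun b x => by
        change ε (b • x) = φ b * ε x
        rw [Algebra.smul_def, map_mul, hε] }
  have h1 : (LinearMap.range (Algebra.linearMap B (Cl B))).map (ε' : Cl B →ₗ[B] (Fin n → PowerSeries k)) =
      LinearMap.range (Algebra.linearMap B (Fin n → PowerSeries k)) := by
    ext f
    constructor
    · rintro ⟨_, ⟨b, rfl⟩, rfl⟩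
      exact ⟨b, (hε b).symm⟩
    · rintro ⟨b, rfl⟩
      exact ⟨_, ⟨b, rfl⟩, hε b⟩
  rw [← length_quotient φ hr hn]
  change Module.length B (Cl B ⧸ LinearMap.range (Algebra.linearMap B (Cl B))) + 1 = _
  rw [(Submodule.Quotient.equiv _ _ ε' h1).length_eq]

include hφ hr in
/-- The number of branches of the ring of the coordinate axes. -/
theorem numBranches_eq (hn : 0 < n) [IsLocalRing B] [IsNoetherianRing B] : Brnch.numBranches B = n := by
  have hred : IsReduced B := isReduced_of_injective φ hφ
  obtain ⟨ε, -⟩ := exists_cl_equiv φ hφ hr hn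
  rw [MultiCross.numBranches_eq_cl, ← card_maximalSpectrum k n]
  let ε' : MaximalSpectrum (Fin n → PowerSeries k) ≃ MaximalSpectrum (Cl B) :=
    { toFun := fun m => ⟨m.asIdeal.comap (ε : Cl B →+* _), by
        have := m.isMaximal
        exact Ideal.comap_isMaximal_of_surjective (ε : Cl B →+* (Fin n → PowerSeries k)) ε.surjective⟩
      invFun := fun m => ⟨m.asIdeal.comap (ε.symm : _ →+* Cl B), by
        have := m.isMaximal
        exact Ideal.comap_isMaximal_of_surjective (ε.symm : (Fin n → PowerSeries k) →+* Cl B) ε.symm.surjective⟩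
      left_inv := fun m => by
        ext x
        change ε (ε.symm x) ∈ m.asIdeal ↔ _
        rw [ε.apply_symm_apply]
      right_inv := fun m => by
        ext x
        change ε.symm (ε x) ∈ m.asIdeal ↔ _
        rw [ε.symm_apply_apply] }
  exact (ENat.card_congr ε').symm

end K830.AxesNorm
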