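import Groth.Agent.Curves.K830.MultiCross

/-!
# Geometric branches as geometric points of the normalization

* `numGeomBranches_eq`: for a reduced Noetherian local ring `A` the number of geometric branches is the number of
  extensions to the normalization of the map from `A` to the algebraic closure of the residue field;
* `card_le_one`, `card_eq_two`: the number of such extensions for `C = A + A θ`, `θ ^ 2 + β θ + γ = 0`, in terms of
  the discriminant.
-/

set_option autoImplicit false
universe u

open IsLocalRing

namespace K830.GeomCount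

open K421.NormCl (Cl)

/-- The map from a local ring to the algebraic closure of the residue field. -/
noncomputable abbrev toCl (A : Type u) [CommRing A] [IsLocalRing A] : A →+* AlgebraicClosure (ResidueField A) :=
  (algebraMap (ResidueField A) (AlgebraicClosure (ResidueField A))).comp (residue A)

/-- Extensions of a map to an algebra. -/
def Ext {A C' Ω : Type u} [CommRing A] [CommRing C'] [Algebra A C'] [CommRing Ω] (φ : A →+* Ω) : Type u :=
  {τ : C' →+* Ω // τ.comp (algebraMap A C') = φ}

theorem numGeomBranches_eq (A : Type u) [CommRing A] [IsLocalRing A] [IsReduced A] [IsNoetherianRing A] :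
    Brnch.numGeomBranches A = ENat.card (Ext (C' := Cl A) (toCl A)) := by
  have hmin : (minimalPrimes A).Finite := minimalPrimes.finite_of_isNoetherianRing A
  have hbot : nilradical A = ⊥ := nilradical_eq_zero A
  let B := CAlg2.red A
  let e : A ≃+* B := RingEquiv.ofBijective (Ideal.Quotient.mk (nilradical A))
    ⟨by
      intro x y h
      rw [Ideal.Quotient.eq, hbot, Ideal.mem_bot, sub_eq_zero] at h
      exact h, Ideal.Quotient.mk_surjective⟩
  obtain ⟨ε, hε⟩ := K428.Wedge.exists_equiv e
  unfold Brnch.numGeomBranches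
  rw [if_pos hmin]
  let F : (Σ m' : MaximalSpectrum (CAlg2.normRed A), Brnch.Emb A m') → Ext (C' := Cl A) (toCl A) := fun p =>
    ⟨(p.2.1.comp (Ideal.Quotient.mk p.1.asIdeal)).comp (ε : Cl A →+* Cl B), by
      have h1 := p.2.2
      ext a
      have h2 := congrArg (fun f => f a) h1
      have h3 : p.2.1 (Ideal.Quotient.mk p.1.asIdeal (ε (algebraMap A (Cl A) a))) =
          p.2.1 (Ideal.Quotient.mk p.1.asIdeal (algebraMap B (Cl B) (e a))) := by rw [hε]
      exact h3.trans h2⟩
  have hF : Function.Bijective F := by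
    constructor
    · rintro ⟨m, σ⟩ ⟨m', σ'⟩ h
      have h0 : ∀ x : Cl B, σ.1 (Ideal.Quotient.mk m.asIdeal x) = σ'.1 (Ideal.Quotient.mk m'.asIdeal x) := by
        intro x
        have h1 := congrArg (fun f : Ext (C' := Cl A) (toCl A) => f.1 (ε.symm x)) h
        have h2 : σ.1 (Ideal.Quotient.mk m.asIdeal (ε (ε.symm x))) =
          σ'.1 (Ideal.Quotient.mk m'.asIdeal (ε (ε.symm x))) := h1
        rwa [ε.apply_symm_apply] at h2
      have hm := m.isMaximal
      have hm' := m'.isMaximal
      have hinj : ∀ (n : MaximalSpectrum (Cl B)) (τ : Cl B ⧸ n.asIdeal →+* AlgebraicClosure (ResidueField A))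
          (x : Cl B), τ (Ideal.Quotient.mk n.asIdeal x) = 0 ↔ x ∈ n.asIdeal := by
        intro n τ x
        have := n.isMaximal
        let _ : Field (Cl B ⧸ n.asIdeal) := Ideal.Quotient.field n.asIdeal
        rw [map_eq_zero, Ideal.Quotient.eq_zero_iff_mem]
      have hmm : m = m' := by
        apply MaximalSpectrum.ext
        ext x
        rw [← hinj m σ.1, h0, hinj m' σ'.1]
      subst hmm
      have hσ : σ = σ' := by
        apply Subtype.ext
        apply RingHom.ext
        intro y
        obtain ⟨x, rfl⟩ := Ideal.Quotient.mk_surjective y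
        exact h0 x
      rw [hσ]
    · intro τ
      let τ' : Cl B →+* AlgebraicClosure (ResidueField A) := τ.1.comp (ε.symm : Cl B →+* Cl A)
      have hτ' : ∀ a, τ' (algebraMap B (Cl B) (e a)) = toCl A a := by
        intro a
        have h1 : τ' (algebraMap B (Cl B) (e a)) = τ.1 (ε.symm (algebraMap B (Cl B) (e a))) := rfl
        rw [h1, ← hε, ε.symm_apply_apply]
        exact congrArg (fun f => f a) τ.2
      have hlocB : IsLocalRing B := e.isLocalRing
      have hker : (RingHom.ker τ').IsMaximal := by
        have h1 : (RingHom.ker τ').IsPrime := RingHom.ker_isPrime _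
        have h2 : ((RingHom.ker τ').comap (algebraMap B (Cl B))).IsMaximal := by
          have h3 : (RingHom.ker τ').comap (algebraMap B (Cl B)) = maximalIdeal B := by
            ext b
            obtain ⟨a, rfl⟩ := e.surjective b
            rw [Ideal.mem_comap, RingHom.mem_ker, hτ', mem_maximalIdeal, mem_nonunits_iff, MulEquiv.isUnit_map e,
              RingHom.comp_apply, map_eq_zero, residue_eq_zero_iff, mem_maximalIdeal, mem_nonunits_iff]
          rw [h3]
          exact maximalIdeal.isMaximal B
        exact Ideal.isMaximal_of_isIntegral_of_isMaximal_comap _ h2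
      refine ⟨⟨⟨RingHom.ker τ', hker⟩, ⟨Ideal.Quotient.lift _ τ' fun x hx => hx, ?_⟩⟩, ?_⟩
      · ext a
        exact hτ' a
      · apply Subtype.ext
        apply RingHom.ext
        intro x
        change τ.1 (ε.symm (ε x)) = τ.1 x
        rw [ε.symm_apply_apply]
  exact ENat.card_congr (Equiv.ofBijective F hF)

section Count

variable {A C' Ω : Type u} [CommRing A] [IsLocalRing A] [CommRing C'] [Algebra A C'] [Field Ω]
  (φ : A →+* Ω) (hφ : RingHom.ker φ = maximalIdeal A) (θ : C') (β γ : A)
  (hgen : ∀ c : C', ∃ x y : A, c = algebraMap A C' x + algebraMap A C' y * θ)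
  (hrel : θ ^ 2 + algebraMap A C' β * θ + algebraMap A C' γ = 0)

omit [IsLocalRing A] in
include hrel in
theorem root_of_ext (τ : Ext (C' := C') φ) : τ.1 θ ^ 2 + φ β * τ.1 θ + φ γ = 0 := by
  have h := congrArg τ.1 hrel
  have h1 : ∀ a, τ.1 (algebraMap A C' a) = φ a := fun a => congrArg (fun f => f a) τ.2
  rwa [map_add, map_add, map_mul, map_pow, map_zero, h1, h1] at h

omit [IsLocalRing A] in
include hgen in
theorem ext_injective {τ τ' : Ext (C' := C') φ} (h : τ.1 θ = τ'.1 θ) : τ = τ' := by
  apply Subtype.ext
  apply RingHom.ext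
  intro c
  obtain ⟨x, y, rfl⟩ := hgen c
  have h1 : ∀ a, τ.1 (algebraMap A C' a) = φ a := fun a => congrArg (fun f => f a) τ.2
  have h2 : ∀ a, τ'.1 (algebraMap A C' a) = φ a := fun a => congrArg (fun f => f a) τ'.2
  rw [map_add, map_add, map_mul, map_mul, h1, h1, h2, h2, h]

include hφ hgen hrel in
/-- If the discriminant is not a unit then there is at most one extension. -/
theorem card_le_one (hd : 4 * γ - β ^ 2 ∈ maximalIdeal A) : ENat.card (Ext (C' := C') φ) ≤ 1 := by
  rw [ENat.card_le_one_iff_subsingleton]
  refine ⟨fun τ τ' => ext_injective φ θ hgen ?_⟩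
  have h1 := root_of_ext φ θ β γ hrel τ
  have h2 := root_of_ext φ θ β γ hrel τ'
  by_contra hne
  have hne' : τ.1 θ - τ'.1 θ ≠ 0 := sub_ne_zero.mpr hne
  have h3 : τ.1 θ + τ'.1 θ + φ β = 0 := by
    have h4 : (τ.1 θ - τ'.1 θ) * (τ.1 θ + τ'.1 θ + φ β) = 0 := by linear_combination h1 - h2
    exact (mul_eq_zero.mp h4).resolve_left hne'
  have h5 : 4 * φ γ - φ β ^ 2 = 0 := by
    rwa [← hφ, RingHom.mem_ker, map_sub, map_mul, map_pow, map_ofNat] at hd
  have h6 : (τ.1 θ - τ'.1 θ) ^ 2 = 0 := by
    linear_combination (4 : Ω) * h1 - h5 + (τ'.1 θ - 3 * τ.1 θ - φ β) * h3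
  exact hne' (pow_eq_zero_iff (two_ne_zero)|>.mp h6)

include hφ in
/-- If the discriminant is a unit then there are exactly two extensions. -/
theorem card_eq_two [IsAlgClosed Ω] (hgen : ∀ c : C', ∃ x y : A, c = algebraMap A C' x + algebraMap A C' y * θ)
    (hrel : θ ^ 2 + algebraMap A C' β * θ + algebraMap A C' γ = 0)
    (hind : ∀ x y : A, algebraMap A C' x + algebraMap A C' y * θ = 0 → x ∈ maximalIdeal A ∧ y ∈ maximalIdeal A)
    (hd : IsUnit (4 * γ - β ^ 2)) : ENat.card (Ext (C' := C') φ) = 2 := by
  have hmem : ∀ x ∈ maximalIdeal A, φ x = 0 := fun x hx => by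
    rw [← hφ] at hx
    exact hx
  -- extensions from roots
  have hex : ∀ r : Ω, r ^ 2 + φ β * r + φ γ = 0 → ∃ τ : Ext (C' := C') φ, τ.1 θ = r := by
    intro r hr
    choose x y hxy using hgen
    have key : ∀ (c : C') (u v : A), c = algebraMap A C' u + algebraMap A C' v * θ →
        φ (x c) + φ (y c) * r = φ u + φ v * r := by
      intro c u v h
      have h1 : algebraMap A C' (x c - u) + algebraMap A C' (y c - v) * θ = 0 := by
        rw [map_sub, map_sub]
        linear_combination h - hxy c
      obtain ⟨h2, h3⟩ := hind _ _ h1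
      have h4 := hmem _ h2
      have h5 := hmem _ h3
      rw [map_sub, sub_eq_zero] at h4 h5
      rw [h4, h5]
    let τ : C' →+* Ω :=
      { toFun := fun c => φ (x c) + φ (y c) * r
        map_one' := by
          rw [key 1 1 0 (by rw [map_one, map_zero, zero_mul, add_zero]), map_one, map_zero, zero_mul, add_zero]
        map_zero' := by
          rw [key 0 0 0 (by rw [map_zero, zero_mul, add_zero]), map_zero, zero_mul, add_zero]
        map_add' := fun c d => by
          rw [key (c + d) (x c + x d) (y c + y d) (by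
            rw [map_add, map_add]
            linear_combination hxy c + hxy d), map_add, map_add]
          ring
        map_mul' := fun c d => by
          rw [key (c * d) (x c * x d - y c * y d * γ) (x c * y d + y c * x d - y c * y d * β) (by
            rw [map_sub, map_sub, map_add, map_mul, map_mul, map_mul, map_mul, map_mul, map_mul, map_mul]
            linear_combination (d) * hxy c + (algebraMap A C' (x c) + algebraMap A C' (y c) * θ) * hxy d +
              (algebraMap A C' (y c) * algebraMap A C' (y d)) * hrel)]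
          simp only [map_sub, map_add, map_mul]
          linear_combination (- φ (y c) * φ (y d)) * hr }
    refine ⟨⟨τ, ?_⟩, ?_⟩
    · ext a
      change φ (x (algebraMap A C' a)) + φ (y (algebraMap A C' a)) * r = φ a
      rw [key _ a 0 (by rw [map_zero, zero_mul, add_zero]), map_zero, zero_mul, add_zero]
    · change φ (x θ) + φ (y θ) * r = r
      rw [key θ 0 1 (by rw [map_zero, map_one, zero_add, one_mul]), map_zero, map_one, zero_add, one_mul]
  obtain ⟨r, hr⟩ : ∃ r : Ω, r ^ 2 + φ β * r + φ γ = 0 := by
    have hdeg : (Polynomial.X ^ 2 + Polynomial.C (φ β) * Polynomial.X + Polynomial.C (φ γ)).degree = 2 := by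
      compute_degree!
    obtain ⟨r, hr⟩ := IsAlgClosed.exists_root
      (Polynomial.X ^ 2 + Polynomial.C (φ β) * Polynomial.X + Polynomial.C (φ γ)) (by rw [hdeg]; decide)
    refine ⟨r, ?_⟩
    have h1 : Polynomial.eval r (Polynomial.X ^ 2 + Polynomial.C (φ β) * Polynomial.X + Polynomial.C (φ γ)) = 0 := hr
    simpa using h1
  obtain ⟨τ, hτ⟩ := hex r hr
  obtain ⟨τ', hτ'⟩ := hex (- φ β - r) (by linear_combination hr)
  have hd' : 4 * φ γ - φ β ^ 2 ≠ 0 := by
    have h1 := (hd.map φ).ne_zero
    rwa [map_sub, map_mul, map_pow, map_ofNat] at h1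
  have hne : τ ≠ τ' := by
    rintro rfl
    rw [hτ] at hτ'
    apply hd'
    linear_combination (4 : Ω) * hr - (2 * r + φ β) * hτ'
  have h2 : Nat.card (Ext (C' := C') φ) = 2 := by
    rw [Nat.card_eq_two_iff]
    refine ⟨τ, τ', hne, ?_⟩
    rw [Set.eq_univ_iff_forall]
    intro σ
    have h3 := root_of_ext φ θ β γ hrel σ
    have h4 : (σ.1 θ - r) * (σ.1 θ + r + φ β) = 0 := by linear_combination h3 - hr
    rcases mul_eq_zero.mp h4 with h5 | h5
    · left
      exact ext_injective φ θ hgen (by rw [hτ]; exact sub_eq_zero.mp h5)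
    · right
      exact ext_injective φ θ hgen (by rw [hτ']; linear_combination h5)
  have h6 : Finite (Ext (C' := C') φ) := Nat.finite_of_card_ne_zero (by rw [h2]; decide)
  rw [ENat.card_eq_coe_natCard, h2]
  rfl

end Count

end K830.GeomCount
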