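import Groth.Agent.QuotLF.K821.Minors
import Mathlib.LinearAlgebra.Matrix.Adjugate
import Mathlib.Tactic

/-! The maximal minors of a presentation matrix of a module which is locally principal inside a
field (helper830). -/

set_option autoImplicit false

namespace K830.GlpFitt

open K821.Minors Matrix

variable {B K : Type*} [CommRing B] [Field K] {m : ℕ} {γ : Type*} [Fintype γ]

theorem det_updateRow_smul_one (s : B) (p₀ : Fin (m + 1)) (v : Fin (m + 1) → B) :
    (Matrix.updateRow (s • (1 : Matrix (Fin (m + 1)) (Fin (m + 1)) B)) p₀ v).det =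
      s ^ m * v p₀ := by
  have h := Matrix.cramer_transpose_apply (s • (1 : Matrix (Fin (m + 1)) (Fin (m + 1)) B)) v p₀
  rw [← h, Matrix.transpose_smul, Matrix.transpose_one, Matrix.cramer_eq_adjugate_mulVec,
    Matrix.adjugate_smul, Matrix.adjugate_one, Matrix.smul_mulVec, Matrix.one_mulVec]
  simp

/-- **Fitting ideals of fractional ideals.** -/
theorem minorIdeal_eq_ker (κ : B →+* K) (a : Fin (m + 1) → K) (ha : ∃ p, a p ≠ 0)
    (M : Matrix (Fin (m + 1)) γ B) (h1 : ∀ q, ∑ p, κ (M p q) * a p = 0)
    (h2 : ∀ c : Fin (m + 1) → B, ∑ p, κ (c p) * a p = 0 → ∃ e : γ → B, M.mulVec e = c)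
    (h3 : ∀ 𝔪 : Ideal B, 𝔪.IsMaximal → RingHom.ker κ ≤ 𝔪 →
      ∃ (p₀ : Fin (m + 1)) (s : B) (b : Fin (m + 1) → B), s ∉ 𝔪 ∧ ∀ p, κ s * a p = κ (b p) * a p₀) :
    minorIdeal (m + 1) M = RingHom.ker κ := by
  classical
  apply le_antisymm
  · rw [minorIdeal_le_iff]
    intro e f
    rw [RingHom.mem_ker, RingHom.map_det]
    by_cases he : Function.Injective e
    · have he2 : Function.Bijective e := Finite.injective_iff_bijective.mp he
      obtain ⟨p, hp⟩ := ha
      rw [← Matrix.det_transpose]
      refine Matrix.exists_mulVec_eq_zero_iff.mp ⟨fun i => a (e i), ?_, ?_⟩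
      · intro h
        obtain ⟨i, rfl⟩ := he2.2 p
        exact hp (congrFun h i)
      · funext q
        have h4 := h1 (f q)
        rw [← Function.Bijective.sum_comp he2] at h4
        simpa [Matrix.mulVec, dotProduct] using h4
    · rw [Function.Injective] at he
      push Not at he
      obtain ⟨i, j, hij, hne⟩ := he
      refine Matrix.det_zero_of_row_eq hne ?_
      funext q
      simp [hij]
  · intro x hx
    by_contra hxM
    let J : Ideal B := Submodule.colon (minorIdeal (m + 1) M) {x}
    have hJ : J ≠ ⊤ := by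
      intro h
      apply hxM
      have h5 : (1 : B) ∈ J := by rw [h]; trivial
      have h6 := Submodule.mem_colon_singleton.mp h5
      simpa using h6
    obtain ⟨𝔪, h𝔪, hJ𝔪⟩ := Ideal.exists_le_maximal J hJ
    have h4 : ∃ (p₀ : Fin (m + 1)) (s : B) (b : Fin (m + 1) → B), s ∉ 𝔪 ∧
        ∀ p, κ s * a p = κ (b p) * a p₀ := by
      by_cases hle : RingHom.ker κ ≤ 𝔪
      · exact h3 𝔪 h𝔪 hle
      · obtain ⟨u, hu, hu'⟩ := SetLike.not_le_iff_exists.mp hle
        refine ⟨0, u, 0, hu', fun p => ?_⟩
        rw [RingHom.mem_ker.mp hu]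
        simp
    obtain ⟨p₀, s, b, hs, hb⟩ := h4
    let R : Matrix (Fin (m + 1)) (Fin (m + 1)) B :=
      Matrix.updateRow (s • (1 : Matrix (Fin (m + 1)) (Fin (m + 1)) B)) p₀
        (fun q => if q = p₀ then x else - b q)
    have hR : ∀ q, ∃ e : γ → B, M.mulVec e = fun p => R p q := by
      intro q
      apply h2
      rw [← Finset.add_sum_erase _ _ (Finset.mem_univ p₀)]
      by_cases hq : q = p₀
      · subst hq
        have h5 : ∀ p ∈ Finset.univ.erase q, κ (R p q) * a p = 0 := by
          intro p hp
          have hne : p ≠ q := Finset.ne_of_mem_erase hp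
          simp [R, Matrix.updateRow_apply, hne]
        rw [Finset.sum_eq_zero h5, add_zero]
        simp [R, RingHom.mem_ker.mp hx]
      · have h5 : ∀ p ∈ Finset.univ.erase p₀, κ (R p q) * a p = if p = q then κ s * a q else 0 := by
          intro p hp
          have hne : p ≠ p₀ := Finset.ne_of_mem_erase hp
          by_cases hpq : p = q
          · subst hpq
            simp [R, Matrix.updateRow_apply, hne]
          · simp [R, Matrix.updateRow_apply, hne, hpq]
        rw [Finset.sum_congr rfl h5, Finset.sum_ite_eq' , if_pos (by simp [hq]), hb]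
        simp [R, hq]
    choose e he using hR
    have hRM : R = M * Matrix.of fun j q => e q j := by
      ext p q
      rw [Matrix.mul_apply]
      exact (congrFun (he q) p).symm
    have h7 : R.det ∈ minorIdeal (m + 1) M := by
      have h8 := minorIdeal_mul_le_left (m + 1) M (Matrix.of fun j q => e q j)
      rw [← hRM, minorIdeal_square] at h8
      exact h8 (Ideal.mem_span_singleton_self _)
    rw [det_updateRow_smul_one, if_pos rfl] at h7
    have h9 : s ^ m ∈ J := Submodule.mem_colon_singleton.mpr h7
    exact hs (h𝔪.isPrime.mem_of_pow_mem m (hJ𝔪 h9))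

end K830.GlpFitt
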