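import Groth.Agent.Curves.K830.GlpGen
import Mathlib.RingTheory.MvPolynomial.Homogeneous
import Mathlib.Tactic

/-! Linear presentations of section modules (helper830).

Let `N_t` be subspaces of `K` with `y_i N_t ≤ N_{t+1} = ∑ y_i N_t` such that the relations between
the `y_i` with coefficients in `N_{t+1}` are the Koszul relations with coefficients in `N_t`.  Then
all the relations between a basis of `N_0` over the polynomial ring are consequences of the linear
ones. -/

set_option autoImplicit false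

namespace K830.GlpSyz

open MvPolynomial

section Homog

variable {k : Type*} [Field k] {σ : Type*} [Fintype σ]

theorem exists_sum_X {t : ℕ} {G : MvPolynomial σ k} (hG : G.IsHomogeneous (t + 1)) :
    ∃ g : σ → MvPolynomial σ k, (∀ i, (g i).IsHomogeneous t) ∧ ∑ i, X i * g i = G := by
  have h1 : G ∈ homogeneousSubmodule σ k 1 * homogeneousSubmodule σ k t := by
    rw [← homogeneousSubmodule_one_pow _ t, ← pow_succ', homogeneousSubmodule_one_pow]
    exact hG
  refine Submodule.mul_induction_on h1 ?_ ?_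
  · intro m hm n hn
    rw [homogeneousSubmodule_one_eq_span_X] at hm
    obtain ⟨c, rfl⟩ := (Submodule.mem_span_range_iff_exists_fun k).mp hm
    refine ⟨fun i => c i • n, fun i => Submodule.smul_mem _ (c i) hn, ?_⟩
    rw [Finset.sum_mul]
    exact Finset.sum_congr rfl fun i _ => by rw [mul_smul_comm, smul_mul_assoc]
  · rintro x y ⟨g, hg, rfl⟩ ⟨g', hg', rfl⟩
    refine ⟨fun i => g i + g' i, fun i => (hg i).add (hg' i), ?_⟩
    rw [← Finset.sum_add_distrib]
    exact Finset.sum_congr rfl fun i _ => mul_add _ _ _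

end Homog

variable {k K : Type*} [Field k] [Field K] [Algebra k K] {σ : Type} [Fintype σ] [LinearOrder σ]
  {m : ℕ} {y : σ → K} {N : ℕ → Submodule k K} {a : Fin m → K}

/-- The value `∑ G_p(y) a_p`. -/
noncomputable def ev (y : σ → K) (a : Fin m → K) (G : Fin m → MvPolynomial σ k) : K :=
  ∑ p, aeval y (G p) * a p

omit [Fintype σ] [LinearOrder σ] in
theorem ev_add (G G' : Fin m → MvPolynomial σ k) : ev y a (G + G') = ev y a G + ev y a G' := by
  simp only [ev, Pi.add_apply, map_add, add_mul, Finset.sum_add_distrib]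

omit [Fintype σ] [LinearOrder σ] in
theorem ev_neg (G : Fin m → MvPolynomial σ k) : ev y a (-G) = - ev y a G := by
  simp only [ev, Pi.neg_apply, map_neg, neg_mul, Finset.sum_neg_distrib]

omit [Fintype σ] [LinearOrder σ] in
theorem ev_sub (G G' : Fin m → MvPolynomial σ k) : ev y a (G - G') = ev y a G - ev y a G' := by
  rw [sub_eq_add_neg, ev_add, ev_neg, sub_eq_add_neg]

omit [Fintype σ] [LinearOrder σ] in
theorem ev_smul (c : MvPolynomial σ k) (G : Fin m → MvPolynomial σ k) :
    ev y a (c • G) = aeval y c * ev y a G := by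
  simp only [ev, Pi.smul_apply, smul_eq_mul, map_mul, Finset.mul_sum, mul_assoc]

omit [Fintype σ] [LinearOrder σ] in
theorem ev_zero : ev y a (0 : Fin m → MvPolynomial σ k) = 0 := by simp [ev]

omit [Fintype σ] [LinearOrder σ] in
theorem ev_sum {ι : Type*} (s : Finset ι) (G : ι → Fin m → MvPolynomial σ k) :
    ev y a (∑ i ∈ s, G i) = ∑ i ∈ s, ev y a (G i) := by
  classical
  induction s using Finset.induction_on with
  | empty => simp [ev_zero]
  | insert i s hi ih => rw [Finset.sum_insert hi, Finset.sum_insert hi, ev_add, ih]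

/-- Vectors of forms of degree `t`. -/
def Hom (m t : ℕ) (G : Fin m → MvPolynomial σ k) : Prop := ∀ p, (G p).IsHomogeneous t

omit [LinearOrder σ] in
theorem ev_mem (hmul : ∀ t i, ∀ f ∈ N t, y i * f ∈ N (t + 1)) (ha : ∀ p, a p ∈ N 0) (t : ℕ)
    (G : Fin m → MvPolynomial σ k) (hG : Hom m t G) : ev y a G ∈ N t := by
  induction t generalizing G with
  | zero =>
    refine Submodule.sum_mem _ fun p _ => ?_
    have h := (totalDegree_zero_iff_isHomogeneous _).mpr (hG p)
    rw [totalDegree_eq_zero_iff_eq_C.mp h, aeval_C, ← Algebra.smul_def]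
    exact Submodule.smul_mem _ _ (ha p)
  | succ t ih =>
    choose g hg hg2 using fun p => exists_sum_X (hG p)
    have h1 : G = ∑ i, (X i : MvPolynomial σ k) • fun p => g p i := by
      funext p
      rw [Finset.sum_apply, ← hg2 p]
      rfl
    rw [h1, ev_sum]
    refine Submodule.sum_mem _ fun i _ => ?_
    rw [ev_smul, aeval_X]
    exact hmul t i _ (ih _ fun p => hg p i)

omit [LinearOrder σ] in
theorem exists_ev (hG : ∀ t, ∀ f ∈ N (t + 1), ∃ b : σ → K, (∀ i, b i ∈ N t) ∧ ∑ i, y i * b i = f)
    (ha : Submodule.span k (Set.range a) = N 0) (t : ℕ) (f : K) (hf : f ∈ N t) :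
    ∃ G : Fin m → MvPolynomial σ k, Hom m t G ∧ ev y a G = f := by
  induction t generalizing f with
  | zero =>
    rw [← ha] at hf
    obtain ⟨c, hc⟩ := (Submodule.mem_span_range_iff_exists_fun k).mp hf
    refine ⟨fun p => C (c p), fun p => isHomogeneous_C _ _, ?_⟩
    rw [← hc]
    exact Finset.sum_congr rfl fun p _ => by rw [aeval_C, ← Algebra.smul_def]
  | succ t ih =>
    obtain ⟨b, hb, rfl⟩ := hG t f hf
    choose G hG1 hG2 using fun i => ih (b i) (hb i)
    refine ⟨∑ i, (X i : MvPolynomial σ k) • G i, fun p => ?_, ?_⟩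
    · rw [Finset.sum_apply]
      refine IsHomogeneous.sum _ _ _ fun i _ => ?_
      have := (isHomogeneous_X k i).mul (hG1 i p)
      rwa [add_comm] at this
    · rw [ev_sum]
      exact Finset.sum_congr rfl fun i _ => by rw [ev_smul, aeval_X, hG2]

/-- Alternating sums vanish. -/
theorem sum_alt_eq_zero {R : Type*} [CommRing R] (x : σ → R) (c : σ → σ → R)
    (h1 : ∀ i j, c j i = - c i j) (h2 : ∀ i, c i i = 0) : ∑ i, ∑ j, x i * (x j * c i j) = 0 := by
  have key : ∀ (s : Finset σ), ∑ i ∈ s, ∑ l ∈ s, x i * (x l * c i l) = 0 := by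
    intro s
    induction s using Finset.induction_on with
    | empty => simp
    | insert j s hj ih =>
      rw [Finset.sum_insert hj, Finset.sum_insert hj, h2 j, mul_zero, mul_zero, zero_add]
      have : ∑ i ∈ s, ∑ l ∈ insert j s, x i * (x l * c i l) =
          ∑ i ∈ s, x i * (x j * c i j) + ∑ i ∈ s, ∑ l ∈ s, x i * (x l * c i l) := by
        rw [← Finset.sum_add_distrib]
        exact Finset.sum_congr rfl fun i _ => by rw [Finset.sum_insert hj]
      rw [this, ih, add_zero, ← Finset.sum_add_distrib]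
      refine Finset.sum_eq_zero fun i _ => ?_
      rw [h1 i j]
      ring
  exact key Finset.univ

/-- **All relations are consequences of linear relations.** -/
theorem exists_of_linear
    (hmul : ∀ t i, ∀ f ∈ N t, y i * f ∈ N (t + 1))
    (hG : ∀ t, ∀ f ∈ N (t + 1), ∃ b : σ → K, (∀ i, b i ∈ N t) ∧ ∑ i, y i * b i = f)
    (hKos : ∀ t, ∀ f : σ → K, (∀ i, f i ∈ N (t + 1)) → ∑ i, y i * f i = 0 →
      ∃ c : σ → σ → K, (∀ i j, c i j ∈ N t) ∧ (∀ i j, c j i = - c i j) ∧ (∀ i, c i i = 0) ∧
        ∀ i, f i = ∑ j, y j * c i j)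
    (ha : Submodule.span k (Set.range a) = N 0) {n : ℕ} (A : Fin n → Fin m → MvPolynomial σ k)
    (hA : ∀ G : Fin m → MvPolynomial σ k, Hom m 1 G → ev y a G = 0 →
      ∃ c : Fin n → k, G = ∑ q, c q • A q)
    (t : ℕ) (G : Fin m → MvPolynomial σ k) (hGt : Hom m (t + 1) G) (hG0 : ev y a G = 0) :
    ∃ E : Fin n → MvPolynomial σ k, (∀ q, (E q).IsHomogeneous t) ∧ G = ∑ q, E q • A q := by
  have ha0 : ∀ p, a p ∈ N 0 := fun p => by
    rw [← ha]; exact Submodule.subset_span ⟨p, rfl⟩
  induction t generalizing G with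
  | zero =>
    obtain ⟨c, hc⟩ := hA G hGt hG0
    refine ⟨fun q => C (c q), fun q => isHomogeneous_C _ _, ?_⟩
    rw [hc]
    refine Finset.sum_congr rfl fun q _ => ?_
    funext p
    simp [MvPolynomial.smul_eq_C_mul]
  | succ t ih =>
    choose g hg hg2 using fun p => exists_sum_X (hGt p)
    have h1 : G = ∑ i, (X i : MvPolynomial σ k) • fun p => g p i := by
      funext p
      rw [Finset.sum_apply, ← hg2 p]
      rfl
    have hf : ∀ i, ev y a (fun p => g p i) ∈ N (t + 1) := fun i =>
      ev_mem hmul ha0 (t + 1) _ fun p => hg p i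
    have hf0 : ∑ i, y i * ev y a (fun p => g p i) = 0 := by
      rw [← hG0]
      conv_rhs => rw [h1]
      rw [ev_sum]
      exact Finset.sum_congr rfl fun i _ => by rw [ev_smul, aeval_X]
    obtain ⟨c, hc1, hc2, hc3, hc4⟩ := hKos t _ hf hf0
    choose C' hC1 hC2 using fun i j => exists_ev hG ha t (c i j) (hc1 i j)
    let D : σ → σ → Fin m → MvPolynomial σ k := fun i j =>
      if i < j then C' i j else if j < i then -C' j i else 0
    have hD1 : ∀ i j, Hom m t (D i j) := by
      intro i j
      dsimp only [D]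
      split_ifs with h h'
      · exact hC1 i j
      · exact fun p => (hC1 j i p).neg
      · exact fun p => isHomogeneous_zero _ _ _
    have hD2 : ∀ i j, ev y a (D i j) = c i j := by
      intro i j
      dsimp only [D]
      split_ifs with h h'
      · exact hC2 i j
      · rw [ev_neg, hC2, hc2 i j, neg_neg]
      · rw [ev_zero, le_antisymm (not_lt.mp h') (not_lt.mp h), hc3]
    have hD3 : ∀ i j, D j i = - D i j := by
      intro i j
      dsimp only [D]
      rcases lt_trichotomy i j with h | h | h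
      · rw [if_neg h.not_gt, if_pos h, if_pos h]
      · subst h; simp
      · rw [if_pos h, if_neg h.not_gt, if_pos h, neg_neg]
    have hD4 : ∀ i, D i i = 0 := by
      intro i
      dsimp only [D]
      rw [if_neg (lt_irrefl i), if_neg (lt_irrefl i)]
    let G' : σ → Fin m → MvPolynomial σ k := fun i =>
      (fun p => g p i) - ∑ j, (X j : MvPolynomial σ k) • D i j
    have hG'1 : ∀ i, Hom m (t + 1) (G' i) := by
      intro i p
      dsimp only [G']
      rw [Pi.sub_apply, Finset.sum_apply]
      refine (hg p i).sub (IsHomogeneous.sum _ _ _ fun j _ => ?_)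
      have := (isHomogeneous_X k j).mul (hD1 i j p)
      rwa [add_comm] at this
    have hG'2 : ∀ i, ev y a (G' i) = 0 := by
      intro i
      dsimp only [G']
      rw [ev_sub, ev_sum, hc4 i, sub_eq_zero]
      exact Finset.sum_congr rfl fun j _ => by rw [ev_smul, aeval_X, hD2]
    choose E hE1 hE2 using fun i => ih (G' i) (hG'1 i) (hG'2 i)
    refine ⟨fun q => ∑ i, X i * E i q, fun q => IsHomogeneous.sum _ _ _ fun i _ => ?_, ?_⟩
    · have := (isHomogeneous_X k i).mul (hE1 i q)
      rwa [add_comm] at this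
    · have h2 : G = ∑ i, (X i : MvPolynomial σ k) • G' i := by
        funext p
        rw [h1, Finset.sum_apply, Finset.sum_apply]
        have h3 : ∀ i, ((X i : MvPolynomial σ k) • G' i) p =
            X i * g p i - ∑ j, X i * (X j * D i j p) := by
          intro i
          rw [Pi.smul_apply, smul_eq_mul]
          dsimp only [G']
          rw [Pi.sub_apply, Finset.sum_apply, mul_sub, Finset.mul_sum]
          rfl
        rw [Finset.sum_congr rfl fun i _ => h3 i, Finset.sum_sub_distrib,
          sum_alt_eq_zero (fun i => (X i : MvPolynomial σ k)) (fun i j => D i j p)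
            (fun i j => by rw [hD3 i j]; rfl) (fun i => by rw [hD4 i]; rfl), sub_zero]
        rfl
      rw [h2, Finset.sum_congr rfl fun i _ => by rw [hE2 i]]
      funext p
      simp only [Finset.sum_apply, Pi.smul_apply, smul_eq_mul, Finset.mul_sum, Finset.sum_mul]
      rw [Finset.sum_comm]
      exact Finset.sum_congr rfl fun q _ => Finset.sum_congr rfl fun i _ => by ring

section Final

open FunFld K664 K830.GlpKos K830.GlpGen

omit [LinearOrder σ] in
/-- A finite family spanning the linear relations. -/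
theorem exists_linear_span (y : σ → K) (a : Fin m → K) :
    ∃ (n : ℕ) (A : Fin n → Fin m → MvPolynomial σ k), (∀ q, Hom m 1 (A q)) ∧
      (∀ q, ev y a (A q) = 0) ∧
      ∀ G : Fin m → MvPolynomial σ k, Hom m 1 G → ev y a G = 0 →
        ∃ c : Fin n → k, G = ∑ q, c q • A q := by
  let Φ : (Fin m → σ → k) →ₗ[k] (Fin m → MvPolynomial σ k) :=
    LinearMap.pi fun p => (Fintype.linearCombination k (fun i : σ => (X i : MvPolynomial σ k))).comp
      (LinearMap.proj p)
  have hΦ : ∀ c p, Φ c p = ∑ i, c p i • (X i : MvPolynomial σ k) := fun c p => rfl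
  let Ψ : (Fin m → MvPolynomial σ k) →ₗ[k] K :=
    { toFun := ev y a
      map_add' := ev_add
      map_smul' := fun c G => by
        simp only [ev, Pi.smul_apply, map_smul, smul_mul_assoc, Finset.smul_sum, RingHom.id_apply] }
  have hhom : ∀ c, Hom m 1 (Φ c) := fun c p => by
    rw [hΦ]
    exact IsHomogeneous.sum _ _ _ fun i _ => by
      rw [MvPolynomial.smul_eq_C_mul]; exact isHomogeneous_C_mul_X _ _
  let W := LinearMap.ker (Ψ.comp Φ)
  let b := Module.finBasis k W
  refine ⟨_, fun q => Φ (b q : Fin m → σ → k), fun q => hhom _, fun q => (b q).2,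
    fun G hG hG0 => ?_⟩
  have h1 : ∀ p, ∃ c : σ → k, ∑ i, c i • (X i : MvPolynomial σ k) = G p := fun p => by
    have : G p ∈ homogeneousSubmodule σ k 1 := hG p
    rw [homogeneousSubmodule_one_eq_span_X] at this
    exact (Submodule.mem_span_range_iff_exists_fun k).mp this
  choose c hc using h1
  have hGc : Φ c = G := funext fun p => by rw [hΦ, hc]
  have hW : c ∈ W := by
    change Ψ (Φ c) = 0
    rw [hGc]; exact hG0
  refine ⟨fun q => b.repr ⟨c, hW⟩ q, ?_⟩
  have h2 := congrArg (fun w : W => Φ (w : Fin m → σ → k)) (b.sum_repr ⟨c, hW⟩)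
  dsimp only at h2
  rw [hGc] at h2
  rw [← h2, Submodule.coe_sum, map_sum]
  exact Finset.sum_congr rfl fun q _ => by rw [Submodule.coe_smul, map_smul]

/-- **Linear presentations.** -/
theorem exists_presentation [IsAlgClosed k] (hK : IsFunctionField k K) {r : ℕ} (hr : 2 ≤ r)
    (y : Fin (r + 1) → K) (hy : LinearIndependent k y) (h0 : y 0 = 1) :
    ∃ (m n : ℕ) (a : Fin m → K) (A : Fin n → Fin m → MvPolynomial (Fin (r + 1)) k),
      (m : ℤ) = (mapDiv k y).deg - r + 2 ∧ 0 < m ∧ (∀ p, a p ≠ 0) ∧ (∀ q, Hom m 1 (A q)) ∧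
      (∀ q, ev y a (A q) = 0) ∧
      ∀ (t : ℕ) (G : Fin m → MvPolynomial (Fin (r + 1)) k), Hom m (t + 1) G → ev y a G = 0 →
        ∃ E : Fin n → MvPolynomial (Fin (r + 1)) k, (∀ q, (E q).IsHomogeneous t) ∧
          G = ∑ q, E q • A q := by
  set H := mapDiv k y with hH
  have hbpf := bpf_of_linearIndependent hK y hy
  have hH0 : 0 ≤ H := by
    intro P
    have h1 := hbpf.1 (Submodule.subset_span ⟨0, h0⟩) P
    rw [map_one, ← WithZero.exp_zero, WithZero.exp_le_exp] at h1
    exact h1
  obtain ⟨S, hS1, hS2, hS3, hS4⟩ := exists_good hK hr y hy H hbpf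
  obtain ⟨D, hD1, hD2⟩ := exists_generic hK S hS1 (H.deg - r + 2) (fun F hF => (hS2 F hF).2.2)
  obtain ⟨F₀, hF₀⟩ := hS3
  have hnsD : NS D := (hD2 F₀ hF₀).mono hK (sub_le_self _ (hS2 F₀ hF₀).1)
  have hell : (ell D : ℤ) = H.deg - r + 2 := by
    unfold NS at hnsD
    omega
  have hpos : 0 < ell D := by
    have h1 := hS2 F₀ hF₀
    omega
  have hfin := K660.Compare.finite_L hK D
  let b := Module.finBasis k (L D)
  let a : Fin (ell D) → K := fun p => (b p : K)
  have ha : Submodule.span k (Set.range a) = L (D + 0 • H) := by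
    rw [zero_smul, add_zero]
    have := congrArg (Submodule.map (L D).subtype) b.span_eq
    rw [Submodule.map_span, Submodule.map_subtype_top, ← Set.range_comp] at this
    exact this
  have hy' : ∀ i, y i ∈ L H := fun i => hbpf.1 (Submodule.subset_span ⟨i, rfl⟩)
  have hgood : ∀ t : ℕ, Good y H (D + t • H) := fun t => hS4 _ fun F hF => by
    refine (hD2 F hF).mono hK ?_
    rw [sub_le_sub_iff_right]
    exact le_add_of_nonneg_right (nsmul_nonneg hH0 t)
  have hsucc : ∀ t : ℕ, D + (t + 1) • H = D + t • H + H := fun t => by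
    rw [succ_nsmul, add_assoc]
  obtain ⟨n, A, hA1, hA2, hA3⟩ := exists_linear_span (k := k) y a
  refine ⟨ell D, n, a, A, hell, hpos, fun p h => ?_, hA1, hA2, fun t G hG hG0 => ?_⟩
  · exact b.ne_zero p (Subtype.ext h)
  · refine exists_of_linear (N := fun t => L (D + t • H)) ?_ ?_ ?_ ha A hA3 t G hG hG0
    · intro t i f hf
      rw [hsucc, add_comm]
      exact mul_mem_L (hy' i) hf
    · intro t f hf
      rw [hsucc] at hf
      exact (hgood t).1 f hf
    · intro t f hf hf0
      simp only [hsucc] at hf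
      exact (hgood t).2 f hf hf0

end Final

end K830.GlpSyz
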