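import Groth.Agent.Curves.K830.GlpMat
import Groth.Agent.Curves.K830.GlpSyz
import Groth.Agent.Curves.K830.GlpFitt
import Groth.Agent.Curves.K385.CurveFF

/-!
# Integral closed subschemes of projective space on the standard charts (helper830)

For an integral scheme `X` with a morphism `ι` to `P^r_k` the functions on the chart `V j` have values
`kap` in the function field of `X`; in terms of the ratios `y_b` of the coordinates the value of
`f / x_j ^ t` is `f(y) / y_j ^ t`.
-/

set_option autoImplicit false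

universe u

open CategoryTheory CategoryTheory.Limits AlgebraicGeometry Opposite TopologicalSpace

namespace K830.GlpChart

open Groth.Agent Groth.Agent.Ega2.H298.ProjRatio Groth.Agent.Ega2.H298.ProjExt K658.ProjSec
open K699.TwHom K830.GlpMat K821.Minors Groth.Agent.MiscA.CurvePlaces Groth.Agent.VarietyB.ProjGlue

variable {k : Type u} [Field k] {r : ℕ} {X : Scheme.{u}} [IsIntegral X]
  (ι : X ⟶ Proj (gr r k))

/-- The value in the function field of a function on a chart. -/
noncomputable def kap (j : Fin (r + 1)) (hj : genericPoint X ∈ W ι j) :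
    Γ(Proj (gr r k), V k j) →+* X.functionField :=
  (X.presheaf.germ (W ι j) (genericPoint X) hj).hom.comp (ι.app (V k j)).hom

theorem kap_dh (j : Fin (r + 1)) (hj : genericPoint X ∈ W ι j) (P : MvPolynomial (Fin (r + 1)) k) :
    kap ι j hj (dh j P) = X.presheaf.germ (W ι j) (genericPoint X) hj (θ ι j P) := by
  rw [θ_eq]; rfl

/-- The generic point as a point of the projective spectrum. -/
noncomputable abbrev gp : ProjectiveSpectrum (gr r k) := ι (genericPoint X)

/-- The map from the homogeneous localization at the image of the generic point. -/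
noncomputable def lam : HomogeneousLocalization.AtPrime (gr r k) (gp ι).asHomogeneousIdeal.toIdeal →+*
    X.functionField :=
  RingHom.comp (ι.stalkMap (genericPoint X)).hom
    (Proj.stalkIso' (CohB1.polyGrading r k) (gp ι)).symm.toRingHom

theorem kap_lin (j : Fin (r + 1)) (hj : genericPoint X ∈ W ι j) (h : gr r k 1) :
    kap ι j hj (dh j h.1) = lam ι (HomogeneousLocalization.mk
          ⟨1, h, ⟨MvPolynomial.X j, MvPolynomial.isHomogeneous_X k j⟩, hj⟩) := by
  rw [kap_dh]
  exact germ_θ ι j (genericPoint X) hj h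

theorem kap_mul (j l : Fin (r + 1)) (hj : genericPoint X ∈ W ι j) (hl : genericPoint X ∈ W ι l)
    (h : gr r k 1) : kap ι j hj (dh j h.1) * kap ι l hl (dh l (MvPolynomial.X j)) =
      kap ι l hl (dh l h.1) := by
  have h1 := kap_lin ι j hj h
  have h2 := kap_lin ι l hl (X1 k r j)
  have h3 := kap_lin ι l hl h
  change kap ι l hl (dh l (MvPolynomial.X j)) = _ at h2
  rw [h1, h2, h3, ← map_mul]
  refine congrArg (lam ι) ?_
  apply HomogeneousLocalization.val_injective
  rw [HomogeneousLocalization.val_mul, HomogeneousLocalization.val_mk, HomogeneousLocalization.val_mk,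
    HomogeneousLocalization.val_mk, Localization.mk_mul, Localization.mk_eq_mk_iff,
    Localization.r_iff_exists]
  refine ⟨1, ?_⟩
  simp [X1]
  ring

/-- Evaluation of forms at proportional vectors. -/
theorem aeval_mul_pow {K : Type*} [Field K] [Algebra k K] {σ : Type*} [Fintype σ] {t : ℕ}
    {G : MvPolynomial σ k} (hG : G.IsHomogeneous t) (z : σ → K) (c : K) :
    MvPolynomial.aeval z G * c ^ t = MvPolynomial.aeval (fun b => z b * c) G := by
  rw [MvPolynomial.aeval_def, MvPolynomial.aeval_def, MvPolynomial.eval₂_eq', MvPolynomial.eval₂_eq',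
    Finset.sum_mul]
  refine Finset.sum_congr rfl fun d hd => ?_
  have h1 : ∑ i, d i = t := by
    rw [← Finsupp.degree_eq_sum]
    by_contra hne
    exact (MvPolynomial.mem_support_iff.mp hd) (hG.coeff_eq_zero hne)
  rw [← h1, ← Finset.prod_pow_eq_pow_sum, mul_assoc, ← Finset.prod_mul_distrib]
  congr 1
  exact Finset.prod_congr rfl fun i _ => (mul_pow _ _ _).symm

theorem germ_baseHom {X : Scheme.{u}} [IsIntegral X] [Algebra k X.functionField]
    (f : X ⟶ Spec (CommRingCat.of k))
    (hk : genericPt X ≫ f = Spec.map (CommRingCat.ofHom (algebraMap k X.functionField)))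
    (U : X.Opens) (hU : genericPoint X ∈ U) (c : k) :
    X.presheaf.germ U (genericPoint X) hU (CoordData.baseHom f U c) =
      algebraMap k X.functionField c := by
  have hx : genericPoint X ∈ (⊤ : X.Opens) := trivial
  have h1 := Groth.Agent.MiscA.CurveH1.val_toGlobal f hk c ⟨genericPoint X, hx⟩
  have : Nonempty (⊤ : X.Opens) := ⟨⟨genericPoint X, hx⟩⟩
  refine Eq.trans ?_ ((Groth.Agent.MiscA.CurveH1.val_eq ⊤ ⟨genericPoint X, hx⟩ _).symm.trans h1)
  exact TopCat.Presheaf.germ_res_apply X.presheaf (homOfLE (le_top : U ≤ ⊤)) (genericPoint X) hU _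

section Val

variable [Algebra k X.functionField]
  (hk : genericPt X ≫ ι ≫ CohB1.ProjSpace.toSpec r k =
    Spec.map (CommRingCat.ofHom (algebraMap k X.functionField)))

include hk

theorem kap_C (j : Fin (r + 1)) (hj : genericPoint X ∈ W ι j) (c : k) :
    kap ι j hj (dh j (MvPolynomial.C c)) = algebraMap k X.functionField c := by
  rw [kap_dh, θ_C]
  exact germ_baseHom _ hk _ hj c

end Val

section Yv

/-- The ratios of the coordinates. -/
noncomputable def yv (h0 : genericPoint X ∈ W ι 0) (b : Fin (r + 1)) : X.functionField :=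
  kap ι 0 h0 (dh 0 (MvPolynomial.X b))

variable (h0 : genericPoint X ∈ W ι 0)

theorem yv_zero : yv ι h0 0 = 1 := by
  rw [yv, dh_self, map_one]

theorem kap_X_mul (j : Fin (r + 1)) (hj : genericPoint X ∈ W ι j) (b : Fin (r + 1)) :
    kap ι j hj (dh j (MvPolynomial.X b)) * yv ι h0 j = yv ι h0 b :=
  kap_mul ι j 0 hj h0 (X1 k r b)

theorem yv_ne_zero (j : Fin (r + 1)) (hj : genericPoint X ∈ W ι j) : yv ι h0 j ≠ 0 := by
  intro h
  have h1 := kap_X_mul ι h0 j hj 0
  rw [h, mul_zero, yv_zero] at h1
  exact zero_ne_one h1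

variable [Algebra k X.functionField]
  (hk : genericPt X ≫ ι ≫ CohB1.ProjSpace.toSpec r k =
    Spec.map (CommRingCat.ofHom (algebraMap k X.functionField)))

include hk

theorem kap_dh_eq_aeval (j : Fin (r + 1)) (hj : genericPoint X ∈ W ι j)
    (P : MvPolynomial (Fin (r + 1)) k) : kap ι j hj (dh j P) =
      MvPolynomial.aeval (fun b => kap ι j hj (dh j (MvPolynomial.X b))) P := by
  induction P using MvPolynomial.induction_on with
  | C c => rw [MvPolynomial.aeval_C, kap_C ι hk]
  | add P Q hP hQ => rw [map_add, map_add, map_add, hP, hQ]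
  | mul_X P i hP => rw [map_mul, map_mul, map_mul, MvPolynomial.aeval_X, hP]

/-- The value of `G / x_j ^ t` is `G(y) / y_j ^ t`. -/
theorem kap_dh_mul_pow (j : Fin (r + 1)) (hj : genericPoint X ∈ W ι j) {t : ℕ}
    {G : MvPolynomial (Fin (r + 1)) k} (hG : G.IsHomogeneous t) :
    kap ι j hj (dh j G) * yv ι h0 j ^ t = MvPolynomial.aeval (yv ι h0) G := by
  rw [kap_dh_eq_aeval ι hk, aeval_mul_pow hG]
  congr 2
  funext b
  exact kap_X_mul ι h0 j hj b

end Yv

section Homogenize

/-- Homogenization with respect to `x_j`. -/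
theorem exists_homogeneous (j : Fin (r + 1)) (P : MvPolynomial (Fin (r + 1)) k) (N : ℕ)
    (hN : P.totalDegree ≤ N) : ∃ G : MvPolynomial (Fin (r + 1)) k, G.IsHomogeneous N ∧
      dh j G = dh j P := by
  refine ⟨∑ d ∈ Finset.range (P.totalDegree + 1),
    MvPolynomial.homogeneousComponent d P * MvPolynomial.X j ^ (N - d), ?_, ?_⟩
  · refine MvPolynomial.IsHomogeneous.sum _ _ _ fun d hd => ?_
    have hd' := Finset.mem_range.mp hd
    have h1 := (MvPolynomial.homogeneousComponent_isHomogeneous d P).mul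
      (MvPolynomial.isHomogeneous_X_pow (R := k) j (N - d))
    rwa [show d + (N - d) = N by omega] at h1
  · rw [map_sum]
    conv_rhs => rw [← MvPolynomial.sum_homogeneousComponent P, map_sum]
    refine Finset.sum_congr rfl fun d _ => ?_
    rw [map_mul, map_pow, dh_self, one_pow, mul_one]

end Homogenize

section Exact

open K830.GlpSyz

variable (h0 : genericPoint X ∈ W ι 0) [Algebra k X.functionField]
  (hk : genericPt X ≫ ι ≫ CohB1.ProjSpace.toSpec r k =
    Spec.map (CommRingCat.ofHom (algebraMap k X.functionField)))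

include hk

/-- **Exactness on the charts.** -/
theorem exists_mulVec {m n : ℕ} (a : Fin m → X.functionField)
    (A : Fin n → Fin m → MvPolynomial (Fin (r + 1)) k)
    (hA : ∀ (t : ℕ) (G : Fin m → MvPolynomial (Fin (r + 1)) k), Hom m (t + 1) G →
      K830.GlpSyz.ev (yv ι h0) a G = 0 →
        ∃ E : Fin n → MvPolynomial (Fin (r + 1)) k, (∀ q, (E q).IsHomogeneous t) ∧
          G = ∑ q, E q • A q)
    (j : Fin (r + 1)) (hj : genericPoint X ∈ W ι j) (c : Fin m → Γ(Proj (gr r k), V k j))
    (hc : ∑ p, kap ι j hj (c p) * a p = 0) :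
    ∃ e : Fin n → Γ(Proj (gr r k), V k j), (Matrix.of fun p q => dh j (A q p)).mulVec e = c := by
  choose P hP using fun p => dh_surjective j (c p)
  obtain ⟨t, ht⟩ : ∃ t, ∀ p, (P p).totalDegree ≤ t + 1 :=
    ⟨Finset.univ.sup fun p => (P p).totalDegree, fun p =>
      (Finset.le_sup (f := fun p => (P p).totalDegree) (Finset.mem_univ p)).trans (Nat.le_succ _)⟩
  choose G hG1 hG2 using fun p => exists_homogeneous j (P p) (t + 1) (ht p)
  have h1 : K830.GlpSyz.ev (yv ι h0) a G = 0 := by
    unfold K830.GlpSyz.ev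
    have h2 : ∀ p, MvPolynomial.aeval (yv ι h0) (G p) * a p =
        (kap ι j hj (c p) * a p) * yv ι h0 j ^ (t + 1) := fun p => by
      rw [← kap_dh_mul_pow ι h0 hk j hj (hG1 p), hG2, hP]
      ring
    rw [Finset.sum_congr rfl fun p _ => h2 p, ← Finset.sum_mul, hc, zero_mul]
  obtain ⟨E, -, hE⟩ := hA t G hG1 h1
  refine ⟨fun q => dh j (E q), ?_⟩
  funext p
  rw [← hP p, ← hG2 p, hE, Finset.sum_apply, map_sum]
  simp only [Matrix.mulVec, dotProduct, Matrix.of_apply, Pi.smul_apply, smul_eq_mul, map_mul]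
  exact Finset.sum_congr rfl fun q _ => mul_comm _ _

theorem sum_kap_eq_zero {m n : ℕ} (a : Fin m → X.functionField)
    (A : Fin n → Fin m → MvPolynomial (Fin (r + 1)) k) (hA1 : ∀ q, Hom m 1 (A q))
    (hA : ∀ q, K830.GlpSyz.ev (yv ι h0) a (A q) = 0)
    (j : Fin (r + 1)) (hj : genericPoint X ∈ W ι j) (q : Fin n) :
    ∑ p, kap ι j hj (dh j (A q p)) * a p = 0 := by
  have h1 := hA q
  unfold K830.GlpSyz.ev at h1
  have h2 : ∀ p, MvPolynomial.aeval (yv ι h0) (A q p) * a p =
      (kap ι j hj (dh j (A q p)) * a p) * yv ι h0 j := fun p => by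
    rw [← kap_dh_mul_pow ι h0 hk j hj (hA1 q p), pow_one]
    ring
  rw [Finset.sum_congr rfl fun p _ => h2 p, ← Finset.sum_mul] at h1
  exact (mul_eq_zero.mp h1).resolve_right (yv_ne_zero ι h0 j hj)

end Exact

end K830.GlpChart
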