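import Groth.Agent.Curves.K830.GlpLoc
import Groth.Agent.Zeta.K466.PicEq
import Groth.Agent.FunFld.K663.Bridge
import Groth.Agent.FunFld.K669.MapDiv

/-!
# The degree of a projective curve is the degree of the divisor of its coordinates (helper830)
-/

set_option autoImplicit false

universe u

open CategoryTheory CategoryTheory.Limits AlgebraicGeometry Opposite TopologicalSpace WithZero

namespace K830.GlpDeg

open Groth.Agent Groth.Agent.Ega2.H298.ProjRatio Groth.Agent.Ega2.H298.ProjExt K658.ProjSec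
open K699.TwHom K830.GlpMat K821.Minors Groth.Agent.MiscA.CurvePlaces Groth.Agent.VarietyB.ProjGlue
open K830.GlpChart K830.GlpLoc Groth.Agent.Lefpen.H725.CocDef Groth.Agent.Fdesc.LocGen
open Groth.Agent.MiscA.WCPlace (IsSep)

section FF

variable {k K : Type*} [Field k] [Field K] [Algebra k K]

theorem exp_mapDiv {σ : Type*} [Fintype σ] [Nonempty σ] (hK : FunFld.IsFunctionField k K)
    {φ : σ → K} (hφ : K669.MapDiv.Good φ) (P : FunFld.Place k K) (j : σ) (hj : φ j ≠ 0)
    (h : ∀ b, P.1 (φ b) ≤ P.1 (φ j)) : P.1 (φ j) = exp (FunFld.mapDiv k φ P) := by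
  have h0 : P.1 (φ j) ≠ 0 := (P.1.ne_zero_iff).mpr hj
  apply le_antisymm
  · exact K669.MapDiv.val_le_of_mem_span hK hφ P (Submodule.subset_span ⟨j, rfl⟩)
  · have h1 : FunFld.mapDiv k φ P ≤ log (P.1 (φ j)) :=
      (K669.MapDiv.mapDiv_le_iff' hK hφ P _).mpr fun i => by
        rw [exp_log h0]
        exact h i
    rw [← exp_log h0]
    exact exp_le_exp.mpr h1

end FF

variable {k : Type u} [Field k] {r : ℕ} {X : Scheme.{u}} [IsIntegral X]
  (ι : X ⟶ Proj (gr r k))

/-- A chart containing the point. -/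
noncomputable def jx (x : X) : Fin (r + 1) := (exists_mem_W ι x).choose

theorem mem_jx (x : X) : x ∈ W ι (jx ι x) := (exists_mem_W ι x).choose_spec

theorem hasCoc (hη : ∀ j, genericPoint X ∈ W ι j) :
    HasCoc ((Scheme.Modules.pullback ι).obj (Twist.twist (gr r k) 1))
      (fun x => yv ι (hη 0) (jx ι x)) := by
  refine ⟨fun x => yv_ne_zero ι (hη 0) _ (hη _), fun x => W ι (jx ι x), mem_jx ι,
    fun x => sec (pull (gr r k) ι (X1 k r (jx ι x))) (W ι (jx ι x)),
    fun x => isGen_pull (gr r k) ι (X1 k r (jx ι x)), fun x y => ?_⟩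
  refine ⟨ores inf_le_right (θ ι (jx ι y) (X1 k r (jx ι x)).1), ⟨hη _, hη _⟩, ?_, ?_⟩
  · change res _ inf_le_left (sec (pull (gr r k) ι (X1 k r (jx ι x))) (W ι (jx ι x))) = _ •
      res _ inf_le_right (sec (pull (gr r k) ι (X1 k r (jx ι y))) (W ι (jx ι y)))
    rw [res_sec]
    have h1 := sec_pull_eq_smul (gr r k) ι (X1 k r (jx ι y)) (X1 k r (jx ι x))
    rw [← θ_lin ι (jx ι y) (X1 k r (jx ι x))] at h1
    have h2 := congrArg (res _ (inf_le_right : W ι (jx ι x) ⊓ W ι (jx ι y) ≤ W ι (jx ι y))) h1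
    rw [res_sec, res_smul] at h2
    exact h2
  · rw [Groth.Agent.Lefpen.H521.CartierCoc.ff_ores (inf_le_right) ⟨hη _, hη _⟩]
    have h1 := kap_X_mul ι (hη 0) (jx ι y) (hη _) (jx ι x)
    rw [kap_dh] at h1
    exact h1.symm

theorem kap_eq_algebraMap (j : Fin (r + 1)) (hj : genericPoint X ∈ W ι j) (x : X) (hx : x ∈ W ι j)
    (f : Γ(Proj (gr r k), V k j)) : ∃ c : X.presheaf.stalk x, kap ι j hj f =
      algebraMap (X.presheaf.stalk x) X.functionField c := by
  have hne : Nonempty (W ι j) := ⟨⟨_, hj⟩⟩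
  exact ⟨X.presheaf.germ (W ι j) x hx ((ι.app (V k j)).hom f),
    (Scheme.algebraMap_germ_eq_germToFunctionField X hx _).symm⟩

theorem deg_mapDomain {k K : Type*} [Field k] [Field K] [Algebra k K]
    (h : ∃ t : K, IsSep k K t) (E : FunFld.Divisor k K) :
    (Groth.Agent.MiscA.WCPlaceCrv.crv h).deg (E.mapDomain (K663.Bridge.placeEquiv h)) =
      (K663.Bridge.crvF h).deg E := by
  induction E using Finsupp.induction_linear with
  | zero => rw [Finsupp.mapDomain_zero, map_zero, map_zero]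
  | add f g hf hg => rw [Finsupp.mapDomain_add, map_add, map_add, hf, hg]
  | single P n =>
    rw [Finsupp.mapDomain_single, Groth.Agent.Models.FFRR.Crv.deg_single,
      Groth.Agent.Models.FFRR.Crv.deg_single, K663.Bridge.dg0_eq, K663.Bridge.placeEquiv_apply]

section Main

variable [X.Over (Spec (CommRingCat.of k))] [Algebra k X.functionField]
  [IsProper (X ↘ Spec (CommRingCat.of k))] [Smooth (X ↘ Spec (CommRingCat.of k))]
  (hk : genericPt X ≫ (X ↘ Spec (CommRingCat.of k)) =
    Spec.map (CommRingCat.ofHom (algebraMap k X.functionField)))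
  (hdim : topologicalKrullDim X = 1)

open K466.PicDiv in
include hk hdim in
theorem deg_eq [PerfectField k] (hK : FunFld.IsFunctionField k X.functionField)
    (hη : ∀ j, genericPoint X ∈ W ι j) :
    Curv2.deg k X ((Scheme.Modules.pullback ι).obj (Twist.twistProjSpace r k 1)) 1 =
      (FunFld.mapDiv k (yv ι (hη 0))).deg := by
  obtain h := K663.Bridge.exists_isSep hK
  let D : Groth.Agent.MiscA.WCPlace.Place k X.functionField →₀ ℤ :=
    (FunFld.mapDiv k (yv ι (hη 0))).mapDomain (K663.Bridge.placeEquiv h)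
  have hDap : ∀ P, D (K663.Bridge.placeEquiv h P) = FunFld.mapDiv k (yv ι (hη 0)) P := fun P =>
    Finsupp.mapDomain_apply (K663.Bridge.placeEquiv h).injective _ _
  have hgood : K669.MapDiv.Good (yv ι (hη 0)) := Or.inr ⟨0, yv_zero ι (hη 0)⟩
  have hdiv : IsDiv (X ↘ Spec (CommRingCat.of k)) hk hdim
      ((Scheme.Modules.pullback ι).obj (Twist.twistProjSpace r k 1)) D := by
    refine ⟨_, hasCoc ι hη, fun x => ?_⟩
    obtain ⟨P, hP⟩ := (K663.Bridge.placeEquiv h).surjective
      (Groth.Agent.MiscA.WCBridge.placeOf (X ↘ Spec (CommRingCat.of k)) hk hdim x)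
    rw [← hP, hDap, K663.Bridge.placeEquiv_apply, K663.Bridge.toWC_val h]
    refine exp_mapDiv hK hgood P _ (yv_ne_zero ι (hη 0) _ (hη _)) fun b => ?_
    rw [← kap_X_mul ι (hη 0) (jx ι x.1) (hη _) b, map_mul]
    obtain ⟨c, hc⟩ := kap_eq_algebraMap ι (jx ι x.1) (hη _) x.1 (mem_jx ι x.1)
      (dh (jx ι x.1) (MvPolynomial.X b))
    rw [hc, ← K663.Bridge.toWC_val h, ← K663.Bridge.placeEquiv_apply h, hP]
    obtain ⟨t, ht⟩ := h
    exact mul_le_of_le_one_left' (K466.PicVal.val_algebraMap_le (X ↘ Spec (CommRingCat.of k)) hk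
      hdim ht x c)
  have hinv : PicF.IsInvertible ((Scheme.Modules.pullback ι).obj (Twist.twistProjSpace r k 1)) :=
    Groth.Agent.CycB.C1Pull.isInvertible_pullback _ (isInvertible_T 1)
  rw [K466.PicEq.deg_eq k X hk hdim h hinv hdiv, K663.Bridge.deg_eq h]
  exact deg_mapDomain h _

end Main

end K830.GlpDeg
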