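import Groth.Agent.Curves.K830.GlpKos
import Groth.Agent.FunFld.K663.AlgC
import Groth.Agent.FunFld.K660.Weil
import Mathlib.Tactic

/-! General divisors of given degree are nonspecial, simultaneously for finitely many
translates (helper830). -/

set_option autoImplicit false

open WithZero

namespace K830.GlpGen

open FunFld K664 K830.GlpKos

variable {k K : Type*} [Field k] [Field K] [Algebra k K] [IsAlgClosed k]

/-- Dropping a place which is not a base point. -/
theorem ell_sub_single_add_one (hK : IsFunctionField k K) {G : Divisor k K} {u : K}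
    (hu : u ∈ L G) {P : Place k K} (hP : P.1 u = exp (G P)) :
    ell (G - Finsupp.single P 1) + 1 = ell G := by
  have := K660.Compare.finite_L hK G
  have h1 := finrank_inf_L_sub_single hK (L G) G le_rfl P hu hP
  rw [inf_eq_right.mpr (L_mono (sub_le_self _ (by simp)))] at h1
  exact h1

/-- Away from a finite set of places, dropping a place lowers a nonzero `ℓ(G)` by one. -/
theorem exists_finite_base (hK : IsFunctionField k K) (G : Divisor k K) :
    {P : Place k K | ¬ (ell G ≠ 0 → ell (G - Finsupp.single P 1) + 1 = ell G)}.Finite := by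
  by_cases h : ell G = 0
  · simp [h]
  · have h2 : L G ≠ ⊥ := by
      intro h'
      apply h
      unfold ell
      rw [h', finrank_bot]
    obtain ⟨u, hu, hu0⟩ := (Submodule.ne_bot_iff _).mp h2
    refine (finite_lt hK hu0 hu).subset fun P hP hP2 => hP fun _ => ?_
    exact ell_sub_single_add_one hK hu hP2

omit [IsAlgClosed k] in
theorem ns_iff (hK : IsFunctionField k K) {C : Divisor k K} (hC : IsCanonical k K C)
    (D : Divisor k K) : NS D ↔ ell (C - D) = 0 := by
  have := K660.Weil.riemann_roch hK hC D
  unfold NS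
  omega

/-- One improvement step. -/
theorem exists_step (hK : IsFunctionField k K) {C : Divisor k K} (hC : IsCanonical k K C)
    (S : Finset (Divisor k K)) (e : ℤ) (he : ∀ F ∈ S, F.deg ≤ e) (D : Divisor k K)
    (hD : D.deg = genus k K - 1 + e) (F₀ : Divisor k K) (hF₀ : F₀ ∈ S)
    (h₀ : ell (C - (D - F₀)) ≠ 0) :
    ∃ D' : Divisor k K, D'.deg = genus k K - 1 + e ∧
      (∀ F ∈ S, ell (C - (D' - F)) ≤ ell (C - (D - F))) ∧
      ell (C - (D' - F₀)) < ell (C - (D - F₀)) := by
  classical
  have hinf := K663.AlgC.infinite_place hK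
  have hfin1 : (⋃ F ∈ S, {P : Place k K | ¬ (ell (D - F) ≠ 0 →
      ell (D - F - Finsupp.single P 1) + 1 = ell (D - F))}).Finite :=
    S.finite_toSet.biUnion fun F _ => exists_finite_base hK (D - F)
  obtain ⟨P, hP⟩ := hfin1.exists_notMem
  simp only [Set.mem_iUnion, Set.mem_ofPred_eq, exists_prop, not_exists, not_and, not_not] at hP
  have hfin2 : (⋃ F ∈ S, {Q : Place k K | ¬ (ell (C - (D - F) + Finsupp.single P 1) ≠ 0 →
      ell (C - (D - F) + Finsupp.single P 1 - Finsupp.single Q 1) + 1 =
        ell (C - (D - F) + Finsupp.single P 1))}).Finite :=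
    S.finite_toSet.biUnion fun F _ => exists_finite_base hK _
  obtain ⟨Q, hQ⟩ := hfin2.exists_notMem
  simp only [Set.mem_iUnion, Set.mem_ofPred_eq, exists_prop, not_exists, not_and, not_not] at hQ
  have hdP := K663.AlgC.place_deg_one hK P
  have hdQ := K663.AlgC.place_deg_one hK Q
  have hkey : ∀ F ∈ S, ell (C - (D - Finsupp.single P 1 + Finsupp.single Q 1 - F)) ≤
      ell (C - (D - F)) ∧ (ell (C - (D - F)) ≠ 0 →
        ell (C - (D - Finsupp.single P 1 + Finsupp.single Q 1 - F)) < ell (C - (D - F))) := by
    intro F hF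
    have heq : C - (D - Finsupp.single P 1 + Finsupp.single Q 1 - F) =
        C - (D - F) + Finsupp.single P 1 - Finsupp.single Q 1 := by abel
    rw [heq]
    have r1 := K660.Weil.riemann_roch hK hC (D - F)
    have r2 := K660.Weil.riemann_roch hK hC (D - F - Finsupp.single P 1)
    rw [show C - (D - F - Finsupp.single P 1) = C - (D - F) + Finsupp.single P 1 by abel] at r2
    simp only [K660.Compare.deg_sub, K660.Compare.deg_single, hdP] at r1 r2
    have h1 := hP F hF
    have h2 := hQ F hF
    have h3 := he F hF
    by_cases h4 : ell (D - F) = 0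
    · have h5 : ell (D - F - Finsupp.single P 1) = 0 := by
        have := K660.Compare.finite_L hK (D - F)
        have := Submodule.finrank_mono (L_mono (sub_le_self (D - F)
          (show (0 : Divisor k K) ≤ Finsupp.single P 1 by simp)))
        change ell _ ≤ ell _ at this
        omega
      have h6 := h2 (by omega)
      omega
    · have h5 := h1 h4
      by_cases h6 : ell (C - (D - F) + Finsupp.single P 1) = 0
      · have h7 : ell (C - (D - F) + Finsupp.single P 1 - Finsupp.single Q 1) = 0 := by
          have := K660.Compare.finite_L hK (C - (D - F) + Finsupp.single P 1)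
          have := Submodule.finrank_mono (L_mono (sub_le_self (C - (D - F) + Finsupp.single P 1)
            (show (0 : Divisor k K) ≤ Finsupp.single Q 1 by simp)))
          change ell _ ≤ ell _ at this
          omega
        omega
      · have h7 := h2 h6
        omega
  refine ⟨D - Finsupp.single P 1 + Finsupp.single Q 1, ?_, fun F hF => (hkey F hF).1,
    (hkey F₀ hF₀).2 h₀⟩
  simp only [K660.Compare.deg_add, K660.Compare.deg_sub, K660.Compare.deg_single, hdP, hdQ]
  push_cast
  omega

/-- **General divisors**: for finitely many divisors `F` of degree at most `e` there is a divisor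
`D` of degree `g - 1 + e` such that all `D - F` are nonspecial. -/
theorem exists_generic (hK : IsFunctionField k K) (S : Set (Divisor k K)) (hS : S.Finite) (e : ℤ)
    (he : ∀ F ∈ S, F.deg ≤ e) :
    ∃ D : Divisor k K, D.deg = genus k K - 1 + e ∧ ∀ F ∈ S, NS (D - F) := by
  classical
  obtain ⟨C, hC⟩ := K660.Weil.exists_isCanonical hK
  set T := hS.toFinset with hT
  have hTm : ∀ F, F ∈ T ↔ F ∈ S := fun F => by rw [hT, Set.Finite.mem_toFinset]
  have main : ∀ (n : ℕ) (D : Divisor k K), D.deg = genus k K - 1 + e →
      ∑ F ∈ T, ell (C - (D - F)) = n →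
      ∃ D' : Divisor k K, D'.deg = genus k K - 1 + e ∧ ∀ F ∈ T, ell (C - (D' - F)) = 0 := by
    intro n
    induction n using Nat.strong_induction_on with
    | _ n ih =>
      intro D hD hn
      by_cases h : ∀ F ∈ T, ell (C - (D - F)) = 0
      · exact ⟨D, hD, h⟩
      · push Not at h
        obtain ⟨F₀, hF₀, h₀⟩ := h
        obtain ⟨D', h1, h2, h3⟩ := exists_step hK hC T e (fun F hF => he F ((hTm F).mp hF)) D hD
          F₀ hF₀ h₀
        refine ih _ ?_ D' h1 rfl
        rw [← hn]
        exact Finset.sum_lt_sum h2 ⟨F₀, hF₀, h3⟩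
  obtain ⟨P⟩ := K660.Places.nonempty_place hK
  have hdP := K663.AlgC.place_deg_one hK P
  obtain ⟨D', h1, h2⟩ := main _ (Finsupp.single P (genus k K - 1 + e)) (by
    rw [K660.Compare.deg_single, hdP]; push_cast; ring) rfl
  exact ⟨D', h1, fun F hF => (ns_iff hK hC _).mpr (h2 F ((hTm F).mpr hF))⟩

end K830.GlpGen
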