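import Groth.Agent.Curves.K830.GlpLoc

/-!
# The Fitting ideal of the presentation is the ideal of the curve (helper830)
-/

set_option autoImplicit false

universe u

open CategoryTheory CategoryTheory.Limits AlgebraicGeometry Opposite TopologicalSpace

namespace K830.GlpIdeal

open Groth.Agent Groth.Agent.Ega2.H298.ProjRatio Groth.Agent.Ega2.H298.ProjExt K658.ProjSec
open K699.TwHom K830.GlpMat K821.Minors Groth.Agent.MiscA.CurvePlaces Groth.Agent.VarietyB.ProjGlue
open K830.GlpChart K830.GlpLoc K830.GlpSyz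

variable {k : Type u} [Field k] {r : ℕ} {X : Scheme.{u}} [IsIntegral X]
  (ι : X ⟶ Proj (gr r k)) [IsClosedImmersion ι] [Algebra k X.functionField]

/-- **The ideal of the curve is the Fitting ideal of the presentation.** -/
theorem sheafIdeal_eq_ker (hval : ∀ x : X, ValuationRing (X.presheaf.stalk x))
    (hη : ∀ j, genericPoint X ∈ W ι j)
    (hk : genericPt X ≫ ι ≫ CohB1.ProjSpace.toSpec r k =
      Spec.map (CommRingCat.ofHom (algebraMap k X.functionField)))
    {m n : ℕ} (a : Fin (m + 1) → X.functionField) (ha : ∀ p, a p ≠ 0)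
    (A : Fin n → Fin (m + 1) → gr r k 1)
    (hA : ∀ q, K830.GlpSyz.ev (yv ι (hη 0)) a (fun p => (A q p).1) = 0)
    (hE : ∀ (t : ℕ) (G : Fin (m + 1) → MvPolynomial (Fin (r + 1)) k), Hom (m + 1) (t + 1) G →
      K830.GlpSyz.ev (yv ι (hη 0)) a G = 0 →
        ∃ E : Fin n → MvPolynomial (Fin (r + 1)) k, (∀ q, (E q).IsHomogeneous t) ∧
          G = ∑ q, E q • (fun p => (A q p).1)) :
    Fitt.sheafIdeal (cokernel (phi A)) 0 = ι.ker := by
  rw [fitt_phi]
  refine Scheme.IdealSheafData.ext_of_iSup_eq_top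
    (fun j : Fin (r + 1) => ⟨V k j, isAffineOpen_V j⟩)
    (iSup_basicOpen_eq_top (gr r k) (X1 k r) MvPolynomial.adjoin_range_X) fun j => ?_
  rw [fitt_gm, Fintype.card_fin, ← ker_kap ι j (hη j)]
  refine K830.GlpFitt.minorIdeal_eq_ker (kap ι j (hη j)) a ⟨0, ha 0⟩ _ (fun q => ?_) (fun c hc => ?_)
    (fun 𝔪 h𝔪 hle => exists_gen ι hval a ha j (hη j) 𝔪 h𝔪 hle)
  · exact sum_kap_eq_zero ι (hη 0) hk a (fun q p => (A q p).1) (fun q p => (A q p).2) hA j (hη j) q
  · exact exists_mulVec ι (hη 0) hk a (fun q p => (A q p).1) hE j (hη j) c hc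

end K830.GlpIdeal
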