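import Groth.Agent.FunFld.K664.Map
import Groth.Agent.FunFld.K659.Trans
import Mathlib.Tactic

/-! Koszul exactness for flags of base point free systems (helper830).

`K/k` is a function field of one variable with `k` algebraically closed.  A *flag* is a sequence
`w₀, w₁, …` of elements of `K` with divisors `H₁ ≤ H₂ ≤ …` such that `w₀, …, w_{n-1}` generate `H_n`.
If the divisors `B - E_i` (and `B - E_i - E_j`) are nonspecial, `E_i = H_{i+1} - H_i`, then
multiplication `⊕ L(B) → L(B + H_n)` by the `w_i` is onto, and the relations between the `w_i`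
with coefficients in `L(B + H_n)` are the Koszul relations with coefficients in `L(B)`. -/

set_option autoImplicit false

open WithZero

namespace K830.GlpKos

open FunFld K664

variable {k K : Type*} [Field k] [Field K] [Algebra k K]

/-- Nonspecial divisors. -/
def NS (D : Divisor k K) : Prop := (ell D : ℤ) = D.deg + 1 - (genus k K : ℤ)

theorem NS.mono (hK : IsFunctionField k K) {D D' : Divisor k K} (hD : NS D) (h : D ≤ D') :
    NS D' := by
  have h1 := K659.Trans.ell_sub_ell_le hK h
  have h2 := K660.Compare.deg_add_one_sub_ell_le hK D'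
  unfold NS at hD ⊢
  omega

/-- Multiplication by `v` maps `L(D)` onto `L(D+H)/L(D+H-E)` when `v` generates `H` along the
support of `E` and `D - E` is nonspecial. -/
theorem exists_sub_mul_mem (hK : IsFunctionField k K) {D E H : Divisor k K} (hE : 0 ≤ E)
    (hns : NS (D - E)) {v : K} (hvH : v ∈ L H)
    (hv : ∀ P : Place k K, E P ≠ 0 → P.1 v = exp (H P)) {f : K} (hf : f ∈ L (D + H)) :
    ∃ b ∈ L D, f - v * b ∈ L (D + H - E) := by
  have := K660.Compare.finite_L hK D
  have := K660.Compare.finite_L hK (D - E)
  have := K660.Compare.finite_L hK (D + H)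
  have := K660.Compare.finite_L hK (D + H - E)
  by_cases hv0 : v = 0
  · have hE0 : E = 0 := by
      ext P
      by_contra hP
      have := hv P hP
      rw [hv0, map_zero] at this
      exact exp_ne_zero this.symm
    refine ⟨0, (L D).zero_mem, ?_⟩
    rw [hE0, sub_zero, mul_zero, sub_zero]
    exact hf
  have hle : (L D).map (LinearMap.mulLeft k v) ⊔ L (D + H - E) ≤ L (D + H) := by
    refine sup_le ?_ (L_mono (sub_le_self _ hE))
    rintro _ ⟨b, hb, rfl⟩
    rw [add_comm]
    exact mul_mem_L hvH hb
  have hinf : (L D).map (LinearMap.mulLeft k v) ⊓ L (D + H - E) ≤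
      (L (D - E)).map (LinearMap.mulLeft k v) := by
    rintro _ ⟨⟨b, hb, rfl⟩, hb2⟩
    refine ⟨b, fun P => ?_, rfl⟩
    by_cases hP : E P = 0
    · rw [Finsupp.sub_apply, hP, sub_zero]; exact hb P
    · have h1 := hb2 P
      rw [LinearMap.mulLeft_apply, map_mul, hv P hP, Finsupp.sub_apply, Finsupp.add_apply] at h1
      rw [show D P + H P - E P = H P + (D P - E P) by ring, exp_add] at h1
      rw [Finsupp.sub_apply]
      exact le_of_mul_le_mul_left h1 (by simp)
  have hmap : ∀ (F : Divisor k K),
      Module.finrank k ((L F).map (LinearMap.mulLeft k v)) = ell F := by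
    intro F
    exact (LinearEquiv.finrank_eq (Submodule.equivMapOfInjective (LinearMap.mulLeft k v)
      (mul_right_injective₀ hv0) (L F))).symm
  have h1 := Submodule.finrank_sup_add_finrank_inf_eq ((L D).map (LinearMap.mulLeft k v))
    (L (D + H - E))
  have h2 := Submodule.finrank_mono hinf
  rw [hmap] at h1 h2
  have h3 : NS D := hns.mono hK (sub_le_self _ hE)
  have h4 := K659.Trans.ell_sub_ell_le hK (D₁ := D + H - E) (D₂ := D + H) (sub_le_self _ hE)
  have h5 : Module.finrank k (L (D + H - E)) = ell (D + H - E) := rfl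
  have h6 : Module.finrank k (L (D + H)) = ell (D + H) := rfl
  unfold NS at hns h3
  simp only [K660.Compare.deg_sub, K660.Compare.deg_add] at hns h3 h4
  have h7 := Submodule.finrank_mono hle
  have heq : (L D).map (LinearMap.mulLeft k v) ⊔ L (D + H - E) = L (D + H) := by
    refine Submodule.eq_of_le_of_finrank_eq hle ?_
    rw [h6] at h7 ⊢
    rw [h5] at h1
    omega
  rw [← heq, Submodule.mem_sup] at hf
  obtain ⟨_, ⟨b, hb, rfl⟩, g, hg, rfl⟩ := hf
  refine ⟨b, hb, ?_⟩
  rw [LinearMap.mulLeft_apply, add_sub_cancel_left]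
  exact hg

/-- A flag of length `n`. -/
structure Flag (w : ℕ → K) (H : ℕ → Divisor k K) (n : ℕ) : Prop where
  w0 : ∀ P : Place k K, P.1 (w 0) = exp (H 1 P)
  mono : ∀ i, 1 ≤ i → i < n → H i ≤ H (i + 1)
  mem : ∀ i, 1 ≤ i → i < n → w i ∈ L (H (i + 1))
  exact : ∀ i, 1 ≤ i → i < n → ∀ P : Place k K, (H (i + 1) - H i) P ≠ 0 →
    P.1 (w i) = exp (H (i + 1) P)

namespace Flag

variable {w : ℕ → K} {H : ℕ → Divisor k K} {n : ℕ}

theorem pred (F : Flag w H (n + 1)) : Flag w H n :=
  ⟨F.w0, fun i h1 h2 => F.mono i h1 (by omega), fun i h1 h2 => F.mem i h1 (by omega),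
    fun i h1 h2 => F.exact i h1 (by omega)⟩

theorem H_mono (F : Flag w H n) {i j : ℕ} (hi : 1 ≤ i) (hij : i ≤ j) (hj : j ≤ n) :
    H i ≤ H j := by
  induction j, hij using Nat.le_induction with
  | base => exact le_rfl
  | succ j hij ih => exact (ih (by omega)).trans (F.mono j (by omega) (by omega))

theorem w_mem (F : Flag w H n) (i : ℕ) (hi : i < n) : w i ∈ L (H n) := by
  rcases Nat.eq_zero_or_pos i with h | h
  · subst h
    refine L_mono (F.H_mono le_rfl hi le_rfl) fun P => ?_
    rw [F.w0 P]
  · exact L_mono (F.H_mono (by omega) hi le_rfl) (F.mem i h hi)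

theorem w0_ne (F : Flag w H n) [Nonempty (Place k K)] : w 0 ≠ 0 := by
  obtain ⟨P⟩ := ‹Nonempty (Place k K)›
  intro h
  have := F.w0 P
  rw [h, map_zero] at this
  exact exp_ne_zero this.symm

end Flag

section S

variable {w : ℕ → K} {H : ℕ → Divisor k K}

/-- Surjectivity. -/
theorem exists_coeff (hK : IsFunctionField k K) (n : ℕ) (F : Flag w H (n + 1)) (B : Divisor k K)
    (hns : ∀ i, 1 ≤ i → i ≤ n → NS (B - (H (i + 1) - H i))) {f : K} (hf : f ∈ L (B + H (n + 1))) :
    ∃ b : ℕ → K, (∀ i, b i ∈ L B) ∧ ∑ i ∈ Finset.range (n + 1), w i * b i = f := by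
  induction n generalizing f with
  | zero =>
    have := K660.Places.nonempty_place hK
    have hw := F.w0_ne
    refine ⟨fun i => if i = 0 then f / w 0 else 0, fun i => ?_, ?_⟩
    · dsimp only
      split_ifs
      · intro P
        have := hf P
        rw [map_div₀, F.w0 P, div_le_iff₀ (by simp), ← exp_add]
        exact this
      · exact (L B).zero_mem
    · simp [mul_div_cancel₀ _ hw]
  | succ n ih =>
    have hm := F.mono (n + 1) (by omega) (by omega)
    obtain ⟨b, hb, hb2⟩ := exists_sub_mul_mem hK (D := B) (E := H (n + 1 + 1) - H (n + 1))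
      (H := H (n + 1 + 1)) (sub_nonneg.mpr hm) (hns (n + 1) (by omega) le_rfl)
      (F.mem (n + 1) (by omega) (by omega)) (F.exact (n + 1) (by omega) (by omega)) hf
    rw [show B + H (n + 1 + 1) - (H (n + 1 + 1) - H (n + 1)) = B + H (n + 1) by abel] at hb2
    obtain ⟨c, hc, hc2⟩ := ih F.pred (fun i h1 h2 => hns i h1 (by omega)) hb2
    refine ⟨fun i => if i = n + 1 then b else c i, fun i => ?_, ?_⟩
    · dsimp only
      split_ifs
      · exact hb
      · exact hc i
    · rw [Finset.sum_range_succ]
      have : ∑ i ∈ Finset.range (n + 1), w i * (if i = n + 1 then b else c i) =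
          ∑ i ∈ Finset.range (n + 1), w i * c i := by
        refine Finset.sum_congr rfl fun i hi => ?_
        rw [if_neg (by have := Finset.mem_range.mp hi; omega)]
      rw [this, hc2]
      simp

end S

section Kos

variable {w : ℕ → K} {H : ℕ → Divisor k K}

/-- Exactness in the middle. -/
theorem exists_koszul (hK : IsFunctionField k K) (n : ℕ) (F : Flag w H (n + 1)) (B : Divisor k K)
    (hns : ∀ i, 1 ≤ i → i ≤ n → NS (B - (H (i + 1) - H i)))
    (hns2 : ∀ i j, 1 ≤ i → i < j → j ≤ n → NS (B - (H (j + 1) - H j) - (H (i + 1) - H i)))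
    {f : ℕ → K} (hf : ∀ i, f i ∈ L (B + H (n + 1)))
    (h0 : ∑ i ∈ Finset.range (n + 1), w i * f i = 0) :
    ∃ c : ℕ → ℕ → K, (∀ i j, c i j ∈ L B) ∧ (∀ i j, c j i = - c i j) ∧ (∀ i, c i i = 0) ∧
      ∀ i, i < n + 1 → f i = ∑ j ∈ Finset.range (n + 1), w j * c i j := by
  induction n generalizing f with
  | zero =>
    have := K660.Places.nonempty_place hK
    have hw := F.w0_ne
    refine ⟨fun _ _ => 0, fun _ _ => (L B).zero_mem, by simp, by simp, fun i hi => ?_⟩
    obtain rfl : i = 0 := by omega
    simpa [hw] using h0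
  | succ n ih =>
    have hm := F.mono (n + 1) (by omega) (by omega)
    set v := w (n + 1) with hv
    set E := H (n + 1 + 1) - H (n + 1) with hE
    have hE0 : 0 ≤ E := sub_nonneg.mpr hm
    have hvex : ∀ P : Place k K, E P ≠ 0 → P.1 v = exp (H (n + 1 + 1) P) :=
      F.exact (n + 1) (by omega) (by omega)
    have hvm : v ∈ L (H (n + 1 + 1)) := F.mem (n + 1) (by omega) (by omega)
    -- division by `v` along `E`
    have hdiv : ∀ (G : Divisor k K) (x : K), x ∈ L G → v * x ∈ L (G + H (n + 1)) →
        x ∈ L (G - E) := by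
      intro G x hx hvx P
      by_cases hP : E P = 0
      · rw [Finsupp.sub_apply, hP, sub_zero]; exact hx P
      · have h1 := hvx P
        rw [map_mul, hvex P hP, Finsupp.add_apply] at h1
        rw [show G P + H (n + 1) P = H (n + 1 + 1) P + (G P - E P) by
          rw [hE, Finsupp.sub_apply]; ring, exp_add] at h1
        rw [Finsupp.sub_apply]
        exact le_of_mul_le_mul_left h1 (by simp)
    have hsubE : B + H (n + 1 + 1) - E = B + H (n + 1) := by rw [hE]; abel
    -- step 1: kill the last coefficient
    rw [Finset.sum_range_succ] at h0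
    have hfl : f (n + 1) ∈ L (B + H (n + 1)) := by
      rw [← hsubE]
      refine hdiv _ _ (hf _) ?_
      have : v * f (n + 1) = -∑ i ∈ Finset.range (n + 1), w i * f i := by
        rw [eq_neg_iff_add_eq_zero, add_comm]; exact h0
      rw [this]
      refine Submodule.neg_mem _ (Submodule.sum_mem _ fun i hi => ?_)
      rw [add_comm]
      exact mul_mem_L (F.pred.w_mem i (Finset.mem_range.mp hi)) (hf i)
    obtain ⟨b, hb, hb2⟩ := exists_coeff hK n F.pred B (fun i h1 h2 => hns i h1 (by omega)) hfl
    -- `f' i = f i + v * b i`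
    have hf' : ∀ i, f i + v * b i ∈ L (B + H (n + 1 + 1)) := fun i =>
      (L _).add_mem (hf i) (by rw [add_comm]; exact mul_mem_L hvm (hb i))
    have hf'0 : ∑ i ∈ Finset.range (n + 1), w i * (f i + v * b i) = 0 := by
      have : ∑ i ∈ Finset.range (n + 1), w i * (f i + v * b i) =
          ∑ i ∈ Finset.range (n + 1), w i * f i +
            v * ∑ i ∈ Finset.range (n + 1), w i * b i := by
        rw [Finset.mul_sum, ← Finset.sum_add_distrib]
        exact Finset.sum_congr rfl fun i _ => by ring
      rw [this, hb2]
      exact h0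
    -- step 2
    have hch : ∀ i, ∃ b' ∈ L B, (f i + v * b i) - v * b' ∈ L (B + H (n + 1)) := by
      intro i
      have := exists_sub_mul_mem hK (D := B) (E := E) (H := H (n + 1 + 1)) hE0
        (hns (n + 1) (by omega) le_rfl) hvm hvex (hf' i)
      rwa [hsubE] at this
    choose b' hb' hb'2 using hch
    set h := ∑ i ∈ Finset.range (n + 1), w i * b' i with hh
    have hhm : h ∈ L (B + H (n + 1)) := by
      refine (L _).sum_mem fun i hi => ?_
      rw [add_comm]
      exact mul_mem_L (F.pred.w_mem i (Finset.mem_range.mp hi)) (hb' i)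
    have hhm2 : h ∈ L (B - E + H (n + 1)) := by
      rw [show B - E + H (n + 1) = (B + H (n + 1)) - E by abel]
      refine hdiv _ _ hhm ?_
      have : v * h = -∑ i ∈ Finset.range (n + 1), w i * ((f i + v * b i) - v * b' i) := by
        have h2 : ∑ i ∈ Finset.range (n + 1), w i * ((f i + v * b i) - v * b' i) =
            ∑ i ∈ Finset.range (n + 1), w i * (f i + v * b i) -
              v * ∑ i ∈ Finset.range (n + 1), w i * b' i := by
          rw [Finset.mul_sum, ← Finset.sum_sub_distrib]
          exact Finset.sum_congr rfl fun i _ => by ring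
        rw [h2, hf'0, zero_sub, neg_neg]
      rw [this]
      refine Submodule.neg_mem _ (Submodule.sum_mem _ fun i hi => ?_)
      rw [add_comm]
      exact mul_mem_L (F.pred.w_mem i (Finset.mem_range.mp hi)) (hb'2 i)
    obtain ⟨b'', hb'', hb''2⟩ := exists_coeff hK n F.pred (B - E)
      (fun i h1 h2 => hns2 i (n + 1) h1 (by omega) le_rfl) hhm2
    have hEB : B - E ≤ B := sub_le_self _ hE0
    -- `b3 = b' - b''`
    have hb3 : ∀ i, b' i - b'' i ∈ L B := fun i => (L B).sub_mem (hb' i) (L_mono hEB (hb'' i))
    have hb30 : ∑ i ∈ Finset.range (n + 1), w i * (b' i - b'' i) = 0 := by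
      have : ∑ i ∈ Finset.range (n + 1), w i * (b' i - b'' i) =
          ∑ i ∈ Finset.range (n + 1), w i * b' i - ∑ i ∈ Finset.range (n + 1), w i * b'' i := by
        rw [← Finset.sum_sub_distrib]
        exact Finset.sum_congr rfl fun i _ => by ring
      rw [this, hb''2, ← hh, sub_self]
    have hg : ∀ i, (f i + v * b i) - v * (b' i - b'' i) ∈ L (B + H (n + 1)) := by
      intro i
      have h1 : (f i + v * b i) - v * (b' i - b'' i) =
          ((f i + v * b i) - v * b' i) + v * b'' i := by ring
      rw [h1]
      refine (L _).add_mem (hb'2 i) ?_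
      have h2 := mul_mem_L hvm (hb'' i)
      rwa [show H (n + 1 + 1) + (B - E) = B + H (n + 1) by rw [hE]; abel] at h2
    have hg0 : ∑ i ∈ Finset.range (n + 1), w i * ((f i + v * b i) - v * (b' i - b'' i)) = 0 := by
      have : ∑ i ∈ Finset.range (n + 1), w i * ((f i + v * b i) - v * (b' i - b'' i)) =
          ∑ i ∈ Finset.range (n + 1), w i * (f i + v * b i) -
            v * ∑ i ∈ Finset.range (n + 1), w i * (b' i - b'' i) := by
        rw [Finset.mul_sum, ← Finset.sum_sub_distrib]
        exact Finset.sum_congr rfl fun i _ => by ring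
      rw [this, hf'0, hb30]; simp
    obtain ⟨c, hc, hc2, hc3, hc4⟩ := ih F.pred (fun i h1 h2 => hns i h1 (by omega))
      (fun i j h1 h2 h3 => hns2 i j h1 h2 (by omega)) hg hg0
    -- the coefficient
    have he : ∀ i, -b i + (b' i - b'' i) ∈ L B := fun i => (L B).add_mem ((L B).neg_mem (hb i)) (hb3 i)
    refine ⟨fun i j => if i = n + 1 then (if j = n + 1 then 0 else -(-b j + (b' j - b'' j)))
      else (if j = n + 1 then (-b i + (b' i - b'' i)) else c i j), ?_, ?_, ?_, ?_⟩
    · intro i j
      dsimp only
      split_ifs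
      · exact (L B).zero_mem
      · exact (L B).neg_mem (he j)
      · exact he i
      · exact hc i j
    · intro i j
      dsimp only
      by_cases h1 : i = n + 1 <;> by_cases h2 : j = n + 1 <;> simp [h1, h2, hc2 i j]
    · intro i
      dsimp only
      by_cases h1 : i = n + 1 <;> simp [h1, hc3 i]
    · intro i hi
      rw [Finset.sum_range_succ]
      by_cases h1 : i = n + 1
      · subst h1
        simp only [if_true, mul_zero, add_zero]
        have : ∑ j ∈ Finset.range (n + 1), w j * (if j = n + 1 then 0
            else -(-b j + (b' j - b'' j))) =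
            ∑ j ∈ Finset.range (n + 1), w j * b j -
              ∑ j ∈ Finset.range (n + 1), w j * (b' j - b'' j) := by
          rw [← Finset.sum_sub_distrib]
          refine Finset.sum_congr rfl fun j hj => ?_
          rw [if_neg (by have := Finset.mem_range.mp hj; omega)]
          ring
        rw [this, hb2, hb30, sub_zero]
      · simp only [if_neg h1, if_true]
        have h2 := hc4 i (by omega)
        have : ∑ j ∈ Finset.range (n + 1), w j * (if j = n + 1 then (-b i + (b' i - b'' i))
            else c i j) = ∑ j ∈ Finset.range (n + 1), w j * c i j := by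
          refine Finset.sum_congr rfl fun j hj => ?_
          rw [if_neg (by have := Finset.mem_range.mp hj; omega)]
        rw [this, ← h2]
        ring

end Kos

section Exists

variable [IsAlgClosed k]

omit [IsAlgClosed k] in
theorem val_eq_of_mem_span_singleton {w : K} {D : Divisor k K}
    (h : BPF (Submodule.span k {w}) D) (P : Place k K) : P.1 w = exp (D P) := by
  obtain ⟨x, hx, hxP⟩ := h.2 P
  obtain ⟨c, rfl⟩ := Submodule.mem_span_singleton.mp hx
  by_cases hc : c = 0
  · subst hc
    rw [zero_smul, map_zero] at hxP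
    exact absurd hxP.symm exp_ne_zero
  · rwa [val_smul P hc] at hxP

/-- Every base point free system of dimension `n + 1` has a flag with `n` proper steps. -/
theorem exists_flag (hK : IsFunctionField k K) (n : ℕ) (V : Submodule k K) (D : Divisor k K)
    (hV : Module.finrank k V = n + 1) (hD : BPF V D) :
    ∃ (w : ℕ → K) (H : ℕ → Divisor k K), Flag w H (n + 1) ∧ H (n + 1) = D ∧
      Submodule.span k (Set.range fun i : Fin (n + 1) => w i) = V ∧
      ∀ i, 1 ≤ i → i < n + 1 → H i ≠ H (i + 1) := by
  induction n generalizing V D with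
  | zero =>
    obtain ⟨x, hx0, hx⟩ := finrank_eq_one_iff'.mp hV
    have hspan : Submodule.span k {(x : K)} = V := by
      apply le_antisymm
      · rw [Submodule.span_singleton_le_iff_mem]; exact x.2
      · intro y hy
        obtain ⟨c, hc⟩ := hx ⟨y, hy⟩
        rw [Submodule.mem_span_singleton]
        exact ⟨c, by simpa using congrArg Subtype.val hc⟩
    refine ⟨fun _ => x, fun _ => D, ⟨fun P => ?_, fun i h1 h2 => by omega, fun i h1 h2 => by omega,
      fun i h1 h2 => by omega⟩, rfl, ?_, fun i h1 h2 => by omega⟩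
    · rw [← hspan] at hD
      exact val_eq_of_mem_span_singleton hD P
    · rw [Set.range_const]; exact hspan
  | succ n ih =>
    obtain ⟨P⟩ := K660.Places.nonempty_place hK
    obtain ⟨v₀, hv₀, h₀⟩ := hD.2 P
    have hfin : FiniteDimensional k V := Module.finite_of_finrank_pos (by omega)
    have h1 := finrank_inf_L_sub_single hK V D hD.1 P hv₀ h₀
    set V' := V ⊓ L (D - Finsupp.single P 1) with hV'
    have h2 : Module.finrank k V' = n + 1 := by omega
    have hfin' : FiniteDimensional k V' := Module.finite_of_finrank_pos (by omega)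
    let b := Module.finBasisOfFinrankEq k V' h2
    have hli : LinearIndependent k (fun i => (b i : K)) :=
      b.linearIndependent.map' V'.subtype (Submodule.ker_subtype _)
    have hsp : Submodule.span k (Set.range fun i => (b i : K)) = V' := by
      have := congrArg (Submodule.map V'.subtype) b.span_eq
      rw [Submodule.map_span, Submodule.map_subtype_top, ← Set.range_comp] at this
      exact this
    have hb := bpf_of_linearIndependent hK _ hli
    rw [hsp] at hb
    set D' := mapDiv k (fun i => (b i : K)) with hD'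
    have hle : D' ≤ D - Finsupp.single P 1 := by
      intro Q
      obtain ⟨x, hx, hxQ⟩ := hb.2 Q
      have := hx.2 Q
      rw [hxQ, exp_le_exp] at this
      exact this
    have hle2 : D' ≤ D := hle.trans (sub_le_self _ (by simp))
    have hne : D' ≠ D := by
      intro h
      have := hle P
      rw [h] at this
      simp at this
    have hVle : ¬ V ≤ V' := by
      intro h
      have := Submodule.finrank_mono (le_antisymm h inf_le_left).le
      omega
    obtain ⟨v, hv, hv', hvex⟩ := hD.exists_exact {Q | (D - D') Q ≠ 0}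
      ((D - D').hasFiniteSupport.subset fun Q hQ => hQ) V' hVle
    have hsup : V' ⊔ Submodule.span k {v} = V := by
      apply Submodule.eq_of_le_of_finrank_le
      · refine sup_le inf_le_left ?_
        rw [Submodule.span_singleton_le_iff_mem]; exact hv
      · have hlt : V' < V' ⊔ Submodule.span k {v} := by
          refine lt_of_le_of_ne le_sup_left fun h => hv' ?_
          rw [h]
          exact (le_sup_right : _ ≤ V' ⊔ Submodule.span k {v})
            (Submodule.mem_span_singleton_self v)
        have := Submodule.finrank_lt_finrank_of_lt hlt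
        omega
    obtain ⟨w, H, F, hHn, hwV, hHne⟩ := ih V' D' h2 hb
    refine ⟨fun i => if i < n + 1 then w i else v, fun i => if i < n + 2 then H i else D,
      ⟨?_, ?_, ?_, ?_⟩, ?_, ?_, ?_⟩
    · intro Q
      simpa using F.w0 Q
    · intro i hi1 hi2
      by_cases h : i = n + 1
      · subst h
        simp [hHn, hle2]
      · have h3 : i < n + 1 := by omega
        have h4 : i + 1 < n + 2 := by omega
        have h5 : i < n + 2 := by omega
        simp only [h4, h5, if_true]
        exact F.mono i hi1 h3
    · intro i hi1 hi2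
      by_cases h : i = n + 1
      · subst h
        simpa using hD.1 hv
      · have h3 : i < n + 1 := by omega
        have h4 : i + 1 < n + 2 := by omega
        simp only [h3, h4, if_true]
        exact F.mem i hi1 h3
    · intro i hi1 hi2 Q hQ
      by_cases h : i = n + 1
      · subst h
        simp [hHn] at hQ ⊢
        exact hvex Q (by simpa using hQ)
      · have h3 : i < n + 1 := by omega
        have h4 : i + 1 < n + 2 := by omega
        have h5 : i < n + 2 := by omega
        simp only [h3, h4, h5, if_true] at hQ ⊢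
        exact F.exact i hi1 h3 Q hQ
    · simp
    · rw [← hsup, ← hwV]
      apply le_antisymm
      · rw [Submodule.span_le]
        rintro _ ⟨i, rfl⟩
        dsimp only
        split_ifs with h
        · exact (le_sup_left : _ ≤ Submodule.span k (Set.range fun i : Fin (n + 1) => w i) ⊔
            Submodule.span k {v}) (Submodule.subset_span ⟨⟨i, h⟩, rfl⟩)
        · exact (le_sup_right : _ ≤ Submodule.span k (Set.range fun i : Fin (n + 1) => w i) ⊔
            Submodule.span k {v}) (Submodule.mem_span_singleton_self v)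
      · refine sup_le ?_ ?_
        · rw [Submodule.span_le]
          rintro _ ⟨i, rfl⟩
          exact Submodule.subset_span ⟨Fin.castSucc i, by
            dsimp only
            rw [Fin.val_castSucc, if_pos i.2]⟩
        · rw [Submodule.span_singleton_le_iff_mem]
          exact Submodule.subset_span ⟨Fin.last (n + 1), by simp⟩
    · intro i hi1 hi2
      by_cases h : i = n + 1
      · subst h
        simp [hHn, hne]
      · have h3 : i < n + 1 := by omega
        have h4 : i + 1 < n + 2 := by omega
        have h5 : i < n + 2 := by omega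
        simp only [h4, h5, if_true]
        exact hHne i hi1 h3

omit [IsAlgClosed k] in
theorem Flag.H1_deg (hK : IsFunctionField k K) {w : ℕ → K} {H : ℕ → Divisor k K} {n : ℕ}
    (F : Flag w H n) : (H 1).deg = 0 := by
  have := K660.Places.nonempty_place hK
  have hw := F.w0_ne
  have : H 1 = - FunFld.div k (w 0) := by
    ext P
    have h1 := F.w0 P
    rw [val_eq_exp P hw, exp_inj] at h1
    rw [Finsupp.neg_apply, K660.Compare.div_apply hK, h1]
  rw [this, K660.Compare.deg_neg, K660.Compare.deg_div hK, neg_zero]

/-- The conclusion: exactness of multiplication by a base point free tuple. -/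
def Good {ι : Type*} [Fintype ι] (y : ι → K) (H B : Divisor k K) : Prop :=
  (∀ f ∈ L (B + H), ∃ b : ι → K, (∀ i, b i ∈ L B) ∧ ∑ i, y i * b i = f) ∧
  ∀ f : ι → K, (∀ i, f i ∈ L (B + H)) → ∑ i, y i * f i = 0 →
    ∃ c : ι → ι → K, (∀ i j, c i j ∈ L B) ∧ (∀ i j, c j i = - c i j) ∧ (∀ i, c i i = 0) ∧
      ∀ i, f i = ∑ j, y j * c i j

end Exists

section Final

/-- Restriction of a double family. -/
theorem good_of_flag (hK : IsFunctionField k K) {w : ℕ → K} {H : ℕ → Divisor k K} {n : ℕ}
    (F : Flag w H (n + 1)) (B : Divisor k K)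
    (hns : ∀ i, 1 ≤ i → i ≤ n → NS (B - (H (i + 1) - H i)))
    (hns2 : ∀ i j, 1 ≤ i → i < j → j ≤ n → NS (B - (H (j + 1) - H j) - (H (i + 1) - H i))) :
    Good (fun i : Fin (n + 1) => w i) (H (n + 1)) B := by
  refine ⟨fun f hf => ?_, fun f hf h0 => ?_⟩
  · obtain ⟨b, hb, hb2⟩ := exists_coeff hK n F B hns hf
    refine ⟨fun i => b i, fun i => hb i, ?_⟩
    rw [← hb2, Finset.sum_range]
  · obtain ⟨c, hc1, hc2, hc3, hc4⟩ := exists_koszul hK n F B hns hns2
      (f := fun i => if h : i < n + 1 then f ⟨i, h⟩ else 0)
      (fun i => by split_ifs with h; exacts [hf _, Submodule.zero_mem _])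
      (by
        rw [Finset.sum_range, ← h0]
        exact Finset.sum_congr rfl fun i _ => by rw [dif_pos i.2])
    refine ⟨fun i j => c i j, fun i j => hc1 i j, fun i j => hc2 i j, fun i => hc3 i,
      fun i => ?_⟩
    have := hc4 i i.2
    rw [Finset.sum_range, dif_pos i.2] at this
    exact this

/-- Change of basis. -/
theorem Good.congr {ι : Type*} [Fintype ι] {w y : ι → K} {H B : Divisor k K} (h : Good w H B)
    (hy : LinearIndependent k y) (hspan : Submodule.span k (Set.range w) =
      Submodule.span k (Set.range y)) : Good y H B := by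
  classical
  have h1 : ∀ i, ∃ d : ι → k, ∑ a, d a • y a = w i := fun i => by
    have : w i ∈ Submodule.span k (Set.range y) := by
      rw [← hspan]; exact Submodule.subset_span ⟨i, rfl⟩
    exact (Submodule.mem_span_range_iff_exists_fun k).mp this
  have h2 : ∀ a, ∃ e : ι → k, ∑ i, e i • w i = y a := fun a => by
    have : y a ∈ Submodule.span k (Set.range w) := by
      rw [hspan]; exact Submodule.subset_span ⟨a, rfl⟩
    exact (Submodule.mem_span_range_iff_exists_fun k).mp this
  choose d hd using h1
  choose e he using h2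
  have hed : ∀ a b, ∑ i, e a i * d i b = if a = b then 1 else 0 := by
    intro a b
    have h3 : ∑ b, (∑ i, e a i * d i b) • y b = ∑ b, (if a = b then (1 : k) else 0) • y b := by
      have h4 : ∑ b, (if a = b then (1 : k) else 0) • y b = y a := by simp
      rw [h4, ← he a]
      have h5 : ∀ i, e a i • w i = ∑ b, (e a i * d i b) • y b := fun i => by
        rw [← hd i, Finset.smul_sum]
        exact Finset.sum_congr rfl fun b _ => by rw [smul_smul]
      rw [Finset.sum_congr rfl fun i _ => h5 i, Finset.sum_comm]
      exact Finset.sum_congr rfl fun b _ => by rw [Finset.sum_smul]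
    have h6 := (Fintype.linearIndependent_iff.mp hy) (fun b => (∑ i, e a i * d i b) -
      (if a = b then (1 : k) else 0)) (by
        simp only [sub_smul, Finset.sum_sub_distrib]
        rw [h3, sub_self]) b
    exact sub_eq_zero.mp h6
  refine ⟨fun f hf => ?_, fun f hf h0 => ?_⟩
  · obtain ⟨b, hb, rfl⟩ := h.1 f hf
    refine ⟨fun a => ∑ i, d i a • b i, fun a => Submodule.sum_mem _ fun i _ =>
      Submodule.smul_mem _ _ (hb i), ?_⟩
    have h3 : ∀ a, y a * ∑ i, d i a • b i = ∑ i, (d i a • y a) * b i := fun a => by
      rw [Finset.mul_sum]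
      exact Finset.sum_congr rfl fun i _ => by rw [mul_smul_comm, smul_mul_assoc]
    rw [Finset.sum_congr rfl fun a _ => h3 a, Finset.sum_comm]
    exact Finset.sum_congr rfl fun i _ => by rw [← Finset.sum_mul, hd]
  · obtain ⟨c, hc1, hc2, hc3, hc4⟩ := h.2 (fun i => ∑ b, e b i • f b) (fun i =>
      Submodule.sum_mem _ fun b _ => Submodule.smul_mem _ _ (hf b)) (by
        have h3 : ∀ i, w i * ∑ b, e b i • f b = ∑ b, (e b i • w i) * f b := fun i => by
          rw [Finset.mul_sum]
          exact Finset.sum_congr rfl fun b _ => by rw [mul_smul_comm, smul_mul_assoc]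
        rw [Finset.sum_congr rfl fun i _ => h3 i, Finset.sum_comm, ← h0]
        exact Finset.sum_congr rfl fun b _ => by rw [← Finset.sum_mul, he])
    refine ⟨fun a b => ∑ i, ∑ l, (d i a * d l b) • c i l, fun a b => Submodule.sum_mem _ fun i _ =>
      Submodule.sum_mem _ fun l _ => Submodule.smul_mem _ _ (hc1 i l), ?_, ?_, ?_⟩
    · intro a b
      dsimp only
      rw [Finset.sum_comm, ← Finset.sum_neg_distrib]
      refine Finset.sum_congr rfl fun i _ => ?_
      rw [← Finset.sum_neg_distrib]
      refine Finset.sum_congr rfl fun l _ => ?_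
      rw [hc2 i l, smul_neg, mul_comm]
    · intro a
      -- alternating
      have key : ∀ (s : Finset ι), ∑ i ∈ s, ∑ l ∈ s, (d i a * d l a) • c i l = 0 := by
        intro s
        induction s using Finset.induction_on with
        | empty => simp
        | insert j s hj ih =>
          rw [Finset.sum_insert hj, Finset.sum_insert hj, hc3 j, smul_zero, zero_add]
          have : ∑ i ∈ s, ∑ l ∈ insert j s, (d i a * d l a) • c i l =
              ∑ i ∈ s, (d i a * d j a) • c i j + ∑ i ∈ s, ∑ l ∈ s, (d i a * d l a) • c i l := by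
            rw [← Finset.sum_add_distrib]
            exact Finset.sum_congr rfl fun i _ => by rw [Finset.sum_insert hj]
          rw [this, ih, add_zero, ← Finset.sum_add_distrib]
          refine Finset.sum_eq_zero fun i _ => ?_
          rw [hc2 i j, smul_neg, mul_comm (d j a), neg_add_cancel]
      exact key Finset.univ
    · intro a
      have h3 : f a = ∑ i, d i a • ∑ b, e b i • f b := by
        have h4 : ∑ i, d i a • ∑ b, e b i • f b = ∑ b, (∑ i, e b i * d i a) • f b := by
          rw [Finset.sum_congr rfl fun i _ => (Finset.smul_sum (r := d i a)), Finset.sum_comm]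
          refine Finset.sum_congr rfl fun b _ => ?_
          rw [Finset.sum_smul]
          exact Finset.sum_congr rfl fun i _ => by rw [smul_smul, mul_comm]
        rw [h4]
        simp [hed]
      rw [h3]
      have h5 : ∀ b, y b * ∑ i, ∑ l, (d i a * d l b) • c i l =
          ∑ i, ∑ l, d i a • ((d l b • y b) * c i l) := fun b => by
        rw [Finset.mul_sum]
        refine Finset.sum_congr rfl fun i _ => ?_
        rw [Finset.mul_sum]
        refine Finset.sum_congr rfl fun l _ => ?_
        rw [mul_smul_comm, smul_mul_assoc, smul_smul]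
      rw [Finset.sum_congr rfl fun b _ => h5 b, Finset.sum_comm]
      refine Finset.sum_congr rfl fun i _ => ?_
      rw [Finset.sum_comm, hc4 i, Finset.smul_sum]
      refine Finset.sum_congr rfl fun l _ => ?_
      rw [← Finset.smul_sum, ← Finset.sum_mul, hd]

/-- **Main theorem**: for a base point free system with linearly independent generators
`y₀, …, y_r` of the divisor `H` there is a finite set of effective divisors `F` of degree at most
`deg H - (r - 2)` such that multiplication by the `y_i` is exact in the range of `B` as soon as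
all `B - F` are nonspecial. -/
theorem exists_good [IsAlgClosed k] (hK : IsFunctionField k K) {r : ℕ} (hr : 2 ≤ r)
    (y : Fin (r + 1) → K) (hy : LinearIndependent k y) (D : Divisor k K)
    (hD : BPF (Submodule.span k (Set.range y)) D) :
    ∃ S : Set (Divisor k K), S.Finite ∧
      (∀ F ∈ S, 0 ≤ F ∧ 1 ≤ F.deg ∧ F.deg ≤ D.deg - r + 2) ∧ S.Nonempty ∧
      ∀ B : Divisor k K, (∀ F ∈ S, NS (B - F)) → Good y D B := by
  classical
  have hfr : Module.finrank k (Submodule.span k (Set.range y)) = r + 1 := by
    rw [finrank_span_eq_card hy, Fintype.card_fin]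
  obtain ⟨w, H, F, hHD, hspan, hne⟩ := exists_flag hK r _ D hfr hD
  -- degrees
  have hdeg : ∀ i, 1 ≤ i → i ≤ r → 1 ≤ (H (i + 1) - H i).deg := fun i h1 h2 => by
    refine K660.Compare.deg_pos hK (sub_nonneg.mpr (F.mono i h1 (by omega))) ?_
    rw [sub_ne_zero]
    exact (hne i h1 (by omega)).symm
  have hnn : ∀ i, 1 ≤ i → i ≤ r → 0 ≤ H (i + 1) - H i := fun i h1 h2 =>
    sub_nonneg.mpr (F.mono i h1 (by omega))
  have hsum : ∀ m, m ≤ r → ((H (m + 1)).deg : ℤ) = ∑ i ∈ Finset.range m,
      (H (i + 1 + 1) - H (i + 1)).deg := by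
    intro m hm
    induction m with
    | zero => simpa using F.H1_deg hK
    | succ m ih =>
      rw [Finset.sum_range_succ, ← ih (by omega), K660.Compare.deg_sub]
      ring
  have hpair : ∀ i j, 1 ≤ i → i < j → j ≤ r →
      ((H (j + 1) - H j) + (H (i + 1) - H i)).deg ≤ D.deg - r + 2 := by
    intro i j h1 h2 h3
    have h4 := hsum r le_rfl
    rw [hHD] at h4
    have h5 : j - 1 ∈ Finset.range r := Finset.mem_range.mpr (by omega)
    have h6 : i - 1 ∈ (Finset.range r).erase (j - 1) := by
      rw [Finset.mem_erase, Finset.mem_range]; omega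
    rw [← Finset.add_sum_erase _ _ h5, ← Finset.add_sum_erase _ _ h6,
      show j - 1 + 1 = j by omega, show i - 1 + 1 = i by omega] at h4
    have h7 : (((((Finset.range r).erase (j - 1)).erase (i - 1)).card : ℕ) : ℤ) ≤
        ∑ x ∈ ((Finset.range r).erase (j - 1)).erase (i - 1),
          (H (x + 1 + 1) - H (x + 1)).deg := by
      rw [Finset.card_eq_sum_ones, Nat.cast_sum]
      refine Finset.sum_le_sum fun x hx => ?_
      rw [Finset.mem_erase, Finset.mem_erase, Finset.mem_range] at hx
      simpa using hdeg (x + 1) (by omega) (by omega)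
    rw [Finset.card_erase_of_mem h6, Finset.card_erase_of_mem h5, Finset.card_range] at h7
    rw [K660.Compare.deg_add]
    have h8 : (((r - 1 - 1 : ℕ)) : ℤ) = (r : ℤ) - 2 := by omega
    rw [h8] at h7
    omega
  refine ⟨(fun p : ℕ × ℕ => (H (p.2 + 1) - H p.2) + (H (p.1 + 1) - H p.1)) ''
    {p | 1 ≤ p.1 ∧ p.1 < p.2 ∧ p.2 ≤ r}, ?_, ?_,
    ⟨_, ⟨(1, 2), ⟨le_rfl, by norm_num, hr⟩, rfl⟩⟩, ?_⟩
  · apply Set.Finite.image
    refine (((Finset.range (r + 1)) ×ˢ (Finset.range (r + 1))).finite_toSet).subset ?_
    rintro ⟨a, b⟩ ⟨h1, h2, h3⟩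
    simp only at h1 h2 h3
    simp only [Finset.coe_product, Finset.coe_range, Set.mem_prod, Set.mem_Iio]
    omega
  · rintro _ ⟨⟨i, j⟩, ⟨h1, h2, h3⟩, rfl⟩
    simp only at h1 h2 h3
    refine ⟨add_nonneg (hnn j (by omega) h3) (hnn i h1 (by omega)), ?_, hpair i j h1 h2 h3⟩
    have h4 := hdeg j (by omega) h3
    have h5 := hdeg i h1 (by omega)
    have h6 := K660.Compare.deg_add (H (j + 1) - H j) (H (i + 1) - H i)
    simp only at h6 ⊢
    omega
  · intro B hB
    have hB2 : ∀ i j, 1 ≤ i → i < j → j ≤ r →
        NS (B - (H (j + 1) - H j) - (H (i + 1) - H i)) := fun i j h1 h2 h3 => by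
      rw [sub_sub]
      exact hB _ ⟨⟨i, j⟩, ⟨h1, h2, h3⟩, rfl⟩
    have hg := good_of_flag hK F B (fun i h1 h2 => ?_) hB2
    · rw [hHD] at hg
      exact hg.congr hy hspan
    · by_cases h : i < r
      · refine (hB2 i r h1 h le_rfl).mono hK ?_
        rw [sub_right_comm]
        exact sub_le_self _ (hnn r (by omega) le_rfl)
      · obtain rfl : i = r := by omega
        exact (hB2 1 i le_rfl (by omega) le_rfl).mono hK
          (sub_le_self _ (hnn 1 le_rfl (by omega)))

end Final

end K830.GlpKos
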