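import Groth.Agent.Curves.K830.GlpChart
import Groth.Agent.ProjDeg.K657.NormalSec
import Groth.Prelude.Def_LinSer
import Groth.Prelude.Def_Omega3

/-!
# The Fitting ideal of the presentation is the ideal of the curve (helper830)
-/

set_option autoImplicit false

universe u

open CategoryTheory CategoryTheory.Limits AlgebraicGeometry Opposite TopologicalSpace

namespace K830.GlpLoc

open Groth.Agent Groth.Agent.Ega2.H298.ProjRatio Groth.Agent.Ega2.H298.ProjExt K658.ProjSec
open K699.TwHom K830.GlpMat K821.Minors Groth.Agent.MiscA.CurvePlaces Groth.Agent.VarietyB.ProjGlue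
open K830.GlpChart

section Val

/-- In the fraction field of a valuation ring one of finitely many nonzero elements divides all. -/
theorem exists_max {R K : Type*} [CommRing R] [IsDomain R] [ValuationRing R] [Field K]
    [Algebra R K] [IsFractionRing R K] {m : ℕ} (a : Fin (m + 1) → K) (ha : ∀ p, a p ≠ 0) :
    ∃ p₀, ∀ p, ∃ c : R, a p = algebraMap R K c * a p₀ := by
  obtain ⟨p₀, h⟩ := Finite.exists_max (fun p => ValuationRing.valuation R K (a p))
  refine ⟨p₀, fun p => ?_⟩
  have h1 : ValuationRing.valuation R K (a p / a p₀) ≤ 1 := by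
    rw [map_div₀]
    exact div_le_one_of_le₀ (h p) zero_le
  obtain ⟨c, hc⟩ := (ValuationRing.mem_integer_iff R K _).mp h1
  exact ⟨c, by rw [hc, div_mul_cancel₀ _ (ha p₀)]⟩

end Val

variable {k : Type u} [Field k] {r : ℕ} {X : Scheme.{u}} [IsIntegral X]
  (ι : X ⟶ Proj (gr r k))

theorem ker_kap [QuasiCompact ι] (j : Fin (r + 1)) (hj : genericPoint X ∈ W ι j) :
    RingHom.ker (kap ι j hj) = ι.ker.ideal ⟨V k j, isAffineOpen_V j⟩ := by
  ext s
  rw [Scheme.Hom.ker_apply, RingHom.mem_ker, RingHom.mem_ker]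
  constructor
  · intro h
    exact germ_injective_of_isIntegral X (genericPoint X) hj (h.trans (map_zero _).symm)
  · intro h
    change X.presheaf.germ (W ι j) (genericPoint X) hj (ι.app (V k j) s) = 0
    exact (congrArg _ h).trans (map_zero _)

/-- Local generators. -/
theorem exists_gen [IsClosedImmersion ι] (hval : ∀ x : X, ValuationRing (X.presheaf.stalk x))
    {m : ℕ} (a : Fin (m + 1) → X.functionField) (ha : ∀ p, a p ≠ 0) (j : Fin (r + 1))
    (hj : genericPoint X ∈ W ι j) (𝔪 : Ideal Γ(Proj (gr r k), V k j)) (h𝔪 : 𝔪.IsMaximal)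
    (hle : RingHom.ker (kap ι j hj) ≤ 𝔪) :
    ∃ (p₀ : Fin (m + 1)) (s : Γ(Proj (gr r k), V k j))
      (b : Fin (m + 1) → Γ(Proj (gr r k), V k j)), s ∉ 𝔪 ∧
        ∀ p, kap ι j hj s * a p = kap ι j hj (b p) * a p₀ := by
  have hsurj : Function.Surjective (ι.app (V k j)).hom := ι.app_surjective _ (isAffineOpen_V j)
  have hker : RingHom.ker (ι.app (V k j)).hom ≤ 𝔪 := by
    refine le_trans ?_ hle
    rw [ker_kap, Scheme.Hom.ker_apply]
  have hcomap : (𝔪.map (ι.app (V k j)).hom).comap (ι.app (V k j)).hom = 𝔪 := by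
    rw [Ideal.comap_map_of_surjective _ hsurj]
    exact sup_eq_left.mpr hker
  have hmax : (𝔪.map (ι.app (V k j)).hom).IsMaximal := by
    rcases Ideal.map_eq_top_or_isMaximal_of_surjective _ hsurj h𝔪 with h | h
    · rw [h, Ideal.comap_top] at hcomap
      exact absurd hcomap.symm h𝔪.ne_top
    · exact h
  have hU : IsAffineOpen (W ι j) := isAffineOpen_W ι j
  let z : PrimeSpectrum Γ(X, W ι j) := ⟨𝔪.map (ι.app (V k j)).hom, hmax.isPrime⟩
  have hz : hU.fromSpec z ∈ W ι j := by
    have : hU.fromSpec z ∈ hU.fromSpec.opensRange := ⟨z, rfl⟩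
    rwa [hU.opensRange_fromSpec] at this
  let x : X := hU.fromSpec z
  let _ : Algebra Γ(X, W ι j) (X.presheaf.stalk x) :=
    TopCat.Presheaf.algebra_section_stalk X.presheaf ⟨x, hz⟩
  have hloc : IsLocalization.AtPrime (X.presheaf.stalk x) z.asIdeal := hU.isLocalization_stalk' z hz
  have := hval x
  obtain ⟨p₀, hp₀⟩ := exists_max (R := X.presheaf.stalk x) a ha
  choose c hc using hp₀
  obtain ⟨s', hs'⟩ := IsLocalization.exist_integer_multiples_of_finite z.asIdeal.primeCompl c
  choose b' hb' using hs'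
  obtain ⟨s, hs⟩ := hsurj s'.1
  choose b hb using fun p => hsurj (b' p)
  have hval2 : ∀ f : Γ(Proj (gr r k), V k j), kap ι j hj f =
      algebraMap (X.presheaf.stalk x) X.functionField
        (algebraMap Γ(X, W ι j) (X.presheaf.stalk x) ((ι.app (V k j)).hom f)) := by
    intro f
    have hne : Nonempty (W ι j) := ⟨⟨_, hj⟩⟩
    exact (Scheme.algebraMap_germ_eq_germToFunctionField X hz _).symm
  refine ⟨p₀, s, b, fun hsm => ?_, fun p => ?_⟩
  · apply s'.2
    rw [← hs]
    exact Ideal.mem_map_of_mem _ hsm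
  · rw [hval2, hval2, hs, hb, hb', hc p, Algebra.smul_def, map_mul]
    ring

section Nondeg

/-- The pulled back section of a linear form whose functions on all charts vanish is zero. -/
theorem sec_pull_eq_zero (h : gr r k 1) (H : ∀ l, θ ι l h.1 = 0) :
    Groth.Agent.Fdesc.LocGen.sec (pull (gr r k) ι h) ⊤ = 0 := by
  have hcov : (⊤ : X.Opens) ≤ ⨆ l, W ι l := fun x _ => by
    obtain ⟨l, hl⟩ := exists_mem_W ι x
    exact Opens.mem_iSup.mpr ⟨l, hl⟩
  refine Groth.Agent.Fdesc.LocGen.res_ext _ (fun l => W ι l) (fun l => le_top) hcov fun l => ?_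
  rw [Groth.Agent.Fdesc.LocGen.res_sec, map_zero, sec_pull_eq_smul (gr r k) ι (X1 k r l) h]
  have h1 := θ_lin ι l h
  rw [H l] at h1
  rw [← h1, zero_smul]

/-- A nonzero linear form is a nonzero section of `O(1)`. -/
theorem glob_ne_zero (h : gr r k 1) (hh : h ≠ 0) : glob (gr r k) h ≠ 0 := by
  intro h0
  have hb : gr r k 1 ≠ ⊥ := by
    intro hb
    apply hh
    have h1 : h.1 ∈ (⊥ : Submodule k (MvPolynomial (Fin (r + 1)) k)) := hb ▸ h.2
    exact Subtype.ext ((Submodule.mem_bot _).mp h1)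
  have h2 := congrArg (fun f : Twist.sectN (𝒜 := gr r k) (1 : ℤ) (op ⊤) =>
      (f.1 ⟨K657.NormalSec.gen (gr r k) hb, trivial⟩).1) h0
  have h3 : (Localization.mk h.1 1 : Localization
      (K657.NormalSec.gen (gr r k) hb).asHomogeneousIdeal.toIdeal.primeCompl) = 0 := h2
  rw [Localization.mk_one_eq_algebraMap] at h3
  apply hh
  apply Subtype.ext
  rw [← Localization.mk_one_eq_algebraMap, ← Localization.mk_zero 1, Localization.mk_eq_mk_iff,
    Localization.r_iff_exists] at h3
  obtain ⟨c, hc⟩ := h3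
  have hc0 : (c : MvPolynomial (Fin (r + 1)) k) ≠ 0 :=
    (K657.NormalSec.notMem_gen (gr r k) hb).mp c.2
  have := mul_left_cancel₀ hc0 hc
  simpa using this

variable (hplane : ∀ s : LinSer.Sect (CohB1.ProjSpace r k) (Twist.twistProjSpace r k 1), s ≠ 0 →
      OmegaSh.pullSect ι (Twist.twistProjSpace r k 1) ⊤ s ≠ 0)

include hplane

theorem exists_θ_ne_zero (h : gr r k 1) (hh : h ≠ 0) : ∃ l, θ ι l h.1 ≠ 0 := by
  by_contra hcon
  push Not at hcon
  have h1 := sec_pull_eq_zero ι h hcon
  rw [sec_pull_top] at h1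
  exact hplane (glob (gr r k) h) (glob_ne_zero h hh) h1

theorem generic_mem_W (j : Fin (r + 1)) : genericPoint X ∈ W ι j := by
  obtain ⟨l, hl⟩ := exists_θ_ne_zero ι hplane (X1 k r j) (by
    intro h
    have := congrArg Subtype.val h
    exact MvPolynomial.X_ne_zero (R := k) j this)
  have h1 : X.basicOpen (θ ι l (X1 k r j).1) ≠ ⊥ := by
    rw [Ne, basicOpen_eq_bot_iff]
    exact hl
  obtain ⟨x, hx⟩ := (TopologicalSpace.Opens.ne_bot_iff_nonempty _).mp h1
  have h2 : genericPoint X ∈ X.basicOpen (θ ι l (X1 k r j).1) :=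
    ((genericPoint_spec X).specializes trivial).mem_open (X.basicOpen _).2 hx
  exact (mem_basicOpen_θ ι l (genericPoint X) (X.basicOpen_le _ h2) (X1 k r j)).mp h2

variable [Algebra k X.functionField]
  (hk : genericPt X ≫ ι ≫ CohB1.ProjSpace.toSpec r k =
    Spec.map (CommRingCat.ofHom (algebraMap k X.functionField)))

include hk

theorem linearIndependent_yv : LinearIndependent k (yv ι (generic_mem_W ι hplane 0)) := by
  rw [Fintype.linearIndependent_iff]
  intro c hc
  have hη := generic_mem_W ι hplane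
  have h1 : kap ι 0 (hη 0) (dh 0 (lin c).1) = 0 := by
    rw [← hc]
    change kap ι 0 (hη 0) (dh 0 (∑ i, MvPolynomial.C (c i) * MvPolynomial.X i)) = _
    rw [map_sum, map_sum]
    refine Finset.sum_congr rfl fun b _ => ?_
    rw [map_mul, map_mul, kap_C ι hk, Algebra.smul_def]
    rfl
  by_contra hcon
  push Not at hcon
  obtain ⟨i, hi⟩ := hcon
  obtain ⟨l, hl⟩ := exists_θ_ne_zero ι hplane (lin c) (by
    intro h
    apply hi
    rw [← coeff_lin c i, h]
    rfl)
  apply hl
  have h2 : kap ι l (hη l) (dh l (lin c).1) = 0 := by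
    have h3 := kap_mul ι l 0 (hη l) (hη 0) (lin c)
    rw [h1] at h3
    exact (mul_eq_zero.mp h3).resolve_right (yv_ne_zero ι (hη 0) l (hη l))
  rw [kap_dh] at h2
  exact germ_injective_of_isIntegral X (genericPoint X) (hη l) (h2.trans (map_zero _).symm)

end Nondeg

end K830.GlpLoc
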