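import Groth.Agent.Curves.K830.GlpIdeal
import Groth.Agent.Curves.K830.GlpDeg
import Groth.Agent.Curves.K385.CurveFF
import Groth.Agent.Surf.K455.RelDim

/-!
# The ideal of a nondegenerate smooth curve is a Fitting ideal of linear forms (helper830)

`main`: for a smooth nondegenerate curve of degree `d` in `P^r`, `r ≥ 2`, over an algebraically closed
field, the ideal is the zeroth Fitting ideal of the cokernel of a matrix of linear forms with `d - r + 2`
rows.
-/

set_option autoImplicit false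

universe u

open CategoryTheory CategoryTheory.Limits AlgebraicGeometry Opposite TopologicalSpace

namespace K830.GlpMain

open Groth.Agent

theorem dim_support_ker {X Y : Scheme.{u}} (i : X ⟶ Y) [IsClosedImmersion i]
    (hdim : topologicalKrullDim X ≤ 1) :
    topologicalKrullDim (i.ker.support : Set Y) ≤ 1 := by
  rw [Scheme.Hom.support_ker, i.isClosedEmbedding.isClosed_range.closure_eq,
    ← i.isClosedEmbedding.isEmbedding.toHomeomorph.isHomeomorph.topologicalKrullDim_eq]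
  exact hdim

theorem main (k : Type u) [Field k] [IsAlgClosed k] (r : ℕ) (hr : 2 ≤ r)
    (X : Scheme.{u}) [X.Over (Spec (CommRingCat.of k))] [IsIntegral X]
    [IsProper (X ↘ (Spec (CommRingCat.of k)))]
    (hdim : topologicalKrullDim X = 1) (hreg : ∀ x : X, IsRegularLocalRing (X.presheaf.stalk x))
    (i : X ⟶ Proj (K699.TwHom.gr r k)) [IsClosedImmersion i]
    (hi : i ≫ CohB1.ProjSpace.toSpec r k = (X ↘ (Spec (CommRingCat.of k))))
    (hplane : ∀ s : LinSer.Sect (CohB1.ProjSpace r k) (Twist.twistProjSpace r k 1), s ≠ 0 →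
      OmegaSh.pullSect i (Twist.twistProjSpace r k 1) ⊤ s ≠ 0) :
    ∃ (m n : ℕ) (A : Fin n → Fin m → K699.TwHom.gr r k 1),
      (m : ℤ) = Curv2.deg k X ((Scheme.Modules.pullback i).obj (Twist.twistProjSpace r k 1)) 1
        - (r : ℤ) + 2 ∧ Fitt.sheafIdeal (cokernel (K830.GlpMat.phi A)) 0 = i.ker := by
  have hsm : Smooth (X ↘ Spec (CommRingCat.of k)) :=
    K455.RelDim.smooth_of_regular k (X ↘ Spec (CommRingCat.of k)) hreg
  let _ := Groth.Agent.K385.CurveFF.algFF (X ↘ Spec (CommRingCat.of k))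
  have hk := Groth.Agent.K385.CurveFF.algFF_spec (X ↘ Spec (CommRingCat.of k))
  have hK := Groth.Agent.K385.CurveFF.isFunctionField (X ↘ Spec (CommRingCat.of k)) hdim
  have hval : ∀ x : X, ValuationRing (X.presheaf.stalk x) := fun x =>
    Groth.Agent.Picfga.CurvePts.valuationRing_stalk (X ↘ Spec (CommRingCat.of k)) hdim.le x
  have hη := K830.GlpLoc.generic_mem_W i hplane
  have hk' : Groth.Agent.MiscA.CurvePlaces.genericPt X ≫ i ≫ CohB1.ProjSpace.toSpec r k =
      Spec.map (CommRingCat.ofHom (algebraMap k X.functionField)) := by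
    rw [hi]
    exact hk
  have hy := K830.GlpLoc.linearIndependent_yv i hplane hk'
  obtain ⟨m, n, a, A, hm, hm0, ha, hA1, hA2, hA3⟩ := K830.GlpSyz.exists_presentation hK
    hr (K830.GlpChart.yv i (hη 0)) hy (K830.GlpChart.yv_zero i (hη 0))
  obtain ⟨m, rfl⟩ : ∃ m', m = m' + 1 := ⟨m - 1, by omega⟩
  have hdeg := K830.GlpDeg.deg_eq i hk hdim hK hη
  let A' : Fin n → Fin (m + 1) → K699.TwHom.gr r k 1 := fun q p => ⟨A q p, hA1 q p⟩
  refine ⟨m + 1, n, A', ?_, K830.GlpIdeal.sheafIdeal_eq_ker i hval hη hk' a ha A' hA2 hA3⟩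
  rw [hdeg, ← hm]

theorem main' (k : Type u) [Field k] [IsAlgClosed k] (r : ℕ) (hr : 2 ≤ r)
    (X : Scheme.{u}) [X.Over (Spec (CommRingCat.of k))] [IsIntegral X]
    [IsProper (X ↘ (Spec (CommRingCat.of k)))]
    (hdim : topologicalKrullDim X = 1) (hreg : ∀ x : X, IsRegularLocalRing (X.presheaf.stalk x))
    (i : X ⟶ CohB1.ProjSpace r k) [hcl : IsClosedImmersion i]
    (hi : i ≫ CohB1.ProjSpace.toSpec r k = (X ↘ (Spec (CommRingCat.of k))))
    (hplane : ∀ s : LinSer.Sect (CohB1.ProjSpace r k) (Twist.twistProjSpace r k 1), s ≠ 0 →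
      OmegaSh.pullSect i (Twist.twistProjSpace r k 1) ⊤ s ≠ 0) :
    ∃ (m n : ℕ) (φ : (∐ fun _ : Fin n => Twist.twistProjSpace r k (-1)) ⟶
        FlatMod.freeMod (CohB1.ProjSpace r k) m),
      (m : ℤ) = Curv2.deg k X ((Scheme.Modules.pullback i).obj (Twist.twistProjSpace r k 1)) 1
        - (r : ℤ) + 2 ∧ Fitt.sheafIdeal (cokernel φ) 0 = i.ker := by
  obtain ⟨m, n, A, hm, hker⟩ := @main k _ _ r hr X _ _ _ hdim hreg i hcl hi hplane
  exact ⟨m, n, K830.GlpMat.phi A, hm, hker⟩

end K830.GlpMain
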