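import Groth.Agent.VBPn.K699.GMat
import Groth.Agent.SmVar.K658.ProjSec
import Groth.Agent.Coherent.K360.DegenChart
import Groth.Agent.SDiv.K474.FittBlow
import Groth.Agent.VarietyA.CurveFin
import Groth.Agent.FormalB.FormalFG

/-!
# Matrices of linear forms over the standard charts of projective space (helper830)

* `dh j`: the dehomogenization `f ↦ f / x_j ^ deg f` as functions on the chart `V j`.
* `bas j m`: the basis of the sections of `⨁ O(m)` over the chart.
* `fitt_gm`: the Fitting ideal of the cokernel of a matrix of linear forms over the chart is the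
  ideal of maximal minors of the dehomogenized matrix.
-/

set_option autoImplicit false

universe u

open CategoryTheory CategoryTheory.Limits AlgebraicGeometry Opposite TopologicalSpace

namespace K830.GlpMat

open Groth.Agent Groth.Agent.Divis.ProjPic Groth.Agent.VarietyB.TwistMul K699.TwHom Groth.Agent.Sga67.Sec
open K699.GMat Groth.Agent.Ega2.H298.ProjRatio Groth.Agent.Ega2.H298.ProjExt K658.ProjSec
open K821.Minors K360.DegenChart HomogeneousLocalization

attribute [local instance] Abelian.hasFiniteBiproducts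

variable {k : Type u} [Field k] {r : ℕ}

variable (k) in
/-- The standard charts. -/
noncomputable abbrev V (j : Fin (r + 1)) : (Proj (gr r k)).Opens :=
  Proj.basicOpen (gr r k) (X1 k r j).1

/-- Dehomogenization. -/
noncomputable def dh (j : Fin (r + 1)) :
    MvPolynomial (Fin (r + 1)) k →+* Γ(Proj (gr r k), V k j) :=
  (Proj.awayToSection (gr r k) (X1 k r j).1).hom.comp (deh (gr r k) (X1 k r j))

theorem isAffineOpen_V (j : Fin (r + 1)) : IsAffineOpen (V k j) :=
  Proj.isAffineOpen_basicOpen _ (X1 k r j).1 (X1 k r j).2 Nat.one_pos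

theorem dh_surjective (j : Fin (r + 1)) : Function.Surjective (dh (k := k) j) := by
  have h3 : Function.Surjective (Proj.awayToSection (gr r k) (X1 k r j).1) :=
    (Proj.basicOpenIsoAway (gr r k) (X1 k r j).1 (X1 k r j).2
      Nat.one_pos).commRingCatIsoToRingEquiv.surjective
  exact h3.comp (deh_surjective (gr r k) (X1 k r j))

theorem dh_self (j : Fin (r + 1)) : dh (k := k) j (MvPolynomial.X j) = 1 := by
  have h1 : Groth.Agent.Ega2.H298.ProjRatio.frac (gr r k) (X1 k r j) (X1 k r j) = 1 := by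
    apply HomogeneousLocalization.val_injective
    rw [Groth.Agent.Ega2.H298.ProjRatio.frac, HomogeneousLocalization.Away.val_mk, HomogeneousLocalization.val_one,
      ← Localization.mk_self (⟨(X1 k r j).1 ^ 1, ⟨1, rfl⟩⟩ : Submonoid.powers (X1 k r j).1)]
    congr 1
    exact (pow_one _).symm
  change Proj.awayToSection (gr r k) (X1 k r j).1 (deh (gr r k) (X1 k r j) (X1 k r j).1) = _
  rw [deh_frac, h1, map_one]

theorem θ_eq {X : Scheme.{u}} (ι : X ⟶ Proj (gr r k)) (j : Fin (r + 1))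
    (P : MvPolynomial (Fin (r + 1)) k) : θ ι j P = ι.app (V k j) (dh j P) := by
  rw [Scheme.Hom.app_eq_appLE]
  rfl

theorem ev_dh (j : Fin (r + 1)) {N : ℕ} (a : gr r k N) (x : ProjectiveSpectrum (gr r k))
    (hx : x ∈ V k j) : ev (dh j a.1) x hx * al x (MvPolynomial.X j) ^ N = al x a.1 := by
  have hfx : (X1 k r j).1 ^ N ∉ x.asHomogeneousIdeal := pow_notMem x hx N
  have h1 : ev (dh j a.1) x hx = Localization.mk a.1 ⟨(X1 k r j).1 ^ N, hfx⟩ := by
    have h2 : dh j a.1 = Proj.awayToSection (gr r k) (X1 k r j).1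
        (Away.mk (gr r k) (X1 k r j).2 N a.1 (by simp)) :=
      congrArg (Proj.awayToSection (gr r k) (X1 k r j).1).hom (deh_coe (gr r k) (X1 k r j) a)
    rw [h2]
    refine (ProjectiveSpectrum.Proj.awayToSection_apply (gr r k) (X1 k r j).1 _ ⟨x, hx⟩).trans ?_
    rw [HomogeneousLocalization.Away.val_mk, Localization.mk_eq_mk', IsLocalization.map_mk',
      Localization.mk_eq_mk']
    rfl
  rw [h1, ← map_pow, ← Localization.mk_one_eq_algebraMap, Localization.mk_mul,
    ← Localization.mk_one_eq_algebraMap, Localization.mk_eq_mk_iff, Localization.r_iff_exists]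
  refine ⟨1, ?_⟩
  simp [X1, mul_comm]

theorem ev_dh_one (j : Fin (r + 1)) (a : gr r k 1) (x : ProjectiveSpectrum (gr r k))
    (hx : x ∈ V k j) : ev (dh j a.1) x hx * al x (MvPolynomial.X j) = al x a.1 := by
  have := ev_dh j a x hx
  rwa [pow_one] at this

/-- The generator `x_j ^ m` of `O(m)` over the chart. -/
noncomputable def gs (j : Fin (r + 1)) (m : ℤ) : Sec (T r k m) (V k j) :=
  Ega2.TwistInv.powSec (X1 k r j) m (V k j) fun _ hx => hx

theorem gs_bijective (j : Fin (r + 1)) (m : ℤ) :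
    Function.Bijective fun c : Γ(Proj (gr r k), V k j) => c • gs (k := k) j m := by
  have h := Ega2.TwistInv.isGen_powSec (X1 k r j) m (V k j) (fun _ hx => hx) (V k j) le_rfl
  exact h

theorem evT_gs_neg_one (j : Fin (r + 1)) (x : ProjectiveSpectrum (gr r k)) (hx : x ∈ V k j) :
    evT (𝒜 := gr r k) (d := (-1 : ℤ)) (U := V k j) (gs j (-1)) x hx * al x (MvPolynomial.X j) = 1 := by
  have h1 : evT (𝒜 := gr r k) (d := (-1 : ℤ)) (U := V k j) (gs j (-1)) x hx = Localization.mk ((X1 k r j).1 ^ 0) ⟨(X1 k r j).1 ^ 1, _⟩ := rfl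
  rw [h1, ← Localization.mk_one_eq_algebraMap, Localization.mk_mul, ← Localization.mk_one,
    Localization.mk_eq_mk_iff, Localization.r_iff_exists]
  refine ⟨1, ?_⟩
  simp [X1]

theorem evT_gs_zero (j : Fin (r + 1)) (x : ProjectiveSpectrum (gr r k)) (hx : x ∈ V k j) :
    evT (𝒜 := gr r k) (d := (0 : ℤ)) (U := V k j) (gs j 0) x hx = 1 := by
  have h1 : evT (𝒜 := gr r k) (d := (0 : ℤ)) (U := V k j) (gs j 0) x hx = Localization.mk ((X1 k r j).1 ^ 0) ⟨(X1 k r j).1 ^ 0, _⟩ := rfl
  rw [h1, ← Localization.mk_one, Localization.mk_eq_mk_iff, Localization.r_iff_exists]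
  refine ⟨1, ?_⟩
  simp

section Basis

variable {ι : Type} [Fintype ι] [DecidableEq ι]

theorem pr_inc (m : ℤ) (i l : ι) (U : (Proj (gr r k)).Opens) (s : Sec (T r k m) U) :
    appS (pr m l) U (appS (inc m i) U s) = if l = i then s else 0 := by
  rw [← appS_comp]
  split_ifs with h
  · subst h
    rw [biproduct.ι_π_self]
    rfl
  · rw [biproduct.ι_π_ne _ (Ne.symm h)]
    exact appS_zero _ _

theorem pr_sum (m : ℤ) (j : Fin (r + 1)) (c : ι → Γ(Proj (gr r k), V k j)) (l : ι) :
    appS (pr m l) (V k j) (∑ i, c i • appS (inc m i) (V k j) (gs j m)) = c l • gs j m := by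
  rw [map_sum]
  have h1 : ∀ i, appS (pr m l) (V k j) (c i • appS (inc m i) (V k j) (gs j m)) =
      if l = i then c l • gs j m else 0 := by
    intro i
    rw [map_smul, pr_inc]
    split_ifs with h
    · rw [h]
    · rw [smul_zero]
  rw [Finset.sum_congr rfl fun i _ => h1 i]
  simp

theorem lin_bijective (m : ℤ) (j : Fin (r + 1)) :
    Function.Bijective (Fintype.linearCombination Γ(Proj (gr r k), V k j)
      (fun i : ι => appS (inc m i) (V k j) (gs (k := k) j m))) := by
  constructor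
  · intro c c' h
    funext l
    rw [Fintype.linearCombination_apply, Fintype.linearCombination_apply] at h
    have h2 := congrArg (fun s => appS (pr m l) (V k j) s) h
    rw [pr_sum, pr_sum] at h2
    exact (gs_bijective j m).1 h2
  · intro s
    choose c hc using fun i : ι => (gs_bijective j m).2 (appS (pr m i) (V k j) s)
    refine ⟨c, ?_⟩
    rw [Fintype.linearCombination_apply]
    refine sec_ext _ _ _ _ fun l => ?_
    exact (pr_sum m j c l).trans (hc l)

/-- The basis of sections of `⨁ O(m)` over the chart. -/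
noncomputable def bas (m : ℤ) (j : Fin (r + 1)) :
    Module.Basis ι Γ(Proj (gr r k), V k j) (Sec (OO r k ι m) (V k j)) :=
  Module.Basis.ofEquivFun (LinearEquiv.ofBijective _ (lin_bijective (k := k) (ι := ι) m j)).symm

theorem bas_repr_symm (m : ℤ) (j : Fin (r + 1)) (c : ι → Γ(Proj (gr r k), V k j)) :
    (bas m j).equivFun.symm c = ∑ i, c i • appS (inc m i) (V k j) (gs (k := k) j m) := by
  rw [bas, Module.Basis.equivFun_ofEquivFun, LinearEquiv.symm_symm]
  exact Fintype.linearCombination_apply ..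

theorem bas_apply (m : ℤ) (j : Fin (r + 1)) (i : ι) :
    bas (k := k) m j i = appS (inc m i) (V k j) (gs j m) := by
  have h := bas_repr_symm (k := k) (ι := ι) m j (Pi.single i 1)
  rw [Module.Basis.equivFun_symm_apply] at h
  simpa [Pi.single_apply] using h

theorem val_inc (m : ℤ) (U : (Proj (gr r k)).Opens) (i l : ι) (s : Sec (T r k m) U)
    (x : ProjectiveSpectrum (gr r k)) (hx : x ∈ U) :
    val (appS (inc m i) U s) x hx l = if l = i then evT s x hx else 0 := by
  have h1 : val (appS (inc m i) U s) x hx l = evT (appS (pr m l) U (appS (inc m i) U s)) x hx := rfl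
  rw [h1, pr_inc]
  split_ifs with h
  · rfl
  · rfl

end Basis

section Gm

variable {ι κ : Type} [Fintype ι] [DecidableEq ι] [Fintype κ] [DecidableEq κ]

theorem ev_mul_gs (j : Fin (r + 1)) (a : gr r k 1) (x : ProjectiveSpectrum (gr r k))
    (hx : x ∈ V k j) : al x a.1 * evT (𝒜 := gr r k) (d := (-1 : ℤ)) (U := V k j) (gs j (-1)) x hx =
      ev (dh j a.1) x hx := by
  rw [← ev_dh_one j a x hx, mul_assoc, mul_comm (al x (MvPolynomial.X j)), evT_gs_neg_one, mul_one]

theorem gm_bas (h : (-1 : ℤ) + (1 : ℕ) = 0) (A : ι → κ → gr r k 1) (j : Fin (r + 1)) (q : ι) :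
    appS (gm h A) (V k j) (bas (-1) j q) = ∑ p, dh j (A q p).1 • bas 0 j p := by
  refine val_ext fun x hx l => ?_
  rw [val_gm]
  have h1 : ∀ i, al x (A i l).1 * val (bas (k := k) (-1) j q) x hx i =
      if i = q then ev (dh j (A q l).1) x hx else 0 := by
    intro i
    rw [bas_apply, val_inc]
    split_ifs with hi
    · subst hi
      exact ev_mul_gs j (A i l) x hx
    · rw [mul_zero]
  rw [Finset.sum_congr rfl fun i _ => h1 i, Finset.sum_ite_eq', if_pos (Finset.mem_univ _)]
  have h2 : val (∑ p, dh j (A q p).1 • bas (k := k) 0 j p) x hx l =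
      evT (𝒜 := gr r k) (d := (0 : ℤ)) (U := V k j)
        (appS (pr 0 l) (V k j) (∑ p, dh j (A q p).1 • bas (k := k) 0 j p)) x hx := rfl
  rw [h2]
  simp only [bas_apply]
  rw [pr_sum]
  refine Eq.trans ?_ (evT_smul _ _ x hx).symm
  rw [evT_gs_zero, mul_one]

theorem isInvertible_T (m : ℤ) : PicF.IsInvertible (T r k m) :=
  Ega3B.ProjFrame.isInvertible_twistProjSpace r k m

omit [DecidableEq ι] in
theorem isCoh_OO (m : ℤ) : Coh.IsCoh (OO r k ι m) :=
  Groth.Agent.FormalB.FormalFG.isCoh_biproduct _ fun _ =>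
    Groth.Agent.VarietyA.CurveFin.isCoh_of_isInvertible (isInvertible_T m)

/-- The basis with its other type. -/
noncomputable abbrev bas' (m : ℤ) (j : Fin (r + 1)) :
    Module.Basis ι Γ(Proj (gr r k), V k j) Γ(OO r k ι m, V k j) := bas m j

/-- **The Fitting ideal of the cokernel of a matrix of linear forms over a chart.** -/
theorem fitt_gm (h : (-1 : ℤ) + (1 : ℕ) = 0) (A : ι → κ → gr r k 1) (j : Fin (r + 1)) :
    (Fitt.sheafIdeal (cokernel (gm h A)) 0).ideal ⟨V k j, isAffineOpen_V j⟩ =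
      minorIdeal (Fintype.card κ) (Matrix.of fun p q => dh j (A q p).1) := by
  have h1 := fitt_ideal (bas' (ι := ι) (k := k) (-1) j) (bas' (ι := κ) (k := k) 0 j)
    (isCoh_OO (-1)).1 (isCoh_OO 0).1 (isCoh_OO 0).2 (gm h A) (isAffineOpen_V j) 0
  rw [h1, Nat.sub_zero]
  congr 1
  ext p q
  rw [mat_apply]
  have h2 : (gm h A).app (V k j) (bas' (ι := ι) (k := k) (-1) j q) =
      ∑ p, dh j (A q p).1 • bas' (ι := κ) (k := k) 0 j p := gm_bas h A j q
  rw [h2, Module.Basis.repr_sum_self]
  rfl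

/-- `⨁ O(0) ≅ O^m`. -/
noncomputable def qIso (m : ℕ) : OO r k (Fin m) 0 ≅
    ∐ fun _ : Fin m => Coh.structureModule (Proj (gr r k)) :=
  (biproduct.isoCoproduct fun _ : Fin m => T r k 0) ≪≫
    (Sigma.mapIso fun _ : Fin m => zeroIso (𝒜 := gr r k)).symm

/-- `⨁ O(-1) ≅ ∐ O(-1)`. -/
noncomputable def pIso (n : ℕ) : OO r k (Fin n) (-1) ≅ ∐ fun _ : Fin n => T r k (-1) :=
  biproduct.isoCoproduct fun _ : Fin n => T r k (-1)

/-- The matrix as a morphism `∐ O(-1) ⟶ O^m`. -/
noncomputable def phi {m n : ℕ} (A : Fin n → Fin m → gr r k 1) :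
    (∐ fun _ : Fin n => T r k (-1)) ⟶ ∐ fun _ : Fin m => Coh.structureModule (Proj (gr r k)) :=
  (pIso n).inv ≫ gm (by norm_num) A ≫ (qIso m).hom

/-- The cokernels agree. -/
noncomputable def cokIso {m n : ℕ} (A : Fin n → Fin m → gr r k 1) :
    cokernel (gm (by norm_num : (-1 : ℤ) + (1 : ℕ) = 0) A) ≅ cokernel (phi A) :=
  cokernel.mapIso _ _ (pIso n) (qIso m) (by rw [phi, Iso.hom_inv_id_assoc])

theorem fitt_phi {m n : ℕ} (A : Fin n → Fin m → gr r k 1) :
    Fitt.sheafIdeal (cokernel (phi A)) 0 =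
      Fitt.sheafIdeal (cokernel (gm (by norm_num : (-1 : ℤ) + (1 : ℕ) = 0) A)) 0 := by
  have hq : Coh.IsQCoh (cokernel (gm (by norm_num : (-1 : ℤ) + (1 : ℕ) = 0) A)) :=
    PerfA.QCohSerre.isQCoh_cokernel _ (isCoh_OO (-1)).1 (isCoh_OO 0).1
  have hf : CohB1.IsFT (cokernel (gm (by norm_num : (-1 : ℤ) + (1 : ℕ) = 0) A)) :=
    CohqB.LocalQC.isFT_of_epi (cokernel.π _) (isCoh_OO 0).2
  have hc : Coh.IsCoh (cokernel (phi A)) := PerfA.CohSerre.isCoh_of_iso (cokIso A) ⟨hq, hf⟩
  exact (SDiv.K474.FittBlow.sheafIdeal_iso (cokIso A) hq hc.1 hf hc.2 0).symm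

end Gm

end K830.GlpMat
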