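import Groth.Agent.Curves.K830.GeomCount
import Groth.Agent.CurvesB.NodeLike
import Mathlib.RingTheory.LocalProperties.Submodule

/-!
# One-dimensional local rings with delta invariant one and two geometric branches are node-like
-/

set_option autoImplicit false
universe u

open IsLocalRing nonZeroDivisors

namespace K830.NodeOfDelta

open Groth.Agent.CurvesB.Node K421.NormCl GeomCount

/-- If the residue degrees of the maximal ideals add up to at least `δ + 1`, then the subring contains the Jacobson
radical. -/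
theorem mem_range_of_length (B C' : Type u) [CommRing B] [IsLocalRing B] [CommRing C'] [Algebra B C']
    [Fintype (MaximalSpectrum C')]
    (hover : ∀ m : MaximalSpectrum C', m.asIdeal.comap (algebraMap B C') = maximalIdeal B)
    (hfin : Module.length B (C' ⧸ LinearMap.range (Algebra.linearMap B C')) ≠ ⊤)
    (hδ : Module.length B (C' ⧸ LinearMap.range (Algebra.linearMap B C')) + 1 ≤
      ∑ m : MaximalSpectrum C', Module.length B (C' ⧸ m.asIdeal)) (c : C') (hc : ∀ m : MaximalSpectrum C', c ∈ m.asIdeal) :
    c ∈ (algebraMap B C').range := by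
  classical
  let P := ∀ m : MaximalSpectrum C', C' ⧸ m.asIdeal
  let π : C' →ₗ[B] P := LinearMap.pi fun m => (Ideal.Quotient.mkₐ B m.asIdeal).toLinearMap
  have hπ : Function.Surjective π := by
    have hcop : Pairwise fun i j : MaximalSpectrum C' => IsCoprime i.asIdeal j.asIdeal := by
      intro i j hij
      rw [Ideal.isCoprime_iff_sup_eq]
      exact Ideal.IsMaximal.coprime_of_ne i.isMaximal j.isMaximal
        (fun h => hij (MaximalSpectrum.ext h))
    intro w
    obtain ⟨c, hc⟩ := Ideal.pi_quotient_surjective hcop w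
    exact ⟨c, funext fun i => hc i⟩
  let D := C' ⧸ LinearMap.range (Algebra.linearMap B C')
  let N : Submodule B P := (LinearMap.range (Algebra.linearMap B C')).map π
  have h1 : Module.length B P = Module.length B N + Module.length B (P ⧸ N) :=
    Module.length_eq_add_of_exact N.subtype N.mkQ N.injective_subtype N.mkQ_surjective
      (LinearMap.exact_subtype_mkQ N)
  let g : D →ₗ[B] (P ⧸ N) := (LinearMap.range (Algebra.linearMap B C')).mapQ N π (Submodule.le_comap_map _ _)
  have hg : Function.Surjective g := by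
    intro z
    obtain ⟨w, rfl⟩ := Submodule.Quotient.mk_surjective _ z
    obtain ⟨c, rfl⟩ := hπ w
    exact ⟨Submodule.Quotient.mk c, rfl⟩
  have h2 : Module.length B D = Module.length B (LinearMap.ker g) + Module.length B (P ⧸ N) :=
    Module.length_eq_add_of_exact (LinearMap.ker g).subtype g (LinearMap.ker g).injective_subtype hg
      (by rw [LinearMap.exact_iff, Submodule.range_subtype])
  have h3 : Module.length B N ≤ 1 := by
    have h4 : Module.length B (B ⧸ maximalIdeal B) = 1 := by
      rw [Module.length_eq_one_iff]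
      exact isSimpleModule_iff_isCoatom.mpr (maximalIdeal.isMaximal B).out
    rw [← h4]
    have hle : maximalIdeal B ≤ LinearMap.ker (π ∘ₗ Algebra.linearMap B C') := by
      intro b hb
      rw [LinearMap.mem_ker]
      funext m
      change Ideal.Quotient.mk m.asIdeal (algebraMap B C' b) = 0
      rw [Ideal.Quotient.eq_zero_iff_mem]
      have : b ∈ m.asIdeal.comap (algebraMap B C') := by rw [hover m]; exact hb
      exact this
    let g : (B ⧸ maximalIdeal B) →ₗ[B] P :=
      Submodule.liftQ (maximalIdeal B) (π ∘ₗ Algebra.linearMap B C') hle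
    have hg : LinearMap.range g = N := by
      rw [Submodule.range_liftQ, LinearMap.range_comp]
    rw [← hg]
    exact Module.length_le_of_surjective g.rangeRestrict g.surjective_rangeRestrict
  rw [Module.length_pi_of_fintype] at h1
  have hDfin : Module.length B D ≠ ⊤ := hfin
  have hPNle : Module.length B (P ⧸ N) ≤ Module.length B D := by
    rw [h2]; exact le_add_self
  have hPNfin : Module.length B (P ⧸ N) ≠ ⊤ := fun h => hDfin (top_le_iff.mp (h ▸ hPNle))
  have hkfin : Module.length B (LinearMap.ker g) ≠ ⊤ := fun h => hDfin (by rw [h2, h, top_add])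
  obtain ⟨a, ha⟩ := ENat.ne_top_iff_exists.mp hPNfin
  obtain ⟨b, hb⟩ := ENat.ne_top_iff_exists.mp hkfin
  have hNfin : Module.length B N ≠ ⊤ := fun h => by rw [h] at h3; exact absurd h3 (by simp)
  obtain ⟨d, hd⟩ := ENat.ne_top_iff_exists.mp hNfin
  have hδ' : Module.length B D + 1 ≤ ∑ m : MaximalSpectrum C', Module.length B (C' ⧸ m.asIdeal) := hδ
  rw [h2, h1, ← ha, ← hb, ← hd] at hδ'
  rw [← hd] at h3
  have h3' : d ≤ 1 := by exact_mod_cast h3
  have hb0 : b + a + 1 ≤ d + a := by exact_mod_cast hδ'
  have hb1 : b = 0 := by omega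
  have hinj : Function.Injective g := by
    rw [← LinearMap.ker_eq_bot]
    have h8 : Module.length B (LinearMap.ker g) = 0 := by rw [← hb, hb1]; rfl
    rw [Module.length_eq_zero_iff] at h8
    exact Submodule.subsingleton_iff_eq_bot.mp h8
  have h9 : π c = 0 := by
    funext m
    exact Ideal.Quotient.eq_zero_iff_mem.mpr (hc m)
  have h10 : g (Submodule.Quotient.mk c) = 0 := by
    change Submodule.Quotient.mk (π c) = 0
    rw [h9]
    rfl
  have h11 : (Submodule.Quotient.mk c : D) = 0 := hinj (by rw [h10, map_zero])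
  rw [Submodule.Quotient.mk_eq_zero] at h11
  obtain ⟨z, hz⟩ := h11
  exact ⟨z, hz⟩

/-- In a ring with finitely many maximal ideals whose local rings at the maximal ideals are discrete valuation rings,
the Jacobson radical is generated by a nonzerodivisor. -/
theorem exists_uniformizer (C' : Type*) [CommRing C'] [Finite (MaximalSpectrum C')]
    (hdvr : ∀ m : MaximalSpectrum C', ∃ _ : IsDomain (Localization.AtPrime m.asIdeal),
      IsDiscreteValuationRing (Localization.AtPrime m.asIdeal)) :
    ∃ t : C', (∀ c, (∀ m : MaximalSpectrum C', c ∈ m.asIdeal) ↔ t ∣ c) ∧ ∀ c, t * c = 0 → c = 0 := by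
  classical
  have h1 : ∀ m : MaximalSpectrum C', ∃ x : C', x ∈ m.asIdeal ∧
      maximalIdeal (Localization.AtPrime m.asIdeal) = Ideal.span {algebraMap C' _ x} ∧
      algebraMap C' (Localization.AtPrime m.asIdeal) x ≠ 0 := by
    intro m
    obtain ⟨_, _⟩ := hdvr m
    have hm := m.isMaximal
    obtain ⟨π, hπ⟩ := IsDiscreteValuationRing.exists_irreducible (Localization.AtPrime m.asIdeal)
    obtain ⟨x, s, hxs⟩ := IsLocalization.exists_mk'_eq m.asIdeal.primeCompl π
    have hu : IsUnit (algebraMap C' (Localization.AtPrime m.asIdeal) s) := IsLocalization.map_units _ s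
    have h2 : π * algebraMap C' (Localization.AtPrime m.asIdeal) s = algebraMap C' _ x := by
      rw [← hxs]
      exact IsLocalization.mk'_spec _ x s
    have h3 : maximalIdeal (Localization.AtPrime m.asIdeal) = Ideal.span {algebraMap C' _ x} := by
      rw [← h2, hπ.maximalIdeal_eq, Ideal.span_singleton_mul_right_unit hu]
    refine ⟨x, ?_, h3, ?_⟩
    · rw [← IsLocalization.AtPrime.to_map_mem_maximal_iff (Localization.AtPrime m.asIdeal) m.asIdeal, h3]
      exact Ideal.mem_span_singleton_self _
    · rw [← h2]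
      exact mul_ne_zero hπ.ne_zero hu.ne_zero
  choose x hx1 hx2 hx3 using h1
  have : Fintype (MaximalSpectrum C') := Fintype.ofFinite _
  have hcop : Pairwise fun i j : MaximalSpectrum C' => IsCoprime (i.asIdeal ^ 2) (j.asIdeal ^ 2) := by
    intro i j hij
    exact (Ideal.isCoprime_iff_sup_eq.mpr (Ideal.IsMaximal.coprime_of_ne i.isMaximal j.isMaximal
      (fun h => hij (MaximalSpectrum.ext h)))).pow
  obtain ⟨t, ht⟩ := Ideal.pi_quotient_surjective hcop fun i => Ideal.Quotient.mk _ (x i)
  have ht' : ∀ m : MaximalSpectrum C', t - x m ∈ m.asIdeal ^ 2 := fun m => by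
    rw [← Ideal.Quotient.eq]
    exact ht m
  have htm : ∀ m : MaximalSpectrum C', t ∈ m.asIdeal := by
    intro m
    have := add_mem (Ideal.pow_le_self two_ne_zero (ht' m)) (hx1 m)
    rwa [sub_add_cancel] at this
  have hmax : ∀ m : MaximalSpectrum C', maximalIdeal (Localization.AtPrime m.asIdeal) =
      Ideal.span {algebraMap C' _ t} := by
    intro m
    have hm := m.isMaximal
    let R := Localization.AtPrime m.asIdeal
    refine le_antisymm ?_ ?_
    · have hfg : (maximalIdeal R).FG := by
        rw [hx2 m]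
        exact Submodule.fg_span_singleton _
      refine Submodule.le_of_le_smul_of_le_jacobson_bot (I := maximalIdeal R) hfg (maximalIdeal_le_jacobson ⊥) ?_
      have h4 : algebraMap C' R (t - x m) ∈ maximalIdeal R ^ 2 := by
        have h5 := Ideal.mem_map_of_mem (algebraMap C' R) (ht' m)
        rwa [Ideal.map_pow, IsLocalization.AtPrime.map_eq_maximalIdeal] at h5
      conv_lhs => rw [hx2 m]
      rw [Ideal.span_singleton_le_iff_mem, Submodule.mem_sup]
      refine ⟨algebraMap C' R t, Ideal.mem_span_singleton_self _, - algebraMap C' R (t - x m), neg_mem ?_, ?_⟩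
      · rw [smul_eq_mul, ← pow_two]
        exact h4
      · rw [map_sub]
        ring
    · rw [Ideal.span_singleton_le_iff_mem, IsLocalization.AtPrime.to_map_mem_maximal_iff R m.asIdeal]
      exact htm m
  refine ⟨t, fun c => ⟨fun hc => ?_, ?_⟩, fun c hc => ?_⟩
  · rw [← Ideal.mem_span_singleton]
    refine Ideal.mem_of_localization_maximal fun P hP => ?_
    have h4 : algebraMap C' (Localization.AtPrime P) c ∈ maximalIdeal (Localization.AtPrime P) :=
      (IsLocalization.AtPrime.to_map_mem_maximal_iff _ P _).mpr (hc ⟨P, hP⟩)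
    rw [hmax ⟨P, hP⟩] at h4
    rw [Ideal.map_span, Set.image_singleton]
    exact h4
  · rintro ⟨d, rfl⟩ m
    exact Ideal.mul_mem_right _ _ (htm m)
  · refine eq_zero_of_localization c fun P hP => ?_
    obtain ⟨_, _⟩ := hdvr ⟨P, hP⟩
    have h4 : algebraMap C' (Localization.AtPrime P) t * algebraMap C' (Localization.AtPrime P) c = 0 := by
      rw [← map_mul, hc, map_zero]
    rcases mul_eq_zero.mp h4 with h5 | h5
    · exfalso
      have h6 := hmax ⟨P, hP⟩
      rw [h5] at h6
      have h7 := hx2 ⟨P, hP⟩
      rw [h6] at h7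
      have h8 : algebraMap C' (Localization.AtPrime P) (x ⟨P, hP⟩) ∈ Ideal.span {(0 : Localization.AtPrime P)} := by
        rw [h7]
        exact Ideal.mem_span_singleton_self _
      rw [Ideal.mem_span_singleton, zero_dvd_iff] at h8
      exact hx3 ⟨P, hP⟩ h8
    · exact h5

/-- The number of extensions is at most the sum of the residue degrees. -/
theorem card_ext_le (A C' Ω : Type u) [CommRing A] [IsLocalRing A] [CommRing C'] [Algebra A C'] [Module.Finite A C']
    [Fintype (MaximalSpectrum C')] [Field Ω] (φ : A →+* Ω) (hφ : RingHom.ker φ = maximalIdeal A)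
    (hover : ∀ m : MaximalSpectrum C', m.asIdeal.comap (algebraMap A C') = maximalIdeal A) :
    ENat.card (Ext (C' := C') φ) ≤ ∑ m : MaximalSpectrum C', Module.length A (C' ⧸ m.asIdeal) := by
  let S := Σ m : MaximalSpectrum C', {σ : C' ⧸ m.asIdeal →+* Ω // σ.comp (algebraMap A (C' ⧸ m.asIdeal)) = φ}
  have hex : ∀ τ : Ext (C' := C') φ, ∃ s : S, ∀ c, s.2.1 (Ideal.Quotient.mk _ c) = τ.1 c := by
    intro τ
    have hker : (RingHom.ker τ.1).IsMaximal := by
      have h1 : (RingHom.ker τ.1).IsPrime := RingHom.ker_isPrime _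
      have h2 : ((RingHom.ker τ.1).comap (algebraMap A C')).IsMaximal := by
        have h3 : (RingHom.ker τ.1).comap (algebraMap A C') = maximalIdeal A := by
          rw [← hφ]
          ext a
          rw [Ideal.mem_comap, RingHom.mem_ker, RingHom.mem_ker]
          have h4 : τ.1 (algebraMap A C' a) = φ a := congrArg (fun f => f a) τ.2
          rw [h4]
        rw [h3]
        exact maximalIdeal.isMaximal A
      exact Ideal.isMaximal_of_isIntegral_of_isMaximal_comap _ h2
    refine ⟨⟨⟨RingHom.ker τ.1, hker⟩, ⟨Ideal.Quotient.lift _ τ.1 fun x hx => hx, ?_⟩⟩, fun c => rfl⟩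
    exact τ.2
  choose F hF using hex
  have hinj : Function.Injective F := by
    intro τ τ' h
    apply Subtype.ext
    apply RingHom.ext
    intro c
    rw [← hF, ← hF, h]
  refine (ENat.card_le_card_of_injective hinj).trans ?_
  have key : ∀ m : MaximalSpectrum C', Finite {σ : C' ⧸ m.asIdeal →+* Ω // σ.comp (algebraMap A (C' ⧸ m.asIdeal)) = φ} ∧
      (Nat.card {σ : C' ⧸ m.asIdeal →+* Ω // σ.comp (algebraMap A (C' ⧸ m.asIdeal)) = φ} : ℕ∞) ≤
        Module.length A (C' ⧸ m.asIdeal) := by
    intro m
    have hm := m.isMaximal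
    let _ : Field (C' ⧸ m.asIdeal) := Ideal.Quotient.field m.asIdeal
    have hker : RingHom.ker (algebraMap A (C' ⧸ m.asIdeal)) = maximalIdeal A := by
      rw [← hover m]
      ext b
      exact Ideal.Quotient.eq_zero_iff_mem
    exact K421.DeltaBranch.card_le_length A (C' ⧸ m.asIdeal) Ω φ hφ hker
  have : ∀ m : MaximalSpectrum C', Finite {σ : C' ⧸ m.asIdeal →+* Ω // σ.comp (algebraMap A (C' ⧸ m.asIdeal)) = φ} :=
    fun m => (key m).1
  rw [ENat.card_eq_coe_natCard, Nat.card_sigma]
  push_cast
  exact Finset.sum_le_sum fun m _ => (key m).2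

/-- The main computation. -/
theorem nodeLike_of_main {A C' : Type*} [CommRing A] [IsLocalRing A] [CommRing C'] [Algebra A C']
    (hinj : Function.Injective (algebraMap A C'))
    (hover : ∀ m : MaximalSpectrum C', m.asIdeal.comap (algebraMap A C') = maximalIdeal A)
    (hJ : ∀ c : C', (∀ m : MaximalSpectrum C', c ∈ m.asIdeal) → c ∈ (algebraMap A C').range)
    {t : C'} (ht : ∀ c, (∀ m : MaximalSpectrum C', c ∈ m.asIdeal) ↔ t ∣ c) (htr : ∀ c, t * c = 0 → c = 0)
    {θ : C'} (hθ : ∀ c : C', ∃ p q : A, c = algebraMap A C' p + algebraMap A C' q * θ)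
    (hθ' : ∀ z : A, θ ≠ algebraMap A C' z) {β γ : A}
    (hrel : θ ^ 2 + algebraMap A C' β * θ + algebraMap A C' γ = 0) (hd : IsUnit (4 * γ - β ^ 2)) : NodeLike A := by
  have hnt : Nontrivial C' := hinj.nontrivial
  obtain ⟨M₀, hM₀⟩ := Ideal.exists_maximal C'
  have hmem : ∀ x : A, x ∈ maximalIdeal A ↔ t ∣ algebraMap A C' x := by
    intro x
    rw [← ht]
    constructor
    · intro hx m
      rw [← hover m] at hx
      exact hx
    · intro hx
      rw [← hover ⟨M₀, hM₀⟩]
      exact hx _
  obtain ⟨b, hb⟩ := hJ t ((ht t).mpr dvd_rfl)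
  obtain ⟨a, ha⟩ := hJ (t * θ) ((ht _).mpr (Dvd.intro _ rfl))
  have hbm : b ∈ maximalIdeal A := by rw [hmem, hb]
  have ham : a ∈ maximalIdeal A := by
    rw [hmem, ha]
    exact Dvd.intro _ rfl
  have hm : maximalIdeal A = Ideal.span {a, b} := by
    refine le_antisymm ?_ ?_
    · intro x hx
      rw [hmem] at hx
      obtain ⟨c, hc⟩ := hx
      obtain ⟨p, q, rfl⟩ := hθ c
      rw [Ideal.mem_span_pair]
      refine ⟨q, p, hinj ?_⟩
      rw [hc, map_add, map_mul, map_mul, ha, hb]
      ring
    · rw [Ideal.span_le]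
      rintro x (hx | hx)
      · rw [hx]; exact ham
      · rw [Set.mem_singleton_iff.mp hx]; exact hbm
  refine ⟨⟨a, b, 1, β, γ, hm, by rwa [mul_one], ?_⟩, ?_⟩
  · apply hinj
    rw [one_mul, map_add, map_add, map_mul, map_mul, map_mul, map_pow, map_pow, map_zero, ha, hb]
    linear_combination t ^ 2 * hrel
  · intro n hn hprin
    obtain ⟨g, hg⟩ := hprin
    rw [Ideal.submodule_span_eq] at hg
    have hpow : ∀ (n : ℕ) (x : A), x ∈ maximalIdeal A ^ n → t ^ n ∣ algebraMap A C' x := by
      intro n x hx
      have h1 : (maximalIdeal A).map (algebraMap A C') ≤ Ideal.span {t} := by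
        rw [Ideal.map_le_iff_le_comap]
        intro y hy
        rw [Ideal.mem_comap, Ideal.mem_span_singleton, ← hmem]
        exact hy
      have h2 := Ideal.mem_map_of_mem (algebraMap A C') hx
      rw [Ideal.map_pow] at h2
      have h3 := Ideal.pow_right_mono h1 n h2
      rwa [Ideal.span_singleton_pow, Ideal.mem_span_singleton] at h3
    obtain ⟨c₀, hc₀⟩ := hpow n g (by rw [hg]; exact Ideal.mem_span_singleton_self g)
    obtain ⟨j, rfl⟩ := Nat.exists_eq_add_of_le' hn
    have h1 : b ^ (j + 1) ∈ maximalIdeal A ^ (j + 1) := Ideal.pow_mem_pow hbm _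
    have h2 : a * b ^ j ∈ maximalIdeal A ^ (j + 1) := by
      rw [pow_succ']
      exact Ideal.mul_mem_mul ham (Ideal.pow_mem_pow hbm _)
    rw [hg, Ideal.mem_span_singleton] at h1 h2
    obtain ⟨u, hu⟩ := h1
    obtain ⟨v, hv⟩ := h2
    have hcancel : ∀ (i : ℕ) (c : C'), t ^ i * c = 0 → c = 0 := by
      intro i
      induction i with
      | zero =>
        intro c hc
        rwa [pow_zero, one_mul] at hc
      | succ i ih =>
        intro c hc
        refine htr c (ih _ ?_)
        rw [← mul_assoc, ← pow_succ, hc]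
    have h3 : c₀ * algebraMap A C' u = 1 := by
      have h4 : t ^ (j + 1) * (c₀ * algebraMap A C' u - 1) = 0 := by
        have h5 := congrArg (algebraMap A C') hu
        rw [map_pow, map_mul, hb, hc₀] at h5
        linear_combination -h5
      exact sub_eq_zero.mp (hcancel _ _ h4)
    have h4 : θ = c₀ * algebraMap A C' v := by
      have h4 : t ^ (j + 1) * (θ - c₀ * algebraMap A C' v) = 0 := by
        have h5 := congrArg (algebraMap A C') hv
        rw [map_mul, map_mul, map_pow, ha, hb, hc₀] at h5
        linear_combination h5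
      exact sub_eq_zero.mp (hcancel _ _ h4)
    have hu' : IsUnit u := by
      by_contra h5
      have h6 : u ∈ maximalIdeal A := (mem_maximalIdeal _).mpr h5
      have h7 : algebraMap A C' u ∈ M₀ := by
        rw [← hover ⟨M₀, hM₀⟩] at h6
        exact h6
      have h8 : IsUnit (algebraMap A C' u) := IsUnit.of_mul_eq_one_right _ h3
      exact hM₀.ne_top (Ideal.eq_top_of_isUnit_mem _ h7 h8)
    obtain ⟨u', hu'⟩ := hu'.exists_right_inv
    have h5 : c₀ = algebraMap A C' u' := by
      have h6 := congrArg (algebraMap A C') hu'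
      rw [map_mul, map_one] at h6
      linear_combination (algebraMap A C' u') * h3 - c₀ * h6
    exact hθ' (u' * v) (by rw [map_mul, ← h5]; exact h4)

/-- A one-dimensional reduced Nagata local ring with delta invariant one and two geometric branches is node-like. -/
theorem nodeLike_of_delta (A : Type u) [CommRing A] [IsLocalRing A] [IsReduced A] (hN : CAlg.IsNagata A)
    (hdim : ringKrullDim A = 1) (hδ : Curv2.deltaInv A = 1) (hg : Brnch.numGeomBranches A = 2) : NodeLike A := by
  have hNoeth : IsNoetherianRing A := hN.1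
  have hfin : Module.Finite A (Cl A) := finite_cl A hN
  have hfinM : Finite (MaximalSpectrum (Cl A)) := K421.DeltaBranch.finite_maximalSpectrum A (Cl A)
  have : Fintype (MaximalSpectrum (Cl A)) := Fintype.ofFinite _
  have hover : ∀ m : MaximalSpectrum (Cl A), m.asIdeal.comap (algebraMap A (Cl A)) = maximalIdeal A := fun m => by
    have := m.isMaximal
    exact comap_eq_maximalIdeal A m.asIdeal
  have hlen : Module.length A (Cl A ⧸ LinearMap.range (Algebra.linearMap A (Cl A))) = 1 := hδ
  have hker : RingHom.ker (toCl A) = maximalIdeal A := by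
    ext x
    rw [RingHom.mem_ker, RingHom.comp_apply, map_eq_zero, residue_eq_zero_iff]
  rw [numGeomBranches_eq] at hg
  have hJ := mem_range_of_length A (Cl A) hover (by rw [hlen]; exact ENat.one_ne_top) (by
    rw [hlen, one_add_one_eq_two, ← hg]
    exact card_ext_le A (Cl A) _ (toCl A) hker hover)
  obtain ⟨t, ht, htr⟩ := exists_uniformizer (Cl A) fun m => by
    have := m.isMaximal
    exact isDiscreteValuationRing_cl A hdim m.asIdeal
  -- the generator of the quotient
  have hsimple : IsSimpleModule A (Cl A ⧸ LinearMap.range (Algebra.linearMap A (Cl A))) :=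
    Module.length_eq_one_iff.mp hlen
  have hnt : Nontrivial (Cl A ⧸ LinearMap.range (Algebra.linearMap A (Cl A))) := hsimple.nontrivial
  obtain ⟨z, hz⟩ := exists_ne (0 : Cl A ⧸ LinearMap.range (Algebra.linearMap A (Cl A)))
  obtain ⟨θ, rfl⟩ := Submodule.Quotient.mk_surjective _ z
  have hθ' : ∀ y : A, θ ≠ algebraMap A (Cl A) y := by
    rintro y rfl
    exact hz ((Submodule.Quotient.mk_eq_zero _).mpr ⟨y, rfl⟩)
  have hθ : ∀ c : Cl A, ∃ p q : A, c = algebraMap A (Cl A) p + algebraMap A (Cl A) q * θ := by
    intro c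
    obtain ⟨q, hq⟩ := (LinearMap.surjective_or_eq_zero (LinearMap.toSpanSingleton A _
      (Submodule.Quotient.mk θ : Cl A ⧸ LinearMap.range (Algebra.linearMap A (Cl A))))).resolve_right (fun h => by
        have h1 := congrArg (fun f => f 1) h
        simp only [LinearMap.toSpanSingleton_apply, one_smul, LinearMap.zero_apply] at h1
        exact hz h1) (Submodule.Quotient.mk c)
    rw [LinearMap.toSpanSingleton_apply, ← Submodule.Quotient.mk_smul, Submodule.Quotient.eq] at hq
    obtain ⟨p, hp⟩ := hq
    refine ⟨-p, q, ?_⟩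
    rw [Algebra.linearMap_apply, Algebra.smul_def] at hp
    rw [map_neg, hp]
    ring
  obtain ⟨p, q, hpq⟩ := hθ (θ ^ 2)
  have hrel : θ ^ 2 + algebraMap A (Cl A) (-q) * θ + algebraMap A (Cl A) (-p) = 0 := by
    rw [hpq, map_neg, map_neg]
    ring
  refine nodeLike_of_main (injective_cl A) hover hJ ht htr hθ hθ' hrel ?_
  by_contra hd
  have h1 := card_le_one (toCl A) hker θ (-q) (-p) hθ hrel ((mem_maximalIdeal _).mpr hd)
  rw [hg] at h1
  exact absurd h1 (by decide)

end K830.NodeOfDelta
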