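import Groth.Agent.Curves.K830.AxesNorm
import Groth.Agent.S7654
import Groth.Agent.S9241
import Mathlib.RingTheory.Ideal.Cotangent

/-!
# Ordinary multiple points of curves: algebra

* `exists_equiv_axes`: completion of a one-dimensional local ring with `δ + 1 = n` branches and a coefficient field;
* `of_equiv_axes`: the converse;
* `finrank_cotangentSpace`: its tangent space has dimension `n`.
-/

set_option autoImplicit false
universe u

open PowerSeries nonZeroDivisors IsLocalRing

namespace K830.OrdPoint

open Axes

theorem exists_equiv_axes (k : Type u) [Field k] (A : Type u) [CommRing A] [IsLocalRing A] [Algebra k A] [IsReduced A]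
    (hdim : ringKrullDim A = 1) (hN : CAlg.IsNagata A)
    (hres : ∀ z : A, ∃ c : k, z - algebraMap k A c ∈ maximalIdeal A)
    (n : ℕ) (hn : Brnch.numBranches A = n) (hδ : Curv2.deltaInv A + 1 = n) :
    ∃ e : AdicCompletion (maximalIdeal A) A ≃+* (MvPowerSeries (Fin n) k ⧸ I k n),
      ∀ c : k, e (algebraMap A _ (algebraMap k A c)) = Ideal.Quotient.mk _ (MvPowerSeries.C c) := by
  obtain ⟨φ, h1, h2, h3, -⟩ := MultiCross.exists_of_deltaInv k A hdim hN hres n hn hδ
  have hn0 : 0 < n := by
    rcases n with _ | n
    · exact absurd hδ (by simp)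
    · exact Nat.succ_pos n
  obtain ⟨e, he⟩ := exists_equiv hn0 φ h1 h3
  refine ⟨e, fun c => he _ _ ?_⟩
  rw [h2]
  funext i
  rw [hom_C]

theorem of_equiv_axes (k : Type u) [Field k] (A : Type u) [CommRing A] [IsLocalRing A] [IsReduced A]
    (hdim : ringKrullDim A = 1) (hN : CAlg.IsNagata A) (n : ℕ)
    (e : AdicCompletion (maximalIdeal A) A ≃+* (MvPowerSeries (Fin n) k ⧸ I k n)) :
    Brnch.numBranches A = n ∧ Curv2.deltaInv A + 1 = n := by
  have hNoeth : IsNoetherianRing A := hN.1
  let B := AdicCompletion (maximalIdeal A) A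
  have hBN : IsNoetherianRing B := Groth.Agent.S0543.result A (maximalIdeal A)
  have hn : 0 < n := by
    rcases n with _ | n
    · exfalso
      have hdimB : ringKrullDim B = 1 := by
        rw [Groth.Agent.CalgB.RegCompletion.ringKrullDim_completion, hdim]
      have hsurj : Function.Surjective ((Ideal.Quotient.mk (I k 0)).comp (MvPowerSeries.C : k →+* _)) := by
        intro z
        obtain ⟨f, rfl⟩ := Ideal.Quotient.mk_surjective z
        refine ⟨MvPowerSeries.constantCoeff f, ?_⟩
        rw [RingHom.comp_apply]
        congr 1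
        ext d
        rw [Subsingleton.elim d 0, MvPowerSeries.coeff_zero_C, MvPowerSeries.coeff_zero_eq_constantCoeff_apply]
      have h1 := ringKrullDim_le_of_surjective ((e.symm : _ →+* B).comp
        ((Ideal.Quotient.mk (I k 0)).comp (MvPowerSeries.C : k →+* _)))
        (e.symm.surjective.comp hsurj)
      rw [hdimB, ringKrullDim_eq_zero_of_field] at h1
      exact absurd h1 (by decide)
    · exact Nat.succ_pos n
  obtain ⟨Φ, h1, -, h3⟩ := exists_map (k := k) hn
  let φ : B →+* (Fin n → PowerSeries k) := Φ.comp (e : B →+* _)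
  have hφ : Function.Injective φ := h1.comp e.injective
  have hr : Set.range φ = tuples k n := by
    rw [← h3]
    exact e.surjective.range_comp Φ
  have h4 := AxesNorm.deltaInv_add_one φ hφ hr hn
  have h5 := AxesNorm.numBranches_eq φ hφ hr hn
  rw [← (Groth.Agent.S9241.result A hdim).1, ← (Groth.Agent.S7654.result A hN hdim).2.2]
  exact ⟨h5, h4⟩

/-- The dimension of the cotangent space. -/
theorem finrank_cotangentSpace (k : Type u) [Field k] (A : Type u) [CommRing A] [IsLocalRing A] [Algebra k A]
    [IsReduced A] (hdim : ringKrullDim A = 1) (hN : CAlg.IsNagata A)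
    (hres : ∀ z : A, ∃ c : k, z - algebraMap k A c ∈ maximalIdeal A)
    (n : ℕ) (hn : Brnch.numBranches A = n) (hδ : Curv2.deltaInv A + 1 = n) :
    Module.finrank (ResidueField A) (CotangentSpace A) = n := by
  have hNoeth : IsNoetherianRing A := hN.1
  obtain ⟨φ, h1, h2, h3, h4, h5⟩ := MultiCross.exists_of_deltaInv k A hdim hN hres n hn hδ
  have hn0 : 0 < n := by
    rcases n with _ | n
    · exact absurd hδ (by simp)
    · exact Nat.succ_pos n
  let i₀ : Fin n := ⟨0, hn0⟩
  let θ : A →+* (Fin n → PowerSeries k) := φ.comp (algebraMap A _)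
  have hθ : ∀ a i j, constantCoeff (θ a i) = constantCoeff (θ a j) := by
    intro a
    have h6 : θ a ∈ Set.range φ := ⟨_, rfl⟩
    rw [h3] at h6
    exact h6
  let ε : A →+* k := (constantCoeff (R := k)).comp ((Pi.evalRingHom (fun _ : Fin n => PowerSeries k) i₀).comp θ)
  have hε : ∀ a i, constantCoeff (θ a i) = ε a := fun a i => hθ a i i₀
  have hεs : Function.Surjective ε := by
    intro c
    refine ⟨algebraMap k A c, ?_⟩
    rw [← hε _ i₀]
    change constantCoeff (φ (algebraMap A _ (algebraMap k A c)) i₀) = c
    rw [h2, constantCoeff_C]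
  have hm : ∀ a ∈ maximalIdeal A, ∀ i, constantCoeff (θ a i) = 0 := by
    intro a ha i
    have h6 := (h4 1 a).mp (by rwa [pow_one]) i
    rw [pow_one, X_dvd_iff] at h6
    exact h6
  let _ : Algebra A k := ε.toAlgebra
  let f : maximalIdeal A →ₗ[A] (Fin n → k) :=
    { toFun := fun x i => coeff 1 (θ x i)
      map_add' := fun x y => by
        funext i
        rw [Submodule.coe_add, map_add, Pi.add_apply, Pi.add_apply, map_add]
      map_smul' := fun a x => by
        funext i
        change coeff 1 (θ (a * x) i) = ε a * coeff 1 (θ x i)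
        rw [map_mul, Pi.mul_apply, coeff_one_mul, hm x x.2 i, hε, mul_zero, zero_add, mul_comm] }
  have hf : Function.Surjective f := by
    intro w
    obtain ⟨a, ha⟩ := h5 2 (fun i => C (w i) * X) (fun i j => by
      rw [map_mul, map_mul, constantCoeff_X, mul_zero, mul_zero])
    have ha' : ∀ i, coeff 0 (θ a i) = 0 ∧ coeff 1 (θ a i) = w i := by
      intro i
      have h6 := X_pow_dvd_iff.mp (ha i)
      have h7 := h6 0 (by norm_num)
      have h8 := h6 1 (by norm_num)
      rw [map_sub, sub_eq_zero] at h7 h8
      constructor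
      · refine h7.symm.trans ?_
        rw [coeff_zero_mul_X]
      · refine h8.symm.trans ?_
        rw [show (1 : ℕ) = 0 + 1 from rfl, coeff_succ_mul_X, coeff_zero_C]
    have ham : a ∈ maximalIdeal A := by
      have h6 := (h4 1 a).mpr fun i => by
        rw [pow_one, X_dvd_iff, ← coeff_zero_eq_constantCoeff_apply]
        exact (ha' i).1
      rwa [pow_one] at h6
    exact ⟨⟨a, ham⟩, funext fun i => (ha' i).2⟩
  have hker : LinearMap.ker f = LinearMap.ker (maximalIdeal A).toCotangent := by
    ext x
    rw [LinearMap.mem_ker, LinearMap.mem_ker, Ideal.toCotangent_eq_zero, h4]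
    constructor
    · intro hx i
      rw [X_pow_dvd_iff]
      intro d hd
      interval_cases d
      · exact (coeff_zero_eq_constantCoeff_apply _).trans (hm x x.2 i)
      · exact congrFun hx i
    · intro hx
      funext i
      exact (X_pow_dvd_iff.mp (hx i)) 1 (by norm_num)
  let L : CotangentSpace A ≃ₗ[A] (Fin n → k) :=
    ((maximalIdeal A).toCotangent.quotKerEquivOfSurjective (maximalIdeal A).toCotangent_surjective).symm ≪≫ₗ
      (Submodule.quotEquivOfEq _ _ hker.symm) ≪≫ₗ (f.quotKerEquivOfSurjective hf)
  have h6 : (Module.finrank (ResidueField A) (CotangentSpace A) : ℕ∞) = n := by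
    rw [← Module.length_eq_finrank, ← Module.length_eq_of_surjective (residue_surjective (R := A)), L.length_eq,
      Module.length_eq_of_surjective (M := Fin n → k) (show Function.Surjective (algebraMap A k) from hεs),
      Module.length_eq_finrank, Module.finrank_fin_fun]
  exact_mod_cast h6

end K830.OrdPoint
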