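import Groth.Agent.Lefpen.H705.Completion
import Mathlib.RingTheory.AdicCompletion.Algebra
import Mathlib.RingTheory.MvPowerSeries.Rename
import Mathlib.RingTheory.PowerSeries.Trunc

/-!
# Completions and products of power series rings

* `exists_completion_map`: let `θ : A → ∏ k[[X]]` be a ring map such that `I ^ r` consists of the elements whose
  image is divisible by `X ^ r`, and let `S` be a closed set in which the image is dense. The completion of `A` embeds
  in the product, with image `S`.
* `exists_map_of_dvr`: a discrete valuation ring with a coefficient field maps to `k[[X]]`, identifying the quotients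
  by powers of the maximal ideals.
* `exists_map_of_maximal`: the same for a ring at a maximal ideal whose local ring is a discrete valuation ring.
-/

set_option autoImplicit false

open IsLocalRing PowerSeries

namespace K830.SubPow

theorem eq_of_dvd {k : Type*} [Field k] {f g : PowerSeries k} (h : ∀ r : ℕ, (X : PowerSeries k) ^ r ∣ f - g) :
    f = g := by
  ext d
  have := (X_pow_dvd_iff.mp (h (d + 1))) d (Nat.lt_succ_self d)
  rwa [map_sub, sub_eq_zero] at this

section Completion

variable {k A : Type*} [Field k] [CommRing A] (I : Ideal A) {ι : Type*} (θ : A →+* (ι → PowerSeries k))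

/-- A representative modulo `I ^ r`. -/
noncomputable def rep (x : AdicCompletion I A) (r : ℕ) : A :=
  (Ideal.Quotient.mk_surjective (AdicCompletion.evalₐ I r x)).choose

theorem mk_rep (x : AdicCompletion I A) (r : ℕ) : Ideal.Quotient.mk (I ^ r) (rep I x r) = AdicCompletion.evalₐ I r x :=
  (Ideal.Quotient.mk_surjective (AdicCompletion.evalₐ I r x)).choose_spec

theorem factor_evalₐ {m n : ℕ} (hmn : m ≤ n) (x : AdicCompletion I A) :
    Ideal.Quotient.factor (Ideal.pow_le_pow_right hmn) (AdicCompletion.evalₐ I n x) = AdicCompletion.evalₐ I m x := by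
  obtain ⟨a, rfl⟩ := AdicCompletion.mk_surjective I A x
  rw [AdicCompletion.evalₐ_mk, AdicCompletion.evalₐ_mk, Ideal.Quotient.factor_mk]
  have := a.2 hmn
  rw [SModEq.sub_mem, smul_eq_mul, Ideal.mul_top] at this
  rw [Ideal.Quotient.eq, ← neg_sub]
  exact neg_mem this

theorem rep_sub_mem {m n : ℕ} (hmn : m ≤ n) (x : AdicCompletion I A) : rep I x n - rep I x m ∈ I ^ m := by
  rw [← Ideal.Quotient.eq, mk_rep, ← factor_evalₐ I hmn x, ← mk_rep I x n, Ideal.Quotient.factor_mk]

/-- The limit of `θ`, as a function. -/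
noncomputable def lim (x : AdicCompletion I A) (i : ι) : PowerSeries k :=
  PowerSeries.mk fun d => coeff d (θ (rep I x (d + 1)) i)

variable (h1 : ∀ r a, a ∈ I ^ r → ∀ i, (X : PowerSeries k) ^ r ∣ θ a i)

include h1 in
theorem dvd_lim_sub (x : AdicCompletion I A) (i : ι) (r : ℕ) (a : A)
    (ha : Ideal.Quotient.mk (I ^ r) a = AdicCompletion.evalₐ I r x) :
    (X : PowerSeries k) ^ r ∣ lim I θ x i - θ a i := by
  rw [X_pow_dvd_iff]
  intro d hd
  rw [map_sub, lim, coeff_mk, ← map_sub]
  have h2 : rep I x (d + 1) - a ∈ I ^ (d + 1) := by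
    have h3 : rep I x r - a ∈ I ^ r := by
      rw [← Ideal.Quotient.eq, mk_rep, ha]
    have h4 := rep_sub_mem I (show d + 1 ≤ r by omega) x
    have h5 := sub_mem (Ideal.pow_le_pow_right (show d + 1 ≤ r by omega) h3) h4
    have h6 : rep I x r - a - (rep I x r - rep I x (d + 1)) = rep I x (d + 1) - a := by ring
    rwa [h6] at h5
  have h3 := h1 _ _ h2 i
  rw [map_sub, Pi.sub_apply] at h3
  exact (X_pow_dvd_iff.mp h3) d (Nat.lt_succ_self d)

include h1 in
theorem lim_unique (x : AdicCompletion I A) (i : ι) (f : PowerSeries k)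
    (hf : ∀ r : ℕ, ∃ a : A, Ideal.Quotient.mk (I ^ r) a = AdicCompletion.evalₐ I r x ∧
      (X : PowerSeries k) ^ r ∣ f - θ a i) : lim I θ x i = f := by
  refine eq_of_dvd fun r => ?_
  obtain ⟨a, ha, hfa⟩ := hf r
  have h2 := dvd_lim_sub I θ h1 x i r a ha
  have h3 := dvd_sub h2 hfa
  rwa [sub_sub_sub_cancel_right] at h3

/-- The limit of `θ`, as a ring homomorphism. -/
noncomputable def limHom : AdicCompletion I A →+* (ι → PowerSeries k) where
  toFun x := lim I θ x
  map_one' := by
    funext i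
    refine lim_unique I θ h1 _ i _ fun r => ⟨1, by rw [map_one, map_one], ?_⟩
    rw [map_one, sub_self]
    exact dvd_zero _
  map_zero' := by
    funext i
    refine lim_unique I θ h1 _ i _ fun r => ⟨0, by rw [map_zero, map_zero], ?_⟩
    rw [map_zero, sub_self]
    exact dvd_zero _
  map_mul' x y := by
    funext i
    refine lim_unique I θ h1 _ i _ fun r => ⟨rep I x r * rep I y r, by rw [map_mul, map_mul, mk_rep, mk_rep], ?_⟩
    rw [map_mul, Pi.mul_apply, Pi.mul_apply]
    have hx := dvd_lim_sub I θ h1 x i r _ (mk_rep I x r)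
    have hy := dvd_lim_sub I θ h1 y i r _ (mk_rep I y r)
    have h2 : lim I θ x i * lim I θ y i - θ (rep I x r) i * θ (rep I y r) i =
      (lim I θ x i - θ (rep I x r) i) * lim I θ y i + θ (rep I x r) i * (lim I θ y i - θ (rep I y r) i) := by ring
    rw [h2]
    exact dvd_add (Dvd.dvd.mul_right hx _) (Dvd.dvd.mul_left hy _)
  map_add' x y := by
    funext i
    refine lim_unique I θ h1 _ i _ fun r => ⟨rep I x r + rep I y r, by rw [map_add, map_add, mk_rep, mk_rep], ?_⟩
    rw [map_add, Pi.add_apply, Pi.add_apply]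
    have hx := dvd_lim_sub I θ h1 x i r _ (mk_rep I x r)
    have hy := dvd_lim_sub I θ h1 y i r _ (mk_rep I y r)
    rw [add_sub_add_comm]
    exact dvd_add hx hy

/-- The completion of a ring dense in a closed subset of a product of power series rings. -/
theorem exists_completion_map (S : Set (ι → PowerSeries k))
    (hS : ∀ f, (∀ r : ℕ, ∃ a, ∀ i, (X : PowerSeries k) ^ r ∣ f i - θ a i) ↔ f ∈ S)
    (h : ∀ r a, a ∈ I ^ r ↔ ∀ i, (X : PowerSeries k) ^ r ∣ θ a i) :
    ∃ φ : AdicCompletion I A →+* (ι → PowerSeries k), Function.Injective φ ∧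
      (∀ a, φ (algebraMap A _ a) = θ a) ∧ Set.range φ = S := by
  have h1 : ∀ r a, a ∈ I ^ r → ∀ i, (X : PowerSeries k) ^ r ∣ θ a i := fun r a ha => (h r a).mp ha
  refine ⟨limHom I θ h1, ?_, ?_, ?_⟩
  · rw [injective_iff_map_eq_zero]
    intro x hx
    refine AdicCompletion.ext_evalₐ fun r => ?_
    rw [map_zero, ← mk_rep, Ideal.Quotient.eq_zero_iff_mem, h]
    intro i
    have h2 := dvd_lim_sub I θ h1 x i r _ (mk_rep I x r)
    have h3 : lim I θ x i = 0 := congrFun hx i
    rw [h3, zero_sub, dvd_neg] at h2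
    exact h2
  · intro a
    funext i
    refine lim_unique I θ h1 _ i _ fun r => ⟨a, ?_, ?_⟩
    · exact (AdicCompletion.evalₐ_of I r a).symm
    · rw [sub_self]
      exact dvd_zero _
  · ext f
    constructor
    · rintro ⟨x, rfl⟩
      rw [← hS]
      intro r
      exact ⟨rep I x r, fun i => dvd_lim_sub I θ h1 x i r _ (mk_rep I x r)⟩
    · intro hf
      choose a ha using (hS f).mpr hf
      have hc : AdicCompletion.IsAdicCauchy I A a := by
        intro m n hmn
        rw [SModEq.sub_mem, smul_eq_mul, Ideal.mul_top, h]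
        intro i
        have h2 := ha m i
        have h3 := (pow_dvd_pow (X : PowerSeries k) hmn).trans (ha n i)
        have h4 := dvd_sub h3 h2
        rw [sub_sub_sub_cancel_left] at h4
        rw [map_sub, Pi.sub_apply]
        exact h4
      refine ⟨AdicCompletion.mk I A ⟨a, hc⟩, ?_⟩
      funext i
      refine lim_unique I θ h1 _ i _ fun r => ⟨a r, ?_, ha r i⟩
      exact (AdicCompletion.evalₐ_mk I r ⟨a, hc⟩).symm

end Completion

/-- A discrete valuation ring with a coefficient field maps to the power series ring. -/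
theorem exists_map_of_dvr {k R : Type*} [Field k] [CommRing R] [IsDomain R] [IsDiscreteValuationRing R]
    (φ : k →+* R) (hres : ∀ z : R, ∃ c : k, z - φ c ∈ maximalIdeal R) :
    ∃ ψ : R →+* PowerSeries k, (∀ c, ψ (φ c) = C c) ∧
      (∀ r x, (X : PowerSeries k) ^ r ∣ ψ x ↔ x ∈ maximalIdeal R ^ r) ∧
      (∀ (r : ℕ) (f : PowerSeries k), ∃ x, (X : PowerSeries k) ^ r ∣ f - ψ x) := by
  obtain ⟨π, hπ⟩ := IsDiscreteValuationRing.exists_irreducible R
  have hm := hπ.maximalIdeal_eq
  have hdim : ringKrullDim R = ((1 : ℕ) : WithBot ℕ∞) := by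
    rw [IsPrincipalIdealRing.ringKrullDim_eq_one R (IsDiscreteValuationRing.not_isField R)]
    rfl
  obtain ⟨e, he1, he2, -⟩ := Groth.Agent.Lefpen.H705.Completion.exists_completion_equiv φ hres 1 (fun _ => π)
    (by rw [Set.range_const]; exact hm.symm) hdim
  let ρ : MvPowerSeries (Fin 1) k ≃ₐ[k] MvPowerSeries Unit k :=
    MvPowerSeries.renameEquiv k (Equiv.ofUnique (Fin 1) Unit)
  have hρ1 : ∀ c, ρ (MvPowerSeries.C c) = (C c : PowerSeries k) := fun c => by
    change MvPowerSeries.rename _ _ = _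
    rw [MvPowerSeries.rename_C]
    rfl
  have hρ2 : ρ (MvPowerSeries.X 0) = (X : PowerSeries k) := by
    change MvPowerSeries.rename _ _ = _
    rw [MvPowerSeries.rename_X]
    rfl
  let ψ : R →+* PowerSeries k := (ρ : MvPowerSeries (Fin 1) k →+* MvPowerSeries Unit k).comp
    ((e : _ →+* _).comp (algebraMap R (AdicCompletion (maximalIdeal R) R)))
  have h1 : ∀ c, ψ (φ c) = C c := fun c => by
    change ρ (e (algebraMap R _ (φ c))) = _
    rw [he1, hρ1]
  have h2 : ψ π = X := by
    change ρ (e (algebraMap R _ π)) = _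
    rw [he2 0, hρ2]
  refine ⟨ψ, h1, ?_, ?_⟩
  · intro r x
    rw [hm, Ideal.span_singleton_pow, Ideal.mem_span_singleton]
    constructor
    · intro hx
      rcases eq_or_ne x 0 with rfl | hx0
      · exact dvd_zero _
      obtain ⟨s, u, rfl⟩ := IsDiscreteValuationRing.eq_unit_mul_pow_irreducible hx0 hπ
      rw [map_mul, map_pow, h2] at hx
      have h3 : IsUnit (ψ (u : R)) := u.isUnit.map ψ
      have h4 : (X : PowerSeries k) ^ r ∣ X ^ s := (h3.dvd_mul_left).mp hx
      have h5 : r ≤ s := by
        by_contra hrs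
        have h6 := (X_pow_dvd_iff.mp h4) s (by omega)
        rw [coeff_X_pow_self] at h6
        exact one_ne_zero h6
      exact (pow_dvd_pow π h5).mul_left _
    · rintro ⟨y, rfl⟩
      rw [map_mul, map_pow, h2]
      exact Dvd.intro _ rfl
  · intro r f
    refine ⟨Polynomial.eval₂ φ π (trunc r f), ?_⟩
    have h3 : ψ (Polynomial.eval₂ φ π (trunc r f)) = (trunc r f : PowerSeries k) := by
      rw [Polynomial.hom_eval₂, h2]
      have h4 : ψ.comp φ = (C : k →+* PowerSeries k) := RingHom.ext h1
      rw [h4, Polynomial.eval₂_C_X_eq_coe]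
    rw [h3, X_pow_dvd_iff]
    intro d hd
    rw [map_sub, Polynomial.coeff_coe, coeff_trunc, if_pos hd, sub_self]

/-- A ring with a coefficient field at a maximal ideal whose local ring is a discrete valuation ring. -/
theorem exists_map_of_maximal {k C' : Type*} [Field k] [CommRing C'] (φ : k →+* C') (M : Ideal C') [hM : M.IsMaximal]
    (hdvr : ∃ _ : IsDomain (Localization.AtPrime M), IsDiscreteValuationRing (Localization.AtPrime M))
    (hres : ∀ z : C', ∃ c : k, z - φ c ∈ M) :
    ∃ ψ : C' →+* PowerSeries k, (∀ c, ψ (φ c) = C c) ∧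
      (∀ r x, (X : PowerSeries k) ^ r ∣ ψ x ↔ x ∈ M ^ r) ∧
      (∀ (r : ℕ) (f : PowerSeries k), ∃ x, (X : PowerSeries k) ^ r ∣ f - ψ x) := by
  obtain ⟨_, _⟩ := hdvr
  let R := Localization.AtPrime M
  have hsurj : ∀ (r : ℕ) (z : R), ∃ x : C', z - algebraMap C' R x ∈ maximalIdeal R ^ r := by
    intro r z
    obtain ⟨x, hx⟩ := Ideal.Quotient.mk_surjective
      ((IsLocalization.AtPrime.equivQuotMaximalIdealPow M R r).symm (Ideal.Quotient.mk _ z))
    refine ⟨x, ?_⟩
    rw [AlgEquiv.eq_symm_apply] at hx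
    rw [← Ideal.Quotient.eq, ← hx, IsLocalization.AtPrime.equivQuotMaximalIdealPow_apply_mk]
  obtain ⟨ψ, h1, h2, h3⟩ := exists_map_of_dvr ((algebraMap C' R).comp φ) (fun z => by
    obtain ⟨x, hx⟩ := hsurj 1 z
    obtain ⟨c, hc⟩ := hres x
    refine ⟨c, ?_⟩
    rw [pow_one] at hx
    have h4 : algebraMap C' R (x - φ c) ∈ maximalIdeal R :=
      (IsLocalization.AtPrime.to_map_mem_maximal_iff R M _).mpr hc
    have h5 := add_mem hx h4
    rw [map_sub] at h5
    simpa using h5)
  refine ⟨ψ.comp (algebraMap C' R), h1, fun r x => ?_, fun r f => ?_⟩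
  · rw [RingHom.comp_apply, h2, ← IsLocalization.AtPrime.under_maximalIdeal_pow M (Rₚ := R) r]
    rfl
  · obtain ⟨z, hz⟩ := h3 r f
    obtain ⟨x, hx⟩ := hsurj r z
    refine ⟨x, ?_⟩
    rw [← h2, map_sub] at hx
    have := dvd_add hz hx
    rwa [sub_add_sub_cancel] at this

end K830.SubPow
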